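import Groth.Agent.Lib.Helper49.Serre2
import Mathlib.RingTheory.Flat.Localization

/-!
# `I`-depth is the infimum of the local depths over `V(I)` (helper49)

Namespace `Groth.Agent.Lib.Helper49.Serre`.

* `le_idealDepth_iff` : `k ≤ depth_I M ↔ ∀ p ⊇ I, k ≤ depth_{R_p} M_p`
* `idealDepth_eq_of_radical_eq` : the `I`-depth only depends on the radical of `I`
-/

set_option autoImplicit false
universe u

open IsLocalRing Pointwise RingTheory.Sequence

namespace Groth.Agent.Lib.Helper49.Serre

open Groth.Agent.Lib.Helper29 Groth.Agent.Lib.Helper29.DepthLib Groth.Agent.Lib.Helper29.CMLib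

section

variable {R : Type u} [CommRing R]

/-- Depth of a zero module is `⊤`. -/
theorem depth_eq_top_of_subsingleton (A : Type u) [CommRing A] [IsLocalRing A] (N : Type u)
    [AddCommGroup N] [Module A N] [Subsingleton N] : LocCoh.depth A N = ⊤ := by
  unfold LocCoh.depth LocCoh.idealDepth
  rw [if_pos (Subsingleton.elim _ _)]

/-- If `IM = M` then `M_p = 0` for every prime `p ⊇ I`. -/
theorem subsingleton_localizedModule_of_smul_top_eq_top (M : Type u) [AddCommGroup M] [Module R M]
    [Module.Finite R M] {I : Ideal R} (hIM : I • (⊤ : Submodule R M) = ⊤) (p : Ideal R) [p.IsPrime]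
    (hIp : I ≤ p) : Subsingleton (LocalizedModule p.primeCompl M) := by
  obtain ⟨r, hr, hr0⟩ := Submodule.exists_sub_one_mem_and_smul_eq_zero_of_fg_of_le_smul I
    (⊤ : Submodule R M) Module.Finite.fg_top (by rw [hIM])
  rw [LocalizedModule.subsingleton_iff]
  intro m
  refine ⟨r, ?_, hr0 m Submodule.mem_top⟩
  intro hrp
  apply (Ideal.ne_top_iff_one p).mp (Ideal.IsPrime.ne_top inferInstance)
  have : r - (r - 1) ∈ p := p.sub_mem hrp (hIp hr)
  simpa using this

variable [IsNoetherianRing R]

/-- Localizing `M/xM` at `p ∋ x` for `x` an `M`-regular element drops the depth by one (also for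
`M_p = 0`, where both sides are `⊤`). -/
theorem depth_localizedModule_quotSMulTop_add_one' (M : Type u) [AddCommGroup M] [Module R M]
    [Module.Finite R M] (p : Ideal R) [p.IsPrime] {x : R} (hxp : x ∈ p) (hx : IsSMulRegular M x) :
    LocCoh.depth (Localization.AtPrime p) (LocalizedModule p.primeCompl (QuotSMulTop x M)) + 1 =
      LocCoh.depth (Localization.AtPrime p) (LocalizedModule p.primeCompl M) := by
  rcases subsingleton_or_nontrivial (LocalizedModule p.primeCompl M) with h | h
  · have : Subsingleton (LocalizedModule p.primeCompl (QuotSMulTop x M)) :=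
      (LocalizedModule.map_surjective p.primeCompl _
        (Submodule.mkQ_surjective (x • (⊤ : Submodule R M)))).subsingleton
    rw [depth_eq_top_of_subsingleton, depth_eq_top_of_subsingleton]
    rfl
  · exact depth_localizedModule_quotSMulTop_add_one M p hxp
      (IsSMulRegular.of_isLocalizedModule (Localization.AtPrime p) p.primeCompl
        (LocalizedModule.mkLinearMap p.primeCompl M) hx)

/-- If every local depth over `V(I)` is positive then `I` contains an `M`-regular element. -/
theorem exists_isSMulRegular_of_forall_depth_pos (M : Type u) [AddCommGroup M] [Module R M]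
    [Module.Finite R M] (I : Ideal R)
    (h : ∀ (p : Ideal R) [p.IsPrime], I ≤ p →
      (1 : ℕ∞) ≤ LocCoh.depth (Localization.AtPrime p) (LocalizedModule p.primeCompl M)) :
    ∃ x ∈ I, IsSMulRegular M x := by
  by_contra hcon
  push Not at hcon
  have hsub : ((I : Ideal R) : Set R) ⊆ ⋃ p ∈ associatedPrimes R M, (p : Set R) := by
    intro x hx
    exact (not_isSMulRegular_iff_mem_biUnion_ass R M x).mp (hcon x hx)
  have hfin : (associatedPrimes R M).Finite := associatedPrimes.finite R M
  have hsub' : ((I : Ideal R) : Set R) ⊆
      ⋃ p ∈ ((hfin.toFinset : Finset (Ideal R)) : Set (Ideal R)), ((id p : Ideal R) : Set R) := by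
    simpa using hsub
  rw [Ideal.subset_union_prime (f := id) I I] at hsub'
  · obtain ⟨p, hp, hle⟩ := hsub'
    have hp' : p ∈ associatedPrimes R M := by simpa using hp
    have hprime : p.IsPrime := hp'.isPrime
    have h0 := (depth_localizedModule_eq_zero_iff M p).mpr hp'
    have h1 := h p hle
    rw [h0] at h1
    simp at h1
  · intro p hp _ _
    have hp' : p ∈ associatedPrimes R M := by simpa using hp
    exact hp'.isPrime

/-- **`depth_I M = inf_{p ⊇ I} depth M_p`**, in the form of a `≤`-characterisation. -/
theorem le_idealDepth_iff (k : ℕ) : ∀ (M : Type u) [AddCommGroup M] [Module R M]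
    [Module.Finite R M] (I : Ideal R),
    (k : ℕ∞) ≤ LocCoh.idealDepth I M ↔
      ∀ (p : Ideal R) [p.IsPrime], I ≤ p →
        (k : ℕ∞) ≤ LocCoh.depth (Localization.AtPrime p) (LocalizedModule p.primeCompl M) := by
  induction k with
  | zero => intro M _ _ _ I; simp
  | succ k ih =>
    intro M _ _ _ I
    by_cases hIM : I • (⊤ : Submodule R M) = ⊤
    · -- both sides trivially true
      have h1 : LocCoh.idealDepth I M = ⊤ := by
        unfold LocCoh.idealDepth; rw [if_pos hIM]
      rw [h1]
      refine ⟨fun _ p _ hIp => ?_, fun _ => le_top⟩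
      have := subsingleton_localizedModule_of_smul_top_eq_top M hIM p hIp
      rw [depth_eq_top_of_subsingleton]
      exact le_top
    · constructor
      · intro h p _ hIp
        obtain ⟨rs, hreg, hmem, -, hlen⟩ := exists_maximal_regular I M hIM
        rw [← hlen] at h
        cases rs with
        | nil => simp at h
        | cons x rs' =>
          have hx : IsSMulRegular M x := ((isWeaklyRegular_cons_iff M x rs').mp hreg).1
          have hxI : x ∈ I := hmem x (by simp)
          have hadd := idealDepth_quotSMulTop_add_one I M hIM hxI hx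
          have hk : (k : ℕ∞) ≤ LocCoh.idealDepth I (QuotSMulTop x M) := by
            rw [hlen, ← hadd] at h
            have h' : (k : ℕ∞) + 1 ≤ LocCoh.idealDepth I (QuotSMulTop x M) + 1 := by
              exact_mod_cast h
            exact (ENat.add_le_add_iff_right ENat.one_ne_top).mp h'
          have := (ih (QuotSMulTop x M) I).mp hk p hIp
          rw [← depth_localizedModule_quotSMulTop_add_one' M p (hIp hxI) hx]
          push_cast
          exact add_le_add_left this 1
      · intro h
        obtain ⟨x, hxI, hx⟩ := exists_isSMulRegular_of_forall_depth_pos M I (fun p _ hIp =>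
          le_trans (by exact_mod_cast Nat.succ_le_succ (Nat.zero_le k)) (h p hIp))
        have hadd := idealDepth_quotSMulTop_add_one I M hIM hxI hx
        rw [← hadd]
        have hk : (k : ℕ∞) ≤ LocCoh.idealDepth I (QuotSMulTop x M) := by
          rw [ih (QuotSMulTop x M) I]
          intro p _ hIp
          have h1 := h p hIp
          rw [← depth_localizedModule_quotSMulTop_add_one' M p (hIp hxI) hx] at h1
          have h' : (k : ℕ∞) + 1 ≤ LocCoh.depth (Localization.AtPrime p)
              (LocalizedModule p.primeCompl (QuotSMulTop x M)) + 1 := by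
            exact_mod_cast h1
          exact (ENat.add_le_add_iff_right ENat.one_ne_top).mp h'
        push_cast
        exact add_le_add_left hk 1

/-- The `I`-depth only depends on the set of primes containing `I`. -/
theorem idealDepth_eq_of_forall_prime (M : Type u) [AddCommGroup M] [Module R M]
    [Module.Finite R M] {I J : Ideal R} (h : ∀ (p : Ideal R) [p.IsPrime], I ≤ p ↔ J ≤ p) :
    LocCoh.idealDepth I M = LocCoh.idealDepth J M := by
  apply ENat.eq_of_forall_natCast_le_iff
  intro k
  rw [le_idealDepth_iff, le_idealDepth_iff]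
  exact forall_congr' fun p => forall_congr' fun hp => by rw [h p]

/-- The `I`-depth only depends on the radical of `I`. -/
theorem idealDepth_eq_of_radical_eq (M : Type u) [AddCommGroup M] [Module R M]
    [Module.Finite R M] {I J : Ideal R} (h : I.radical = J.radical) :
    LocCoh.idealDepth I M = LocCoh.idealDepth J M := by
  apply idealDepth_eq_of_forall_prime
  intro p hp
  rw [← hp.radical_le_iff, h, hp.radical_le_iff]

/-- **S18699**: `(S_k)` and codimension `≥ k` along `V(I)` give `depth_I M ≥ k`. -/
theorem le_idealDepth_of_hasSk (k : ℕ) (M : Type u) [AddCommGroup M] [Module R M]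
    [Module.Finite R M] (I : Ideal R) (hS : LocCoh.HasSk k R M)
    (hcodim : ∀ p : PrimeSpectrum R, I ≤ p.asIdeal → p ∈ Module.support R M →
      (k : WithBot ℕ∞) ≤ Module.supportDim (Localization.AtPrime p.asIdeal)
        (LocalizedModule p.asIdeal.primeCompl M)) :
    (k : ℕ∞) ≤ LocCoh.idealDepth I M := by
  rw [le_idealDepth_iff]
  intro p hp hIp
  by_cases hsupp : (⟨p, hp⟩ : PrimeSpectrum R) ∈ Module.support R M
  · have h1 := hcodim ⟨p, hp⟩ hIp hsupp
    have h2 := hS p
    rw [min_eq_left h1] at h2
    exact_mod_cast h2
  · rw [Module.notMem_support_iff] at hsupp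
    rw [depth_eq_top_of_subsingleton]
    exact le_top

end

end Groth.Agent.Lib.Helper49.Serre
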