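import Groth.Agent.Lib.Helper49.Serre4
import Groth.Agent.S0565
import Groth.Agent.Lib.Helper49.DepthLoc
import Groth.Agent.Lib.Helper29.DepthFlat
import Mathlib.RingTheory.Flat.FaithfullyFlat.Algebra
import Mathlib.RingTheory.Flat.Localization
import Mathlib.RingTheory.Ideal.GoingDown
import Mathlib.RingTheory.Ideal.KrullsHeightTheorem

/-!
# Faithfully flat descent of `(R_k)` and `(S_k)` (helper49)

Namespace `Groth.Agent.Lib.Helper49.Serre`.
-/

set_option autoImplicit false
universe u

open IsLocalRing Pointwise

namespace Groth.Agent.Lib.Helper49.Serre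

section Descent

variable (R S : Type u) [CommRing R] [CommRing S] [Algebra R S] [Module.FaithfullyFlat R S]

/-- Noetherianity descends along faithfully flat ring maps. -/
theorem isNoetherianRing_of_faithfullyFlat [IsNoetherianRing S] : IsNoetherianRing R := by
  have hS : WellFoundedGT (Ideal S) := (isNoetherian_iff' (R := S) (M := S)).mp inferInstance
  rw [isNoetherianRing_iff, isNoetherian_iff']
  exact StrictMono.wellFoundedGT (f := Ideal.map (algebraMap R S))
    (Monotone.strictMono_of_injective (fun _ _ h => Ideal.map_mono h)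
      (Ideal.map_injective_of_faithfullyFlat))

variable {R} in
/-- Over a prime `p` there is a prime `q`, minimal over `pS`, with the same height. -/
theorem exists_liesOver_height_eq [IsNoetherianRing S] (p : Ideal R) [p.IsPrime] :
    ∃ q : Ideal S, q.IsPrime ∧ q.LiesOver p ∧ q ∈ (p.map (algebraMap R S)).minimalPrimes ∧
      q.height = p.height := by
  have hR : IsNoetherianRing R := isNoetherianRing_of_faithfullyFlat R S
  obtain ⟨Q, hQ, hQp⟩ := Ideal.exists_isPrime_liesOver_of_faithfullyFlat (B := S) p
  have hle : p.map (algebraMap R S) ≤ Q := by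
    rw [Ideal.map_le_iff_le_comap]; exact le_of_eq hQp.over
  obtain ⟨q, hqmin, hqQ⟩ := Ideal.exists_minimalPrimes_le hle
  have hqprime : q.IsPrime := hqmin.1.1
  have hqp : q.LiesOver p := ⟨by
    apply le_antisymm
    · rw [← Ideal.map_le_iff_le_comap]; exact hqmin.1.2
    · rw [hQp.over]; exact Ideal.comap_mono hqQ⟩
  refine ⟨q, hqprime, hqp, hqmin, ?_⟩
  rw [Ideal.height_eq_height_add_of_liesOver_of_hasGoingDown p q]
  have h0 : (q.map (Ideal.Quotient.mk (p.map (algebraMap R S)))).height = 0 := by
    have hsurj := Ideal.Quotient.mk_surjective (I := p.map (algebraMap R S))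
    have hker : RingHom.ker (Ideal.Quotient.mk (p.map (algebraMap R S))) ≤ q := by
      rw [Ideal.mk_ker]; exact hqmin.1.2
    have : (q.map (Ideal.Quotient.mk (p.map (algebraMap R S)))).IsPrime :=
      Ideal.map_isPrime_of_surjective hsurj hker
    rw [Ideal.height_eq_zero_iff]
    refine ⟨⟨this, bot_le⟩, fun P' hP' hP'q => ?_⟩
    have hP'prime : P'.IsPrime := hP'.1
    have h1 : p.map (algebraMap R S) ≤ P'.comap (Ideal.Quotient.mk (p.map (algebraMap R S))) := by
      intro x hx
      rw [Ideal.mem_comap, Ideal.Quotient.eq_zero_iff_mem.mpr hx]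
      exact P'.zero_mem
    have h2 : P'.comap (Ideal.Quotient.mk (p.map (algebraMap R S))) ≤ q := by
      have := Ideal.comap_mono (f := Ideal.Quotient.mk (p.map (algebraMap R S))) hP'q
      rwa [Ideal.comap_map_of_surjective' _ hsurj, sup_eq_left.mpr hker] at this
    have h3 := hqmin.2 ⟨Ideal.IsPrime.comap _, h1⟩ h2
    have := Ideal.map_mono (f := Ideal.Quotient.mk (p.map (algebraMap R S))) h3
    rwa [Ideal.map_comap_of_surjective _ hsurj] at this
  rw [h0, add_zero]

/-- `(R_k)` descends along faithfully flat maps of Noetherian rings. -/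
theorem hasRk_of_faithfullyFlat [IsNoetherianRing S] {k : ℕ} (hS : LocCoh.HasRk k S) :
    LocCoh.HasRk k R := by
  have hR : IsNoetherianRing R := isNoetherianRing_of_faithfullyFlat R S
  intro p hp hht
  obtain ⟨q, hq, hlo, -, hqh⟩ := exists_liesOver_height_eq S p
  have hreg := hS q (by rw [hqh]; exact hht)
  let := Localization.AtPrime.algebraOfLiesOver p q
  have hloc : IsLocalHom (algebraMap (Localization.AtPrime p) (Localization.AtPrime q)) :=
    Localization.isLocalHom_localRingHom p q (algebraMap R S) Ideal.LiesOver.over
  exact Groth.Agent.S0565.result (Localization.AtPrime p) (Localization.AtPrime q)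

end Descent

section DepthFlat

open Groth.Agent.Lib.Helper29 Groth.Agent.Lib.Helper29.DepthLib Groth.Agent.Lib.Helper29.CMLib
open TensorProduct

/-- For a flat local homomorphism `A → B` of Noetherian local rings whose closed fibre is
zero-dimensional (`𝔪_B` is the only prime containing `𝔪_A B`), `depth B = depth A`. -/
theorem depth_eq_of_flat_of_fibre_dim_zero (A B : Type u) [CommRing A] [CommRing B]
    [IsLocalRing A] [IsLocalRing B] [IsNoetherianRing A] [IsNoetherianRing B] [Algebra A B]
    [IsLocalHom (algebraMap A B)] [Module.Flat A B]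
    (h : ∀ P : Ideal B, P.IsPrime → (maximalIdeal A).map (algebraMap A B) ≤ P →
      P = maximalIdeal B) :
    LocCoh.depth B B = LocCoh.depth A A := by
  have hff : Module.FaithfullyFlat A B := Module.FaithfullyFlat.of_flat_of_isLocalHom
  have hle : (maximalIdeal A).map (algebraMap A B) ≤ maximalIdeal B := by
    have htfae : IsLocalHom (algebraMap A B) ↔
        (maximalIdeal A).map (algebraMap A B) ≤ maximalIdeal B :=
      (IsLocalRing.local_hom_TFAE (algebraMap A B)).out 0 2
    exact htfae.mp inferInstance
  have h1 : LocCoh.idealDepth (maximalIdeal B) B =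
      LocCoh.idealDepth ((maximalIdeal A).map (algebraMap A B)) B := by
    apply idealDepth_eq_of_forall_prime
    intro P hP
    constructor
    · intro hmP; exact hle.trans hmP
    · intro hP'; rw [h P hP hP']
  have h2 : LocCoh.idealDepth ((maximalIdeal A).map (algebraMap A B)) B =
      LocCoh.idealDepth ((maximalIdeal A).map (algebraMap A B)) (B ⊗[A] A) :=
    idealDepth_congr _ (TensorProduct.AlgebraTensorModule.rid A B B).symm
  have h3 := Groth.Agent.Lib.Helper29.DepthFlat.idealDepth_baseChange_eq A B (maximalIdeal A) A
  unfold LocCoh.depth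
  rw [h1, h2, h3]

end DepthFlat

section DescentSk

variable (R S : Type u) [CommRing R] [CommRing S] [Algebra R S] [Module.FaithfullyFlat R S]

/-- `(S_k)` descends along faithfully flat maps of Noetherian rings. -/
theorem hasSk_of_faithfullyFlat [IsNoetherianRing S] {k : ℕ} (hS : LocCoh.HasSk k S S) :
    LocCoh.HasSk k R R := by
  have hR : IsNoetherianRing R := isNoetherianRing_of_faithfullyFlat R S
  rw [hasSk_self_iff] at hS ⊢
  intro p hp
  obtain ⟨q, hq, hlo, hqmin, hqh⟩ := exists_liesOver_height_eq S p
  have h1 := hS q
  let _ := Localization.AtPrime.algebraOfLiesOver p q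
  have hloc : IsLocalHom (algebraMap (Localization.AtPrime p) (Localization.AtPrime q)) :=
    Localization.isLocalHom_localRingHom p q (algebraMap R S) Ideal.LiesOver.over
  have hd : LocCoh.depth (Localization.AtPrime q) (Localization.AtPrime q) =
      LocCoh.depth (Localization.AtPrime p) (Localization.AtPrime p) := by
    apply depth_eq_of_flat_of_fibre_dim_zero
    intro P hP hPle
    apply Localization.AtPrime.eq_maximalIdeal_iff_under_eq.mp
    have hPq : P.under S ≤ q := by
      have hdisj := ((IsLocalization.isPrime_iff_isPrime_disjoint q.primeCompl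
        (Localization.AtPrime q) P).mp hP).2
      intro x hx
      by_contra hxq
      exact Set.disjoint_left.mp hdisj hxq hx
    have hpP : p.map (algebraMap R S) ≤ P.under S := by
      rw [Ideal.map_le_iff_le_comap]
      intro r hr
      rw [Ideal.mem_comap, Ideal.under_def, Ideal.mem_comap,
        ← IsScalarTower.algebraMap_apply R S (Localization.AtPrime q),
        IsScalarTower.algebraMap_apply R (Localization.AtPrime p) (Localization.AtPrime q)]
      apply hPle
      apply Ideal.mem_map_of_mem
      exact (IsLocalization.AtPrime.to_map_mem_maximal_iff _ p r).mpr hr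
    exact le_antisymm hPq (hqmin.2 ⟨Ideal.IsPrime.under S P, hpP⟩ hPq)
  rw [hqh, hd] at h1
  exact h1

end DescentSk

end Groth.Agent.Lib.Helper49.Serre
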