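import Groth.Agent.Lib.Helper49.Serre3
import Groth.Agent.S0558
import Mathlib.RingTheory.Ideal.AssociatedPrime.Finiteness
import Mathlib.RingTheory.Localization.LocalizationLocalization

/-!
# Serre's normality criterion (helper49)

Namespace `Groth.Agent.Lib.Helper49.Serre`.

* `depth_eq_of_ringEquiv`
* `hasRk_localization`, `hasSk_self_localization` : `(R_k)`, `(S_k)` pass to `R_p`
* `serre_criterion` : all local rings normal domains ⇔ `(R_1) + (S_2)`
-/

set_option autoImplicit false
universe u

open IsLocalRing Pointwise

namespace Groth.Agent.Lib.Helper49.Serre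

open Groth.Agent.Lib.Helper29 Groth.Agent.Lib.Helper29.DepthLib Groth.Agent.Lib.Helper29.CMLib

section Transfer

/-- Depth of a Noetherian local ring is invariant under ring isomorphisms. -/
theorem depth_eq_of_ringEquiv {A B : Type u} [CommRing A] [CommRing B] [IsLocalRing A]
    [IsLocalRing B] [IsNoetherianRing A] [IsNoetherianRing B] (e : A ≃+* B) :
    LocCoh.depth A A = LocCoh.depth B B := by
  let : Algebra A B := e.toRingHom.toAlgebra
  have halg : ∀ a : A, algebraMap A B a = e a := fun _ => rfl
  have : IsLocalHom (algebraMap A B) := ⟨fun a ha => by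
    rw [halg] at ha
    exact (MulEquiv.isUnit_map e.toMulEquiv).mp ha⟩
  let l : A ≃ₗ[A] B :=
    { e.toAddEquiv with
      map_smul' := fun r x => by
        change e (r * x) = algebraMap A B r * e x
        rw [map_mul, halg] }
  have : Module.Finite A B := Module.Finite.equiv l
  rw [depth_congr l]
  exact Groth.Agent.Lib.Helper29.DepthFinite.depth_eq_of_isLocalHom A B B

variable {R : Type u} [CommRing R] [IsNoetherianRing R] (p : Ideal R) [p.IsPrime]

omit [IsNoetherianRing R] in
/-- `(R_k)` passes to localizations at primes. -/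
theorem hasRk_localization {k : ℕ} (h : LocCoh.HasRk k R) :
    LocCoh.HasRk k (Localization.AtPrime p) := by
  intro Q hQ hht
  have e := IsLocalization.localizationLocalizationAtPrimeIsoLocalization p.primeCompl Q
  have h1 : (Q.under R).height = Q.height :=
    IsLocalization.height_under p.primeCompl (A := Localization.AtPrime p) Q
  have := h (Q.under R) (by rw [h1]; exact hht)
  exact IsRegularLocalRing.of_ringEquiv e.toRingEquiv

/-- `(S_k)` for the ring passes to localizations at primes. -/
theorem hasSk_self_localization {k : ℕ} (h : LocCoh.HasSk k R R) :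
    LocCoh.HasSk k (Localization.AtPrime p) (Localization.AtPrime p) := by
  rw [hasSk_self_iff] at h ⊢
  intro Q hQ
  have e := IsLocalization.localizationLocalizationAtPrimeIsoLocalization p.primeCompl Q
  have h1 : (Q.under R).height = Q.height :=
    IsLocalization.height_under p.primeCompl (A := Localization.AtPrime p) Q
  have := h (Q.under R)
  rw [h1, depth_eq_of_ringEquiv e.toRingEquiv] at this
  exact this

end Transfer

section Core

variable {A : Type u} [CommRing A] [IsNoetherianRing A]

/-- Membership in a principal ideal can be tested at its associated primes. -/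
theorem mem_span_singleton_of_forall_associatedPrimes {a b : A}
    (h : ∀ P ∈ associatedPrimes A (A ⧸ Ideal.span {a}), ∃ s ∉ P, s * b ∈ Ideal.span {a}) :
    b ∈ Ideal.span {a} := by
  by_contra hb
  have hb' : (Ideal.Quotient.mk (Ideal.span {a}) b) ≠ 0 := by
    rwa [Ne, Ideal.Quotient.eq_zero_iff_mem]
  obtain ⟨P, hP, hle⟩ := exists_le_isAssociatedPrime_of_isNoetherianRing A _ hb'
  obtain ⟨s, hs, hsb⟩ := h P hP
  apply hs
  apply hle
  rw [Submodule.mem_colon_singleton, Submodule.mem_bot]
  change s • (Ideal.Quotient.mk (Ideal.span {a}) b) = 0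
  rw [← Ideal.Quotient.mk_eq_mk, ← Submodule.Quotient.mk_smul, Ideal.Quotient.mk_eq_mk,
    Ideal.Quotient.eq_zero_iff_mem, smul_eq_mul]
  exact hsb

/-- In a reduced Noetherian ring, `I + Ann I` contains a nonzerodivisor. -/
theorem exists_nonZeroDivisor_add_annihilator [IsReduced A] (I : Ideal A) :
    ∃ u ∈ I, ∃ v : A, (∀ i ∈ I, v * i = 0) ∧ u + v ∈ nonZeroDivisors A := by
  let J : Ideal A := Module.annihilator A I
  have hJ : ∀ v ∈ J, ∀ i ∈ I, v * i = 0 := by
    intro v hv i hi
    have := Module.mem_annihilator.mp hv ⟨i, hi⟩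
    exact congrArg Subtype.val this
  by_contra hcon
  push Not at hcon
  have hdisj : Disjoint ((I ⊔ J : Ideal A) : Set A) (nonZeroDivisors A) := by
    rw [Set.disjoint_left]
    intro w hw hw'
    obtain ⟨u, hu, v, hv, rfl⟩ := Submodule.mem_sup.mp hw
    exact hcon u hu v (hJ v hv) hw'
  have hlt := Ideal.bot_lt_annihilator_of_disjoint_nonZeroDivisors hdisj
  obtain ⟨z, hz, hz0⟩ := SetLike.exists_of_lt hlt
  have hz0' : z ≠ 0 := fun h => hz0 (by rw [h]; exact Submodule.zero_mem _)
  have hzK : ∀ w ∈ I ⊔ J, z * w = 0 := by
    intro w hw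
    have := Module.mem_annihilator.mp hz ⟨w, hw⟩
    exact congrArg Subtype.val this
  have hzJ : z ∈ J := by
    refine Module.mem_annihilator.mpr fun i => ?_
    apply Subtype.ext
    exact hzK i (Submodule.mem_sup_left i.2)
  have hzz : z * z = 0 := hzK z (Submodule.mem_sup_right hzJ)
  exact hz0' (IsReduced.eq_zero z ⟨2, by rw [pow_two]; exact hzz⟩)

/-- A regular local ring of dimension `≤ 1` is an integrally closed domain. -/
theorem isIntegrallyClosed_of_isRegularLocalRing_of_dim_le_one (B : Type u) [CommRing B]
    [IsRegularLocalRing B] (h : ringKrullDim B ≤ 1) : IsDomain B ∧ IsIntegrallyClosed B := by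
  have hdom : IsDomain B := Groth.Agent.S0558.result B
  refine ⟨hdom, ?_⟩
  have h1 := IsRegularLocalRing.spanFinrank_maximalIdeal (R := B)
  have h2 : (maximalIdeal B).spanFinrank ≤ 1 := by
    have : ((maximalIdeal B).spanFinrank : WithBot ℕ∞) ≤ 1 := h1 ▸ h
    exact_mod_cast this
  have hprin : (maximalIdeal B).IsPrincipal := by
    rcases Nat.le_one_iff_eq_zero_or_eq_one.mp h2 with h3 | h3
    · rw [(Submodule.spanFinrank_eq_zero_iff_eq_bot (IsNoetherian.noetherian _)).mp h3]
      infer_instance
    · exact ((Submodule.spanFinrank_eq_one_iff _).mp h3).1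
  have htfae : (maximalIdeal B).IsPrincipal ↔ (IsIntegrallyClosed B ∧
      ∀ P : Ideal B, P ≠ ⊥ → P.IsPrime → P = maximalIdeal B) :=
    (tfae_of_isNoetherianRing_of_isLocalRing_of_isDomain B).out 4 3
  exact (htfae.mp hprin).1

variable (h1 : LocCoh.HasRk 1 A) (h2 : LocCoh.HasSk 2 A A)
include h1 h2

/-- Under `(R_1)+(S_2)`: the localization at an associated prime of a regular principal ideal is a
normal domain. -/
theorem isIntegrallyClosed_localization_of_mem_associatedPrimes {a : A}
    (ha : a ∈ nonZeroDivisors A) {P : Ideal A} [P.IsPrime]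
    (hP : P ∈ associatedPrimes A (A ⧸ Ideal.span {a})) :
    IsDomain (Localization.AtPrime P) ∧ IsIntegrallyClosed (Localization.AtPrime P) := by
  have hreg : IsSMulRegular (Localization.AtPrime P) (algebraMap A (Localization.AtPrime P) a) :=
    IsSMulRegular.of_isLocalization (Localization.AtPrime P) P.primeCompl
      (isRegular_iff_mem_nonZeroDivisors.mpr ha).left.isSMulRegular
  have hht := height_le_one_of_hasSk_two h2 hreg hP
  have := h1 P (by exact_mod_cast hht)
  apply isIntegrallyClosed_of_isRegularLocalRing_of_dim_le_one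
  rw [IsLocalization.AtPrime.ringKrullDim_eq_height P]
  exact_mod_cast hht

/-- Under `(R_1)+(S_2)`: if `x² = a x` with `a` regular then `x ∈ (a)`. -/
theorem mem_span_of_sq_eq {a x : A} (ha : a ∈ nonZeroDivisors A) (hx : x * x = a * x) :
    x ∈ Ideal.span {a} := by
  apply mem_span_singleton_of_forall_associatedPrimes
  intro P hP
  have : P.IsPrime := hP.isPrime
  obtain ⟨hdom, -⟩ := isIntegrallyClosed_localization_of_mem_associatedPrimes h1 h2 ha hP
  have h3 : algebraMap A (Localization.AtPrime P) x *
      (algebraMap A (Localization.AtPrime P) x - algebraMap A (Localization.AtPrime P) a) = 0 := by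
    rw [mul_sub, ← map_mul, ← map_mul, hx, mul_comm a x, sub_self]
  rcases mul_eq_zero.mp h3 with h4 | h4
  · rw [IsLocalization.map_eq_zero_iff P.primeCompl] at h4
    obtain ⟨s, hs⟩ := h4
    exact ⟨s, s.2, by rw [hs]; exact Ideal.zero_mem _⟩
  · rw [← map_sub, IsLocalization.map_eq_zero_iff P.primeCompl] at h4
    obtain ⟨s, hs⟩ := h4
    refine ⟨s, s.2, ?_⟩
    rw [mul_sub, sub_eq_zero] at hs
    rw [hs]
    exact Ideal.mul_mem_left _ _ (Ideal.mem_span_singleton_self a)

/-- A Noetherian local ring satisfying `(R_1)+(S_2)` is a domain. -/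
theorem isDomain_of_hasRk_one_of_hasSk_two [IsLocalRing A] : IsDomain A := by
  have hred : IsReduced A := by
    rw [isReduced_iff_hasRk_zero_and_hasSk_one]
    constructor
    · intro p hp hht
      exact h1 p (le_trans hht (by exact_mod_cast zero_le_one))
    · intro p hp
      refine le_trans ?_ (h2 p)
      exact min_le_min (by exact_mod_cast one_le_two) le_rfl
  have hnzd : NoZeroDivisors A := by
    refine ⟨fun {x y} hxy => ?_⟩
    by_contra hcon
    push Not at hcon
    obtain ⟨hx0, hy0⟩ := hcon
    obtain ⟨u, hu, v, hv, hreg⟩ := exists_nonZeroDivisor_add_annihilator (Ideal.span {y})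
    obtain ⟨c, hc⟩ := Ideal.mem_span_singleton'.mp hu
    have hvy : v * y = 0 := hv y (Ideal.mem_span_singleton_self y)
    have huv : v * u = 0 := hv u hu
    have hsq : u * u = (u + v) * u := by rw [add_mul, huv, add_zero]
    obtain ⟨e, he⟩ := Ideal.mem_span_singleton'.mp (mem_span_of_sq_eq h1 h2 hreg hsq)
    -- `e` is idempotent
    have hee : e * (1 - e) = 0 := by
      have h3 : (u + v) * ((u + v) * (e * (1 - e))) = 0 := by
        have : (u + v) * ((u + v) * (e * (1 - e))) =
            (u + v) * (e * (u + v)) - (e * (u + v)) * (e * (u + v)) := by ring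
        rw [this, he, ← hsq, sub_self]
      have h4 := (mem_nonZeroDivisors_iff.mp hreg).1 _ h3
      exact (mem_nonZeroDivisors_iff.mp hreg).1 _ h4
    rcases IsLocalRing.isUnit_or_isUnit_one_sub_self e with hu1 | hu1
    · -- `e = 1`, so `v = 0` and `u + v ∈ (y)` kills `x`
      have h5 : 1 - e = 0 := by
        have := congrArg (fun t => (hu1.unit⁻¹ : Aˣ).1 * t) hee
        simpa [← mul_assoc] using this
      have h6 : e = 1 := (sub_eq_zero.mp h5).symm
      rw [h6, one_mul] at he
      have h7 : (u + v) * x = 0 := by
        rw [he, ← hc, mul_assoc, mul_comm y x, hxy, mul_zero]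
      exact hx0 ((mem_nonZeroDivisors_iff.mp hreg).1 _ h7)
    · -- `e = 0`, so `u = 0` and `u + v = v` kills `y`
      have h5 : e = 0 := by
        have := congrArg (fun t => t * (hu1.unit⁻¹ : Aˣ).1) hee
        simpa [mul_assoc] using this
      rw [h5, zero_mul] at he
      have h7 : (u + v) * y = 0 := by rw [← he, zero_add, hvy]
      exact hy0 ((mem_nonZeroDivisors_iff.mp hreg).1 _ h7)
  exact NoZeroDivisors.to_isDomain A

/-- A Noetherian domain satisfying `(R_1)+(S_2)` is integrally closed. -/
theorem isIntegrallyClosed_of_hasRk_one_of_hasSk_two [IsDomain A] : IsIntegrallyClosed A := by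
  rw [isIntegrallyClosed_iff (FractionRing A)]
  intro z hz
  apply mem_range_algebraMap_of_forall_associatedPrimes
  rintro P _ ⟨a, ha, hP⟩
  obtain ⟨hdom, hic⟩ := isIntegrallyClosed_localization_of_mem_associatedPrimes h1 h2
    (mem_nonZeroDivisors_of_ne_zero ha) hP
  have : IsFractionRing (Localization.AtPrime P) (FractionRing A) :=
    IsFractionRing.isFractionRing_of_isDomain_of_isLocalization P.primeCompl _ _
  have hz' : IsIntegral (Localization.AtPrime P) z := hz.tower_top
  exact IsIntegrallyClosed.algebraMap_eq_of_integral hz'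

end Core

section Criterion

variable (R : Type u) [CommRing R] [IsNoetherianRing R]

/-- **Serre's criterion for normality**. -/
theorem serre_criterion :
    (∀ (p : Ideal R) [p.IsPrime], IsDomain (Localization.AtPrime p) ∧
      IsIntegrallyClosed (Localization.AtPrime p)) ↔ (LocCoh.HasRk 1 R ∧ LocCoh.HasSk 2 R R) := by
  constructor
  · intro h
    constructor
    · intro p hp hht
      obtain ⟨hdom, hic⟩ := h p
      have hdim : ringKrullDim (Localization.AtPrime p) ≤ 1 := by
        rw [IsLocalization.AtPrime.ringKrullDim_eq_height p]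
        exact_mod_cast hht
      have hk : Ring.KrullDimLE 1 (Localization.AtPrime p) :=
        Ring.krullDimLE_iff.mpr (by simpa using hdim)
      have hd1 : Ring.DimensionLEOne (Localization.AtPrime p) :=
        ⟨fun {q} hq hqp => Ring.krullDimLE_one_iff_of_noZeroDivisors.mp hk q hq hqp⟩
      have hded : IsDedekindDomain (Localization.AtPrime p) :=
        { toIsDomain := hdom
          toIsNoetherian := inferInstance
          toDimensionLEOne := hd1
          toIsIntegralClosure := hic }
      exact IsRegularLocalRing.of_isRegularRing_of_isLocalRing _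
    · rw [hasSk_self_iff]
      intro p hp
      obtain ⟨hdom, hic⟩ := h p
      have := min_two_le_depth_of_isIntegrallyClosed (R := Localization.AtPrime p)
      rwa [IsLocalization.AtPrime.ringKrullDim_eq_height p] at this
  · rintro ⟨h1, h2⟩ p hp
    have h1' := hasRk_localization p h1
    have h2' := hasSk_self_localization p h2
    have hdom : IsDomain (Localization.AtPrime p) := isDomain_of_hasRk_one_of_hasSk_two h1' h2'
    exact ⟨hdom, isIntegrallyClosed_of_hasRk_one_of_hasSk_two h1' h2'⟩

end Criterion

end Groth.Agent.Lib.Helper49.Serre
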