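import Mathlib
import Groth.Prelude.Def_CAlg
import Groth.Agent.Lib.Helper49.Serre4
import Groth.Agent.Lib.Helper29.CM
import Groth.Agent.Lib.Helper29.DepthFinite
import Groth.Agent.S5671

/-!
# Quotients of Cohen–Macaulay local rings by regular elements; localization of quotients
-/

set_option autoImplicit false
universe u

namespace Groth.Agent.Lib.Helper49.CMQuot

open IsLocalRing Groth.Agent.Lib.Helper49.Serre

section Quot

variable (A : Type u) [CommRing A] [IsLocalRing A] [IsNoetherianRing A]

/-- For a proper ideal `I` of a local ring, `A ⧸ I` is local and the quotient map is local. -/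
theorem isLocalHom_quotient_mk (I : Ideal A) (hI : I ≠ ⊤) :
    IsLocalHom (algebraMap A (A ⧸ I)) := by
  have : Nontrivial (A ⧸ I) := Ideal.Quotient.nontrivial_iff.mpr hI
  exact IsLocalHom.of_surjective _ Ideal.Quotient.mk_surjective

/-- A Cohen–Macaulay local ring modulo a regular element of the maximal ideal is
Cohen–Macaulay (as a ring). -/
theorem isCM_quotient_span_of_isSMulRegular (hA : LocCoh.IsCohenMacaulayModule A A) {x : A}
    (hxm : x ∈ maximalIdeal A) (hx : IsSMulRegular A x)
    [IsLocalRing (A ⧸ Ideal.span {x})] :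
    ringKrullDim (A ⧸ Ideal.span {x}) =
      ((LocCoh.depth (A ⧸ Ideal.span {x}) (A ⧸ Ideal.span {x}) : ℕ∞) : WithBot ℕ∞) := by
  have hne : Ideal.span {x} ≠ ⊤ := by
    intro h
    have : x ∈ maximalIdeal A := hxm
    rw [Ideal.span_singleton_eq_top] at h
    exact (mem_maximalIdeal x).mp hxm h
  have hloc : IsLocalHom (algebraMap A (A ⧸ Ideal.span {x})) := isLocalHom_quotient_mk A _ hne
  have h1 : LocCoh.depth A (A ⧸ Ideal.span {x}) =
      LocCoh.depth (A ⧸ Ideal.span {x}) (A ⧸ Ideal.span {x}) :=
    Groth.Agent.Lib.Helper29.DepthFinite.depth_eq_of_isLocalHom A (A ⧸ Ideal.span {x})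
      (A ⧸ Ideal.span {x})
  have h2 := Groth.Agent.Lib.Helper29.CMLib.isCM_quotSMulTop A A hA hxm hx
  have h3 : LocCoh.IsCohenMacaulayModule A (A ⧸ Ideal.span {x}) :=
    (Groth.Agent.Lib.Helper29.CMLib.isCohenMacaulayModule_congr
      (quotientSpanEquivQuotSMulTop x)).mpr h2
  unfold LocCoh.IsCohenMacaulayModule at h3
  rw [← h1, ← h3, Module.supportDim_quotient_eq_ringKrullDim]

end Quot

section LocQuot

variable {A : Type u} [CommRing A] (I : Ideal A) (q : Ideal (A ⧸ I)) [q.IsPrime]

theorem algebraMapSubmonoid_primeCompl_eq :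
    Algebra.algebraMapSubmonoid (A ⧸ I) (q.comap (Ideal.Quotient.mk I)).primeCompl =
      q.primeCompl := by
  ext x
  constructor
  · rintro ⟨a, ha, rfl⟩
    exact ha
  · intro hx
    obtain ⟨a, rfl⟩ := Ideal.Quotient.mk_surjective x
    exact ⟨a, hx, rfl⟩

instance isLocalization_atPrime_quotient :
    IsLocalization.AtPrime
      (Localization.AtPrime (q.comap (Ideal.Quotient.mk I)) ⧸
        I.map (algebraMap A (Localization.AtPrime (q.comap (Ideal.Quotient.mk I))))) q := by
  have h : IsLocalization (Algebra.algebraMapSubmonoid (A ⧸ I)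
      (q.comap (Ideal.Quotient.mk I)).primeCompl)
      (Localization.AtPrime (q.comap (Ideal.Quotient.mk I)) ⧸
        I.map (algebraMap A (Localization.AtPrime (q.comap (Ideal.Quotient.mk I))))) :=
    inferInstance
  rw [algebraMapSubmonoid_primeCompl_eq] at h
  exact h

/-- `(A/I)_q ≃ A_p / I A_p` for `p = q ∩ A`. -/
noncomputable def localizationQuotientEquiv :
    Localization.AtPrime q ≃+*
      (Localization.AtPrime (q.comap (Ideal.Quotient.mk I)) ⧸
        I.map (algebraMap A (Localization.AtPrime (q.comap (Ideal.Quotient.mk I))))) :=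
  (IsLocalization.algEquiv q.primeCompl (Localization.AtPrime q)
    (Localization.AtPrime (q.comap (Ideal.Quotient.mk I)) ⧸
        I.map (algebraMap A (Localization.AtPrime (q.comap (Ideal.Quotient.mk I)))))).toRingEquiv

end LocQuot

section Hypersurface

variable (A : Type u) [CommRing A] [IsNoetherianRing A]

/-- Transport of the CM equality along a ring isomorphism. -/
theorem isCM_of_ringEquiv {B C : Type u} [CommRing B] [CommRing C] [IsLocalRing B] [IsLocalRing C]
    [IsNoetherianRing B] [IsNoetherianRing C] (e : B ≃+* C)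
    (h : ringKrullDim C = ((LocCoh.depth C C : ℕ∞) : WithBot ℕ∞)) :
    ringKrullDim B = ((LocCoh.depth B B : ℕ∞) : WithBot ℕ∞) := by
  rw [ringKrullDim_eq_of_ringEquiv e, depth_eq_of_ringEquiv e, h]

/-- Local rings of a hypersurface in a (locally) regular Noetherian ring are Cohen–Macaulay. -/
theorem isCM_localization_quotient_span
    (hreg : ∀ (p : Ideal A) (_ : p.IsPrime), IsRegularLocalRing (Localization.AtPrime p))
    (f : A) (q : Ideal (A ⧸ Ideal.span {f})) [q.IsPrime] :
    ringKrullDim (Localization.AtPrime q) =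
      ((LocCoh.depth (Localization.AtPrime q) (Localization.AtPrime q) : ℕ∞) : WithBot ℕ∞) := by
  set p : Ideal A := q.comap (Ideal.Quotient.mk (Ideal.span {f})) with hp
  have hpprime : p.IsPrime := Ideal.IsPrime.comap _
  have hR : IsRegularLocalRing (Localization.AtPrime p) := hreg p hpprime
  have hdom : IsDomain (Localization.AtPrime p) := Groth.Agent.S0558.result _
  have hCM : LocCoh.IsCohenMacaulayModule (Localization.AtPrime p) (Localization.AtPrime p) :=
    Groth.Agent.S5671.isCM_of_regular _
  have hfp : f ∈ p := by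
    rw [hp, Ideal.mem_comap]
    have : Ideal.Quotient.mk (Ideal.span {f}) f = 0 :=
      Ideal.Quotient.eq_zero_iff_mem.mpr (Ideal.mem_span_singleton_self f)
    rw [this]; exact q.zero_mem
  set f' : Localization.AtPrime p := algebraMap A (Localization.AtPrime p) f with hf'
  have hf'm : f' ∈ maximalIdeal (Localization.AtPrime p) := by
    rw [← IsLocalization.AtPrime.map_eq_maximalIdeal p (Localization.AtPrime p)]
    exact Ideal.mem_map_of_mem _ hfp
  have hmap : (Ideal.span {f}).map (algebraMap A (Localization.AtPrime p)) = Ideal.span {f'} := by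
    rw [Ideal.map_span, Set.image_singleton]
  let e1 : Localization.AtPrime q ≃+* (Localization.AtPrime p ⧸
      (Ideal.span {f}).map (algebraMap A (Localization.AtPrime p))) :=
    localizationQuotientEquiv (Ideal.span {f}) q
  let e2 : (Localization.AtPrime p ⧸
      (Ideal.span {f}).map (algebraMap A (Localization.AtPrime p))) ≃+*
      (Localization.AtPrime p ⧸ Ideal.span {f'}) := Ideal.quotEquivOfEq hmap
  let e : Localization.AtPrime q ≃+* (Localization.AtPrime p ⧸ Ideal.span {f'}) := e1.trans e2
  have hloc : IsLocalRing (Localization.AtPrime p ⧸ Ideal.span {f'}) := e.isLocalRing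
  apply isCM_of_ringEquiv e
  by_cases h0 : f' = 0
  · have hbot : Ideal.span {f'} = ⊥ := by rw [h0]; exact Ideal.span_singleton_eq_bot.mpr rfl
    let e3 : (Localization.AtPrime p ⧸ Ideal.span {f'}) ≃+* Localization.AtPrime p :=
      (Ideal.quotEquivOfEq hbot).trans (RingEquiv.quotientBot _)
    apply isCM_of_ringEquiv e3
    unfold LocCoh.IsCohenMacaulayModule at hCM
    rw [← hCM, Module.supportDim_self_eq_ringKrullDim]
  · have hreg' : IsSMulRegular (Localization.AtPrime p) f' := by
      intro a b hab
      exact mul_left_cancel₀ h0 hab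
    exact isCM_quotient_span_of_isSMulRegular _ hCM hf'm hreg'

end Hypersurface

end Groth.Agent.Lib.Helper49.CMQuot
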