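import Mathlib
import Groth.Prelude.Def_CAlg
import Groth.Agent.Lib.Helper49.Serre4
import Groth.Agent.Lib.Helper49.CMQuot
import Groth.Agent.Lib.Helper29.DepthLoc
import Groth.Agent.Lib.Helper29.DepthFinite

/-!
# `(S_k)` lifts from `A/tA` to `A` (helper49)

Namespace `Groth.Agent.Lib.Helper49.SkLift`.
-/

set_option autoImplicit false
universe u

namespace Groth.Agent.Lib.Helper49.SkLift

open IsLocalRing Groth.Agent.Lib.Helper49.Serre Groth.Agent.Lib.Helper49.CMQuot

/-- `ℕ∞`-valued form of `hasSk_self_iff`. -/
theorem hasSk_self_iff' (R : Type u) [CommRing R] [IsNoetherianRing R] (k : ℕ) :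
    LocCoh.HasSk k R R ↔ ∀ (p : Ideal R) [p.IsPrime],
      min (k : ℕ∞) p.height ≤ LocCoh.depth (Localization.AtPrime p) (Localization.AtPrime p) := by
  rw [hasSk_self_iff]
  refine forall_congr' fun p => forall_congr' fun hp => ?_
  have h1 : (k : WithBot ℕ∞) = ((k : ℕ∞) : WithBot ℕ∞) := rfl
  rw [h1, ← WithBot.coe_min, WithBot.coe_le_coe]

/-- Depth drops by exactly one modulo a regular element of the maximal ideal (ring version). -/
theorem depth_quotient_span_add_one (R : Type u) [CommRing R] [IsLocalRing R] [IsNoetherianRing R]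
    {x : R} (hxm : x ∈ maximalIdeal R) (hx : IsSMulRegular R x)
    [IsLocalRing (R ⧸ Ideal.span {x})] :
    LocCoh.depth (R ⧸ Ideal.span {x}) (R ⧸ Ideal.span {x}) + 1 = LocCoh.depth R R := by
  have hne : Ideal.span {x} ≠ ⊤ := by
    intro h
    rw [Ideal.span_singleton_eq_top] at h
    exact (mem_maximalIdeal x).mp hxm h
  have hloc : IsLocalHom (algebraMap R (R ⧸ Ideal.span {x})) := isLocalHom_quotient_mk R _ hne
  have h1 : LocCoh.depth R (R ⧸ Ideal.span {x}) =
      LocCoh.depth (R ⧸ Ideal.span {x}) (R ⧸ Ideal.span {x}) :=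
    Groth.Agent.Lib.Helper29.DepthFinite.depth_eq_of_isLocalHom R (R ⧸ Ideal.span {x})
      (R ⧸ Ideal.span {x})
  have h2 : LocCoh.depth R (R ⧸ Ideal.span {x}) = LocCoh.depth R (QuotSMulTop x R) :=
    Groth.Agent.Lib.Helper29.CMLib.depth_congr (quotientSpanEquivQuotSMulTop x)
  rw [← h1, h2]
  exact Groth.Agent.Lib.Helper29.DepthLib.depth_quotSMulTop_add_one R R hxm hx

section Lift

variable {A : Type u} [CommRing A] [IsNoetherianRing A]

/-- If `A/tA` is `(S_k)` with `t` regular, then `A` is `(S_{k+1})` at all primes containing `t`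
(stated for primes of the form `Q ∩ A`). -/
theorem min_succ_height_le_depth_comap (k : ℕ) {t : A} (hreg : IsSMulRegular A t)
    (hS : LocCoh.HasSk k (A ⧸ Ideal.span {t}) (A ⧸ Ideal.span {t}))
    (Q : Ideal (A ⧸ Ideal.span {t})) [Q.IsPrime] :
    min ((k : ℕ∞) + 1) (Q.comap (Ideal.Quotient.mk (Ideal.span {t}))).height ≤
      LocCoh.depth (Localization.AtPrime (Q.comap (Ideal.Quotient.mk (Ideal.span {t}))))
        (Localization.AtPrime (Q.comap (Ideal.Quotient.mk (Ideal.span {t})))) := by
  set p : Ideal A := Q.comap (Ideal.Quotient.mk (Ideal.span {t})) with hp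
  have hpprime : p.IsPrime := Ideal.IsPrime.comap _
  have htp : t ∈ p := by
    rw [hp, Ideal.mem_comap]
    have : Ideal.Quotient.mk (Ideal.span {t}) t = 0 :=
      Ideal.Quotient.eq_zero_iff_mem.mpr (Ideal.mem_span_singleton_self t)
    rw [this]; exact Q.zero_mem
  set f' : Localization.AtPrime p := algebraMap A (Localization.AtPrime p) t with hf'
  have hf'm : f' ∈ maximalIdeal (Localization.AtPrime p) := by
    rw [← IsLocalization.AtPrime.map_eq_maximalIdeal p (Localization.AtPrime p)]
    exact Ideal.mem_map_of_mem _ htp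
  have hf'reg : IsSMulRegular (Localization.AtPrime p) f' := hreg.of_flat
  have hmap : (Ideal.span {t}).map (algebraMap A (Localization.AtPrime p)) = Ideal.span {f'} := by
    rw [Ideal.map_span, Set.image_singleton]
  let e1 : Localization.AtPrime Q ≃+* (Localization.AtPrime p ⧸
      (Ideal.span {t}).map (algebraMap A (Localization.AtPrime p))) :=
    localizationQuotientEquiv (Ideal.span {t}) Q
  let e2 : (Localization.AtPrime p ⧸
      (Ideal.span {t}).map (algebraMap A (Localization.AtPrime p))) ≃+*
      (Localization.AtPrime p ⧸ Ideal.span {f'}) := Ideal.quotEquivOfEq hmap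
  let e : Localization.AtPrime Q ≃+* (Localization.AtPrime p ⧸ Ideal.span {f'}) := e1.trans e2
  have hloc : IsLocalRing (Localization.AtPrime p ⧸ Ideal.span {f'}) := e.isLocalRing
  have h1 := (hasSk_self_iff' _ k).mp hS Q
  have hd1 : LocCoh.depth (Localization.AtPrime Q) (Localization.AtPrime Q) =
      LocCoh.depth (Localization.AtPrime p ⧸ Ideal.span {f'})
        (Localization.AtPrime p ⧸ Ideal.span {f'}) := depth_eq_of_ringEquiv e
  have hd2 := depth_quotient_span_add_one (Localization.AtPrime p) hf'm hf'reg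
  have hdim1 : ringKrullDim (Localization.AtPrime Q) =
      ringKrullDim (Localization.AtPrime p ⧸ Ideal.span {f'}) := ringKrullDim_eq_of_ringEquiv e
  have hdim2 : ringKrullDim (Localization.AtPrime p ⧸ Ideal.span {f'}) + 1 =
      ringKrullDim (Localization.AtPrime p) :=
    ringKrullDim_quotient_span_singleton_succ_eq_ringKrullDim_of_mem_jacobson hf'reg
      (by rw [IsLocalRing.ringJacobson_eq_maximalIdeal]; exact hf'm)
  rw [← hdim1, IsLocalization.AtPrime.ringKrullDim_eq_height Q,
    IsLocalization.AtPrime.ringKrullDim_eq_height p] at hdim2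
  have hht : Q.height + 1 = p.height := by
    have : ((Q.height + 1 : ℕ∞) : WithBot ℕ∞) = (p.height : WithBot ℕ∞) := by
      rw [WithBot.coe_add, WithBot.coe_one]; exact hdim2
    exact WithBot.coe_inj.mp this
  rw [← hht, ← hd2, ← hd1, min_add_add_right]
  exact add_le_add_left h1 1

/-- **`(S_k)` lifts along regular elements of the Jacobson radical**: if `t` is a
non-zero-divisor in the Jacobson radical of the Noetherian ring `A` and `A/tA` satisfies
`(S_k)`, then `A` satisfies `(S_k)`. -/
theorem hasSk_of_quotient (k : ℕ) {t : A} (htj : t ∈ Ring.jacobson A) (hreg : IsSMulRegular A t)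
    (hS : LocCoh.HasSk k (A ⧸ Ideal.span {t}) (A ⧸ Ideal.span {t})) : LocCoh.HasSk k A A := by
  rw [hasSk_self_iff']
  -- stage 1: primes containing t
  have stage1 : ∀ (q : Ideal A) [q.IsPrime], t ∈ q →
      min ((k : ℕ∞) + 1) q.height ≤
        LocCoh.depth (Localization.AtPrime q) (Localization.AtPrime q) := by
    intro q hq htq
    have hker : RingHom.ker (Ideal.Quotient.mk (Ideal.span {t})) ≤ q := by
      rw [Ideal.mk_ker, Ideal.span_singleton_le_iff_mem]; exact htq
    have hQ : (q.map (Ideal.Quotient.mk (Ideal.span {t}))).IsPrime :=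
      Ideal.map_isPrime_of_surjective Ideal.Quotient.mk_surjective hker
    have hcomap : (q.map (Ideal.Quotient.mk (Ideal.span {t}))).comap
        (Ideal.Quotient.mk (Ideal.span {t})) = q := by
      rw [Ideal.comap_map_of_surjective' _ Ideal.Quotient.mk_surjective, sup_eq_left.mpr hker]
    have key : ∀ (q q' : Ideal A) [q.IsPrime] [q'.IsPrime], q' = q →
        min ((k : ℕ∞) + 1) q'.height ≤
          LocCoh.depth (Localization.AtPrime q') (Localization.AtPrime q') →
        min ((k : ℕ∞) + 1) q.height ≤
          LocCoh.depth (Localization.AtPrime q) (Localization.AtPrime q) := by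
      intro q q' _ _ h
      subst h
      exact id
    exact key q _ hcomap
      (min_succ_height_le_depth_comap k hreg hS (q.map (Ideal.Quotient.mk (Ideal.span {t}))))
  intro p hp
  by_cases htp : t ∈ p
  · exact le_trans (min_le_min (le_self_add) le_rfl) (stage1 p htp)
  · -- a prime q minimal over p + (t)
    have hne : p ⊔ Ideal.span {t} ≠ ⊤ := by
      intro htop
      obtain ⟨M, hM, hpM⟩ := Ideal.exists_le_maximal p hp.ne_top
      have htM : t ∈ M := by
        have : Ring.jacobson A ≤ M := by
          rw [Ring.jacobson_eq_sInf_isMaximal]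
          exact sInf_le hM
        exact this htj
      have : p ⊔ Ideal.span {t} ≤ M :=
        sup_le hpM ((Ideal.span_singleton_le_iff_mem _).mpr htM)
      rw [htop] at this
      exact hM.ne_top (top_le_iff.mp this)
    obtain ⟨M, hM, hpM⟩ := Ideal.exists_le_maximal _ hne
    have hMprime : M.IsPrime := hM.isPrime
    obtain ⟨q, hqmin, hqM⟩ := Ideal.exists_minimalPrimes_le hpM
    have hq : q.IsPrime := hqmin.1.1
    have hpq : p ≤ q := le_sup_left.trans hqmin.1.2
    have htq : t ∈ q := hqmin.1.2 (Ideal.mem_sup_right (Ideal.mem_span_singleton_self t))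
    have hlt : p < q := lt_of_le_of_ne hpq (fun h => htp (h ▸ htq))
    have hht : p.height + 1 ≤ q.height := Ideal.height_add_one_le_of_lt_of_isPrime hlt
    have h1 : (q.map (Ideal.Quotient.mk p)).height ≤ 1 :=
      Ideal.map_height_le_one_of_mem_minimalPrimes hqmin
    have h2 := Groth.Agent.Lib.Helper29.DepthLoc.depth_localization_le A A p q hpq
    rw [depth_localizedModule_self, depth_localizedModule_self] at h2
    have h3 := stage1 q htq
    have h4 : min (k : ℕ∞) p.height + 1 ≤
        LocCoh.depth (Localization.AtPrime p) (Localization.AtPrime p) + 1 := by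
      rw [← min_add_add_right]
      calc min ((k : ℕ∞) + 1) (p.height + 1) ≤ min ((k : ℕ∞) + 1) q.height :=
            min_le_min le_rfl hht
        _ ≤ _ := h3
        _ ≤ _ := h2
        _ ≤ _ := add_le_add_right h1 _
    exact (ENat.add_le_add_iff_right ENat.one_ne_top).mp h4

end Lift

end Groth.Agent.Lib.Helper49.SkLift
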