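import Mathlib
import Groth.Prelude.Def_CAlg
import Groth.Agent.Lib.Helper29.FlatLocal2
import Groth.Agent.Lib.Helper49.SkLift
import Groth.Agent.Lib.Helper49.Serre5

/-!
# Depth and dimension of fibre local rings of flat maps; `(S_k)` and CM fibres (helper49)

Namespace `Groth.Agent.Lib.Helper49.FibreSk`.
-/

set_option autoImplicit false
universe u

open IsLocalRing TensorProduct

namespace Groth.Agent.Lib.Helper49.FibreSk

open Groth.Agent.Lib.Helper29 Groth.Agent.Lib.Helper29.CMLib Groth.Agent.Lib.Helper49.CMQuot
  Groth.Agent.Lib.Helper49.Serre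

section Local

variable (A B : Type u) [CommRing A] [CommRing B] [IsLocalRing A] [IsLocalRing B]
  [IsNoetherianRing A] [IsNoetherianRing B] [Algebra A B] [IsLocalHom (algebraMap A B)]
  [Module.Flat A B]

/-- Ring-level depth formula for a flat local homomorphism. -/
theorem depth_eq_add_depth_fibre (I : Ideal B)
    (hI : I = (maximalIdeal A).map (algebraMap A B)) [IsLocalRing (B ⧸ I)] :
    LocCoh.depth B B = LocCoh.depth A A + LocCoh.depth (B ⧸ I) (B ⧸ I) := by
  have h := FlatLocal.depth_tensor A B A B
  have h1 : LocCoh.depth B (B ⊗[A] A) = LocCoh.depth B B :=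
    depth_congr (AlgebraTensorModule.rid A B B)
  have hsm : (maximalIdeal A).map (algebraMap A B) • (⊤ : Submodule B B) = I := by
    rw [hI, smul_eq_mul, Ideal.mul_top]
  have h2 : LocCoh.depth B (B ⧸ (maximalIdeal A).map (algebraMap A B) • (⊤ : Submodule B B)) =
      LocCoh.depth B (B ⧸ I) := depth_congr (Submodule.quotEquivOfEq _ _ hsm)
  have hne : I ≠ ⊤ := by
    intro htop
    have : Nontrivial (B ⧸ I) := inferInstance
    rw [htop] at this
    exact not_subsingleton (B ⧸ (⊤ : Ideal B)) (Ideal.Quotient.subsingleton_iff.mpr rfl)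
  have hloc : IsLocalHom (algebraMap B (B ⧸ I)) := isLocalHom_quotient_mk B I hne
  have h3 : LocCoh.depth B (B ⧸ I) = LocCoh.depth (B ⧸ I) (B ⧸ I) :=
    DepthFinite.depth_eq_of_isLocalHom B (B ⧸ I) (B ⧸ I)
  rw [← h1, h, h2, h3]

/-- Ring-level dimension formula for a flat local homomorphism. -/
theorem ringKrullDim_eq_add_fibre (I : Ideal B)
    (hI : I = (maximalIdeal A).map (algebraMap A B)) :
    ringKrullDim B = ringKrullDim A + ringKrullDim (B ⧸ I) := by
  have h := FlatLocal.supportDim_tensor_eq A B B A
  have h1 : Module.supportDim B (B ⊗[A] A) = Module.supportDim B B :=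
    Module.supportDim_eq_of_equiv (AlgebraTensorModule.rid A B B)
  have hsm : (maximalIdeal A).map (algebraMap A B) • (⊤ : Submodule B B) = I := by
    rw [hI, smul_eq_mul, Ideal.mul_top]
  have h2 : Module.supportDim B
      (B ⧸ (maximalIdeal A).map (algebraMap A B) • (⊤ : Submodule B B)) =
      Module.supportDim B (B ⧸ I) := Module.supportDim_eq_of_equiv (Submodule.quotEquivOfEq _ _ hsm)
  rw [h1, h2, Module.supportDim_self_eq_ringKrullDim, Module.supportDim_self_eq_ringKrullDim,
    Module.supportDim_quotient_eq_ringKrullDim] at h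
  exact h

end Local

section Global

variable {R S : Type u} [CommRing R] [CommRing S] [IsNoetherianRing R] [IsNoetherianRing S]
  [Algebra R S]

/-- The local ring `S_q / p S_q` of the fibre over `p` at `q`. -/
abbrev FibLoc (p : Ideal R) (q : Ideal S) [q.IsPrime] : Type u :=
  Localization.AtPrime q ⧸ (p.map (algebraMap R S)).map (algebraMap S (Localization.AtPrime q))

omit [IsNoetherianRing R] [IsNoetherianRing S] in
theorem fibLoc_ideal_le (p : Ideal R) (q : Ideal S) [q.IsPrime] [q.LiesOver p] :
    (p.map (algebraMap R S)).map (algebraMap S (Localization.AtPrime q)) ≤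
      maximalIdeal (Localization.AtPrime q) := by
  rw [← IsLocalization.AtPrime.map_eq_maximalIdeal q (Localization.AtPrime q)]
  apply Ideal.map_mono
  rw [Ideal.map_le_iff_le_comap]
  exact le_of_eq (Ideal.LiesOver.over (p := p) (P := q))

omit [IsNoetherianRing R] [IsNoetherianRing S] in
theorem isLocalRing_fibLoc (p : Ideal R) (q : Ideal S) [q.IsPrime] [q.LiesOver p] :
    IsLocalRing (FibLoc p q) := by
  have hne : (p.map (algebraMap R S)).map (algebraMap S (Localization.AtPrime q)) ≠ ⊤ := by
    intro h
    have := fibLoc_ideal_le p q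
    rw [h] at this
    exact (maximalIdeal.isMaximal _).ne_top (top_le_iff.mp this)
  have : Nontrivial (FibLoc p q) := Ideal.Quotient.nontrivial_iff.mpr hne
  exact IsLocalRing.of_surjective' (Ideal.Quotient.mk _) Ideal.Quotient.mk_surjective

omit [IsNoetherianRing R] [IsNoetherianRing S] in
/-- The depth of the fibre local ring `S_q / p S_q`. -/
noncomputable def fibDepth (p : Ideal R) (q : Ideal S) [q.IsPrime] [q.LiesOver p] : ℕ∞ :=
  haveI := isLocalRing_fibLoc p q
  LocCoh.depth (FibLoc p q) (FibLoc p q)

omit [IsNoetherianRing R] [IsNoetherianRing S] in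
/-- The dimension of the fibre local ring `S_q / p S_q`, as an element of `ℕ∞`. -/
noncomputable def fibDim (p : Ideal R) (q : Ideal S) [q.IsPrime] [q.LiesOver p] : ℕ∞ :=
  haveI := isLocalRing_fibLoc p q
  (maximalIdeal (FibLoc p q)).height

omit [IsNoetherianRing R] [IsNoetherianRing S] in
theorem coe_fibDim (p : Ideal R) (q : Ideal S) [q.IsPrime] [q.LiesOver p] :
    ((fibDim p q : ℕ∞) : WithBot ℕ∞) = ringKrullDim (FibLoc p q) := by
  have := isLocalRing_fibLoc p q
  unfold fibDim
  exact IsLocalRing.maximalIdeal_height_eq_ringKrullDim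

variable [Module.Flat R S]

/-- Depth formula for the localizations of a flat map. -/
theorem depth_localization_eq_add (p : Ideal R) [p.IsPrime] (q : Ideal S) [q.IsPrime]
    [q.LiesOver p] :
    LocCoh.depth (Localization.AtPrime q) (Localization.AtPrime q) =
      LocCoh.depth (Localization.AtPrime p) (Localization.AtPrime p) + fibDepth p q := by
  have := isLocalRing_fibLoc p q
  unfold fibDepth
  let _ := Localization.AtPrime.algebraOfLiesOver p q
  have hloc : IsLocalHom (algebraMap (Localization.AtPrime p) (Localization.AtPrime q)) :=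
    Localization.isLocalHom_localRingHom p q (algebraMap R S) Ideal.LiesOver.over
  apply depth_eq_add_depth_fibre (Localization.AtPrime p) (Localization.AtPrime q)
  rw [← IsLocalization.AtPrime.map_eq_maximalIdeal p (Localization.AtPrime p), Ideal.map_map,
    Ideal.map_map, ← IsScalarTower.algebraMap_eq, ← IsScalarTower.algebraMap_eq]

/-- Dimension formula for the localizations of a flat map. -/
theorem height_eq_add (p : Ideal R) [p.IsPrime] (q : Ideal S) [q.IsPrime] [q.LiesOver p] :
    (q.height : WithBot ℕ∞) = (p.height : WithBot ℕ∞) + ringKrullDim (FibLoc p q) := by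
  let _ := Localization.AtPrime.algebraOfLiesOver p q
  have hloc : IsLocalHom (algebraMap (Localization.AtPrime p) (Localization.AtPrime q)) :=
    Localization.isLocalHom_localRingHom p q (algebraMap R S) Ideal.LiesOver.over
  rw [← IsLocalization.AtPrime.ringKrullDim_eq_height q (Localization.AtPrime q),
    ← IsLocalization.AtPrime.ringKrullDim_eq_height p (Localization.AtPrime p)]
  apply ringKrullDim_eq_add_fibre (Localization.AtPrime p) (Localization.AtPrime q)
  rw [← IsLocalization.AtPrime.map_eq_maximalIdeal p (Localization.AtPrime p), Ideal.map_map,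
    Ideal.map_map, ← IsScalarTower.algebraMap_eq, ← IsScalarTower.algebraMap_eq]

/-- Dimension formula in `ℕ∞`. -/
theorem height_eq_add' (p : Ideal R) [p.IsPrime] (q : Ideal S) [q.IsPrime] [q.LiesOver p] :
    q.height = p.height + fibDim p q := by
  have h := height_eq_add p q
  rw [← coe_fibDim, ← WithBot.coe_add] at h
  exact WithBot.coe_inj.mp h

end Global

section Fibre

variable {R S : Type u} [CommRing R] [CommRing S] [IsNoetherianRing S] [Algebra R S]

attribute [local instance] Algebra.TensorProduct.rightAlgebra in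
/-- The fibre ring of a Noetherian algebra is Noetherian. -/
theorem isNoetherianRing_fiber (p : Ideal R) [p.IsPrime] : IsNoetherianRing (p.Fiber S) := by
  have e := (Ideal.Fiber.algEquivAux₁ (S := S) p).toRingEquiv
  have h1 : IsNoetherianRing (Localization (Algebra.algebraMapSubmonoid S p.primeCompl)) :=
    IsLocalization.isNoetherianRing (Algebra.algebraMapSubmonoid S p.primeCompl) _ inferInstance
  exact isNoetherianRing_of_ringEquiv _ e.symm

/-- Transfer of a property of (dimension, depth) between the local rings of the fibre ring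
`κ(p) ⊗ S` and the rings `S_q / p S_q`. -/
theorem forall_fiber_iff (Φ : ℕ∞ → ℕ∞ → Prop) (p : Ideal R) [p.IsPrime] :
    (∀ (Q : Ideal (p.Fiber S)) [Q.IsPrime],
      Φ Q.height (LocCoh.depth (Localization.AtPrime Q) (Localization.AtPrime Q))) ↔
    (∀ (q : Ideal S) [q.IsPrime] [q.LiesOver p], Φ (fibDim p q) (fibDepth p q)) := by
  have hN : IsNoetherianRing (p.Fiber S) := isNoetherianRing_fiber p
  -- transport along the Mathlib isomorphism
  have tr : ∀ (Q : Ideal (p.Fiber S)) [Q.IsPrime]
      [(Q.comap Algebra.TensorProduct.includeRight).LiesOver p],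
      Q.height = fibDim p (Q.comap Algebra.TensorProduct.includeRight) ∧
      LocCoh.depth (Localization.AtPrime Q) (Localization.AtPrime Q) =
        fibDepth p (Q.comap Algebra.TensorProduct.includeRight) := by
    intro Q _ _
    have := isLocalRing_fibLoc p (Q.comap Algebra.TensorProduct.includeRight)
    have e := (Ideal.Fiber.algEquivAux₂ p Q).toRingEquiv
    refine ⟨?_, depth_eq_of_ringEquiv e⟩
    have h1 := ringKrullDim_eq_of_ringEquiv e
    rw [IsLocalization.AtPrime.ringKrullDim_eq_height Q (Localization.AtPrime Q),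
      ← coe_fibDim] at h1
    exact WithBot.coe_inj.mp h1
  constructor
  · intro h q hq hqp
    have key : ∀ (q q' : Ideal S) [q.IsPrime] [q'.IsPrime] [q.LiesOver p] [q'.LiesOver p],
        q' = q → Φ (fibDim p q') (fibDepth p q') → Φ (fibDim p q) (fibDepth p q) := by
      intro q q' _ _ _ _ hqq
      subst hqq
      exact id
    let Q' : PrimeSpectrum (p.Fiber S) :=
      PrimeSpectrum.primesOverOrderIsoFiber R S p ⟨q, ⟨hq, hqp⟩⟩
    have hQ' : Q'.asIdeal.comap Algebra.TensorProduct.includeRight = q := by
      have h1 := (PrimeSpectrum.primesOverOrderIsoFiber R S p).symm_apply_apply ⟨q, ⟨hq, hqp⟩⟩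
      have h2 := PrimeSpectrum.coe_primesOverOrderIsoFiber_symm_apply (R := R) (S := S) (p := p) Q'
      rw [← h2]
      exact congrArg Subtype.val h1
    have hlo : (Q'.asIdeal.comap Algebra.TensorProduct.includeRight).LiesOver p := by
      rw [hQ']; exact hqp
    have hQprime : Q'.asIdeal.IsPrime := Q'.2
    obtain ⟨h1, h2⟩ := tr Q'.asIdeal
    have h3 := h Q'.asIdeal
    rw [h1, h2] at h3
    exact key q _ hQ' h3
  · intro h Q hQ
    have hmem := ((PrimeSpectrum.primesOverOrderIsoFiber R S p).symm ⟨Q, hQ⟩).2
    rw [PrimeSpectrum.coe_primesOverOrderIsoFiber_symm_apply] at hmem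
    have hprime : (Q.comap Algebra.TensorProduct.includeRight).IsPrime := hmem.1
    have hlo : (Q.comap Algebra.TensorProduct.includeRight).LiesOver p := hmem.2
    obtain ⟨h1, h2⟩ := tr Q
    rw [h1, h2]
    exact h _

/-- `(S_k)` for the fibre ring in terms of the fibre local rings. -/
theorem hasSk_fiber_iff (k : ℕ) (p : Ideal R) [p.IsPrime] :
    LocCoh.HasSk k (p.Fiber S) (p.Fiber S) ↔
      ∀ (q : Ideal S) [q.IsPrime] [q.LiesOver p], min (k : ℕ∞) (fibDim p q) ≤ fibDepth p q := by
  have hN : IsNoetherianRing (p.Fiber S) := isNoetherianRing_fiber p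
  rw [Groth.Agent.Lib.Helper49.SkLift.hasSk_self_iff']
  exact forall_fiber_iff (fun d e => min (k : ℕ∞) d ≤ e) p

/-- Cohen–Macaulayness of the fibre ring in terms of the fibre local rings. -/
theorem isCM_fiber_iff (p : Ideal R) [p.IsPrime] :
    LocCoh.IsCohenMacaulayRing (p.Fiber S) ↔
      ∀ (q : Ideal S) [q.IsPrime] [q.LiesOver p], fibDim p q = fibDepth p q := by
  have hN : IsNoetherianRing (p.Fiber S) := isNoetherianRing_fiber p
  rw [← forall_fiber_iff (fun d e => d = e) p]
  constructor
  · intro h Q hQ
    have h1 := (h.isCohenMacaulayLocalRing_localization Q).supportDim_eq_depth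
    rw [Module.supportDim_self_eq_ringKrullDim,
      IsLocalization.AtPrime.ringKrullDim_eq_height Q (Localization.AtPrime Q)] at h1
    exact WithBot.coe_inj.mp h1
  · intro h
    refine ⟨fun Q hQ => ?_⟩
    have h1 := h Q
    refine LocCoh.IsCohenMacaulayLocalRing.mk ?_
    rw [Module.supportDim_self_eq_ringKrullDim,
      IsLocalization.AtPrime.ringKrullDim_eq_height Q (Localization.AtPrime Q), h1]

end Fibre

section Arith

theorem min_add_le (k a b : ℕ∞) : min k (a + b) ≤ min k a + min k b := by
  rcases le_total k a with ha | ha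
  · rw [min_eq_left ha]
    exact (min_le_left _ _).trans le_self_add
  rcases le_total k b with hb | hb
  · rw [min_eq_left hb]
    exact (min_le_left _ _).trans le_add_self
  rw [min_eq_right ha, min_eq_right hb]
  exact min_le_right _ _

end Arith

section Main

variable {R S : Type u} [CommRing R] [CommRing S] [IsNoetherianRing R] [IsNoetherianRing S]
  [Algebra R S] [Module.Flat R S]

/-- `depth ≤ dim` for the fibre local rings. -/
theorem fibDepth_le_fibDim (p : Ideal R) (q : Ideal S) [q.IsPrime] [q.LiesOver p] :
    fibDepth p q ≤ fibDim p q := by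
  have := isLocalRing_fibLoc p q
  have h := DepthLib.depth_le_supportDim (FibLoc p q) (FibLoc p q)
  rw [Module.supportDim_self_eq_ringKrullDim, ← coe_fibDim] at h
  exact WithBot.coe_le_coe.mp h

/-- **Ascent of `(S_k)` along flat maps with `(S_k)` fibres.** -/
theorem hasSk_of_flat_of_fibres (k : ℕ) (hR : LocCoh.HasSk k R R)
    (hfib : ∀ (p : Ideal R) [p.IsPrime], LocCoh.HasSk k (p.Fiber S) (p.Fiber S)) :
    LocCoh.HasSk k S S := by
  rw [Groth.Agent.Lib.Helper49.SkLift.hasSk_self_iff']
  intro q hq
  have h1 := depth_localization_eq_add (q.under R) q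
  have h2 := height_eq_add' (q.under R) q
  have hR' := (Groth.Agent.Lib.Helper49.SkLift.hasSk_self_iff' R k).mp hR (q.under R)
  have hf := (hasSk_fiber_iff k (q.under R)).mp (hfib (q.under R)) q
  rw [h1, h2]
  exact (min_add_le _ _ _).trans (add_le_add hR' hf)

end Main

section Comp

variable {A B C : Type u} [CommRing A] [CommRing B] [CommRing C] [IsNoetherianRing A]
  [IsNoetherianRing B] [IsNoetherianRing C] [Algebra A B] [Algebra B C] [Algebra A C]
  [IsScalarTower A B C] [Module.Flat A B] [Module.Flat B C] [Module.Flat A C]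

/-- Additivity of depth and dimension of fibre local rings in a tower of flat maps. -/
theorem fib_comp (p : Ideal A) [p.IsPrime] (q : Ideal B) [q.IsPrime] (r : Ideal C) [r.IsPrime]
    [q.LiesOver p] [r.LiesOver q] [r.LiesOver p] :
    fibDepth p r = fibDepth p q + fibDepth q r ∧ fibDim p r = fibDim p q + fibDim q r := by
  constructor
  · have h1 := depth_localization_eq_add p r
    have h2 := depth_localization_eq_add p q
    have h3 := depth_localization_eq_add q r
    rw [h3, h2, add_assoc] at h1
    have hne : LocCoh.depth (Localization.AtPrime p) (Localization.AtPrime p) ≠ ⊤ :=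
      DepthLib.depth_ne_top _ _
    exact ((ENat.add_right_injective_of_ne_top hne) h1).symm
  · have h1 := height_eq_add' p r
    have h2 := height_eq_add' p q
    have h3 := height_eq_add' q r
    rw [h3, h2, add_assoc] at h1
    have hne : p.height ≠ ⊤ := Ideal.height_ne_top (Ideal.IsPrime.ne_top ‹_›)
    exact ((ENat.add_right_injective_of_ne_top hne) h1).symm

end Comp

end Groth.Agent.Lib.Helper49.FibreSk
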