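import Mathlib
import Groth.Prelude.Def_CAlg
import Groth.Agent.Lib.Helper49.FibreSk
import Groth.Agent.S9297

/-!
# Cohen–Macaulay rings and flat maps (helper49)

* `isCM_iff_depth_eq_height` : CM ring iff `depth R_p = ht p` for all primes.
* `isCM_of_flat_of_fibLoc` : ascent of CM along flat maps with CM fibre local rings.
* `isCM_of_flat_of_fibres` : the same with the fibre rings `p.Fiber S`.
* `isCM_of_faithfullyFlat` : descent of CM along faithfully flat maps of Noetherian rings.
* `isCM_of_flat_of_isIntegral` : flat integral Noetherian extension of a CM ring is CM.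
-/

set_option autoImplicit false
set_option linter.unusedSectionVars false
set_option linter.overlappingInstances false
universe u

open IsLocalRing TensorProduct

namespace Groth.Agent.Lib.Helper49.CMFibre

open Groth.Agent.Lib.Helper49.FibreSk

section Basic

variable (R : Type u) [CommRing R] [IsNoetherianRing R]

/-- The local ring `R_p` of a Noetherian ring is CM iff `depth R_p = ht p`. -/
theorem isCMLocal_iff (p : Ideal R) [p.IsPrime] :
    LocCoh.IsCohenMacaulayLocalRing (Localization.AtPrime p) ↔
      LocCoh.depth (Localization.AtPrime p) (Localization.AtPrime p) = p.height := by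
  constructor
  · intro h
    have h1 := h.supportDim_eq_depth
    rw [Module.supportDim_self_eq_ringKrullDim,
      IsLocalization.AtPrime.ringKrullDim_eq_height p (Localization.AtPrime p)] at h1
    exact (WithBot.coe_inj.mp h1).symm
  · intro h
    refine LocCoh.IsCohenMacaulayLocalRing.mk ?_
    rw [Module.supportDim_self_eq_ringKrullDim,
      IsLocalization.AtPrime.ringKrullDim_eq_height p (Localization.AtPrime p), h]

theorem isCM_iff_depth_eq_height :
    LocCoh.IsCohenMacaulayRing R ↔ ∀ (p : Ideal R) [p.IsPrime],
      LocCoh.depth (Localization.AtPrime p) (Localization.AtPrime p) = p.height := by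
  constructor
  · intro h p hp
    exact (isCMLocal_iff R p).1 (h.isCohenMacaulayLocalRing_localization p)
  · intro h
    exact ⟨fun p hp => (isCMLocal_iff R p).2 (h p)⟩

/-- `depth R_p ≤ ht p`. -/
theorem depth_le_height (p : Ideal R) [p.IsPrime] :
    LocCoh.depth (Localization.AtPrime p) (Localization.AtPrime p) ≤ p.height := by
  have h := Groth.Agent.Lib.Helper29.DepthLib.depth_le_supportDim (Localization.AtPrime p)
    (Localization.AtPrime p)
  rw [Module.supportDim_self_eq_ringKrullDim,
    IsLocalization.AtPrime.ringKrullDim_eq_height p (Localization.AtPrime p)] at h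
  exact WithBot.coe_le_coe.mp h

end Basic

section Main

variable {R S : Type u} [CommRing R] [CommRing S] [IsNoetherianRing R] [IsNoetherianRing S]
  [Algebra R S] [Module.Flat R S]

/-- **Ascent of Cohen–Macaulayness** along flat maps with CM fibre local rings. -/
theorem isCM_of_flat_of_fibLoc [LocCoh.IsCohenMacaulayRing R]
    (h : ∀ (q : Ideal S) [q.IsPrime], fibDim (q.under R) q = fibDepth (q.under R) q) :
    LocCoh.IsCohenMacaulayRing S := by
  rw [isCM_iff_depth_eq_height]
  intro q hq
  have h1 := depth_localization_eq_add (q.under R) q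
  have h2 := height_eq_add' (q.under R) q
  have h3 := (isCM_iff_depth_eq_height R).1 inferInstance (q.under R)
  rw [h1, h2, h3, h q]

/-- **Ascent of Cohen–Macaulayness** along flat maps with CM fibres. -/
theorem isCM_of_flat_of_fibres [LocCoh.IsCohenMacaulayRing R]
    (h : ∀ (p : Ideal R) [p.IsPrime], LocCoh.IsCohenMacaulayRing (p.Fiber S)) :
    LocCoh.IsCohenMacaulayRing S := by
  apply isCM_of_flat_of_fibLoc (R := R)
  intro q hq
  exact (isCM_fiber_iff (q.under R)).1 (h (q.under R)) q

/-- In a flat map of Noetherian rings with CM target, the source is CM at contracted primes,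
and the fibre local rings are CM. -/
theorem descent_at [LocCoh.IsCohenMacaulayRing S] (q : Ideal S) [q.IsPrime] :
    LocCoh.depth (Localization.AtPrime (q.under R)) (Localization.AtPrime (q.under R)) =
        (q.under R).height ∧ fibDim (q.under R) q = fibDepth (q.under R) q := by
  have h1 := depth_localization_eq_add (q.under R) q
  have h2 := height_eq_add' (q.under R) q
  have h3 := (isCM_iff_depth_eq_height S).1 inferInstance q
  have h4 := depth_le_height R (q.under R)
  have h5 := fibDepth_le_fibDim (q.under R) q
  have hfin : q.height ≠ ⊤ := Ideal.height_ne_top (Ideal.IsPrime.ne_top inferInstance)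
  rw [h3, h2] at h1
  rw [h2] at hfin
  generalize LocCoh.depth (Localization.AtPrime (q.under R)) (Localization.AtPrime (q.under R)) = a
    at h1 h4 ⊢
  generalize (q.under R).height = b at h1 h4 hfin ⊢
  generalize fibDim (q.under R) q = c at h1 h5 hfin ⊢
  generalize fibDepth (q.under R) q = d at h1 h5 ⊢
  have hb : b ≠ ⊤ := fun hb => hfin (by rw [hb, top_add])
  have hc : c ≠ ⊤ := fun hc => hfin (by rw [hc, add_top])
  lift b to ℕ using hb
  lift c to ℕ using hc
  have ha : a ≠ ⊤ := fun ha => by rw [ha, top_le_iff] at h4; exact ENat.natCast_ne_top b h4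
  have hd : d ≠ ⊤ := fun hd => by rw [hd, top_le_iff] at h5; exact ENat.natCast_ne_top c h5
  lift a to ℕ using ha
  lift d to ℕ using hd
  norm_cast at h1 h4 h5 ⊢
  omega

/-- **Descent of Cohen–Macaulayness** along faithfully flat maps of Noetherian rings. -/
theorem isCM_of_faithfullyFlat [Module.FaithfullyFlat R S] [LocCoh.IsCohenMacaulayRing S] :
    LocCoh.IsCohenMacaulayRing R := by
  rw [isCM_iff_depth_eq_height]
  intro p hp
  obtain ⟨q, hq, hqp⟩ := Ideal.exists_isPrime_liesOver_of_faithfullyFlat (B := S) p
  have key : ∀ (p' : Ideal R) [p'.IsPrime], p' = p →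
      LocCoh.depth (Localization.AtPrime p') (Localization.AtPrime p') = p'.height →
      LocCoh.depth (Localization.AtPrime p) (Localization.AtPrime p) = p.height := by
    intro p' _ he
    subst he
    exact id
  exact key _ hqp.over.symm (descent_at (R := R) q).1

/-- The fibre rings of a flat map of Noetherian rings with CM target are CM. -/
theorem isCM_fiber_of_isCM [LocCoh.IsCohenMacaulayRing S] (p : Ideal R) [p.IsPrime] :
    LocCoh.IsCohenMacaulayRing (p.Fiber S) := by
  rw [isCM_fiber_iff]
  intro q hq hqp
  have key : ∀ (p' : Ideal R) [p'.IsPrime] [q.LiesOver p'], p' = p →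
      fibDim p' q = fibDepth p' q → fibDim p q = fibDepth p q := by
    intro p' _ _ he
    subst he
    exact id
  exact key _ hqp.over.symm (descent_at (R := R) q).2

omit [Module.Flat R S] [IsNoetherianRing R] in
/-- Fibre local rings of integral maps are zero-dimensional. -/
theorem fibDim_eq_zero_of_isIntegral [Algebra.IsIntegral R S] (p : Ideal R) [p.IsPrime]
    (q : Ideal S) [q.IsPrime] [q.LiesOver p] : fibDim p q = 0 := by
  have hmin : q ∈ (p.map (algebraMap R S)).minimalPrimes := by
    refine ⟨⟨inferInstance, ?_⟩, ?_⟩
    · rw [Ideal.map_le_iff_le_comap]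
      exact le_of_eq (Ideal.LiesOver.over (p := p) (P := q))
    · rintro Q ⟨hQ, hpQ⟩ hQq
      have hpQ' : p ≤ Q.comap (algebraMap R S) := Ideal.map_le_iff_le_comap.1 hpQ
      have hqp : q.comap (algebraMap R S) = p := (Ideal.LiesOver.over (p := p) (P := q)).symm
      by_contra hne
      obtain ⟨x, hxq, hxQ⟩ := Set.not_subset.1 hne
      have hlt := Ideal.comap_lt_comap_of_integral_mem_sdiff (R := R) hQq ⟨hxq, hxQ⟩
        (Algebra.IsIntegral.isIntegral x)
      rw [hqp] at hlt
      exact (not_le_of_gt hlt) hpQ'
  have h := Groth.Agent.S9297.ringKrullDim_fibLoc_eq_zero p q hmin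
  rw [← coe_fibDim] at h
  exact_mod_cast h

/-- A flat integral Noetherian extension of a CM ring is CM. -/
theorem isCM_of_flat_of_isIntegral [Algebra.IsIntegral R S] [LocCoh.IsCohenMacaulayRing R] :
    LocCoh.IsCohenMacaulayRing S := by
  apply isCM_of_flat_of_fibLoc (R := R)
  intro q hq
  have h0 := fibDim_eq_zero_of_isIntegral (R := R) (q.under R) q
  have h1 := fibDepth_le_fibDim (q.under R) q
  rw [h0] at h1 ⊢
  exact (nonpos_iff_eq_zero.mp h1).symm

end Main

end Groth.Agent.Lib.Helper49.CMFibre
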