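import Mathlib
import Groth.Agent.Lib.Helper70.RegularEtale

/-!
# Étale algebras over regular rings are regular
-/

set_option autoImplicit false
universe u

namespace Groth.Agent.Lib.Helper49.RegularEtale

open IsLocalRing

/-- The local ring of a flat, unramified, essentially finite type algebra over `A` at a prime `q`
is regular as soon as `A_p` is, `p = q ∩ A`. -/
theorem isRegularLocalRing_localization_of_flat_unramified (A B : Type*) [CommRing A] [CommRing B]
    [Algebra A B] [IsNoetherianRing A] [IsNoetherianRing B] [Module.Flat A B]
    [Algebra.FormallyUnramified A B] [Algebra.EssFiniteType A B]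
    (q : Ideal B) [q.IsPrime]
    (h : IsRegularLocalRing (Localization.AtPrime (q.under A))) :
    IsRegularLocalRing (Localization.AtPrime q) := by
  have hlies : q.LiesOver (q.under A) := ⟨rfl⟩
  let _ := Localization.AtPrime.algebraOfLiesOver (q.under A) q
  have hloc : IsLocalHom (algebraMap (Localization.AtPrime (q.under A)) (Localization.AtPrime q)) := by
    rw [RingHom.algebraMap_toAlgebra]
    exact Localization.isLocalHom_localRingHom (q.under A) q (algebraMap A B) Ideal.LiesOver.over
  have hflat : Module.Flat (Localization.AtPrime (q.under A)) (Localization.AtPrime q) :=
    inferInstance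
  have hunr0 : Algebra.FormallyUnramified A (Localization.AtPrime q) :=
    Algebra.FormallyUnramified.comp A B (Localization.AtPrime q)
  have hunr : Algebra.FormallyUnramified (Localization.AtPrime (q.under A)) (Localization.AtPrime q) :=
    Algebra.FormallyUnramified.of_restrictScalars A _ _
  have hess0 : Algebra.EssFiniteType A (Localization.AtPrime q) :=
    Algebra.EssFiniteType.comp A B (Localization.AtPrime q)
  have hess : Algebra.EssFiniteType (Localization.AtPrime (q.under A)) (Localization.AtPrime q) :=
    Algebra.EssFiniteType.of_comp A _ _
  exact (Groth.Agent.Lib.Helper70.RegularEtale.isRegularLocalRing_iff_of_flat_unramified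
    (Localization.AtPrime (q.under A)) (Localization.AtPrime q)).mpr h

/-- A flat, unramified algebra of finite type over a regular ring is regular. -/
theorem isRegularRing_of_flat_unramified (A B : Type*) [CommRing A] [CommRing B] [Algebra A B]
    [IsRegularRing A] [Module.Flat A B] [Algebra.FormallyUnramified A B]
    [Algebra.FiniteType A B] : IsRegularRing B := by
  have hN : IsNoetherianRing B := Algebra.FiniteType.isNoetherianRing A B
  rw [isRegularRing_iff]
  intro q hq
  exact isRegularLocalRing_localization_of_flat_unramified A B q inferInstance

/-- An étale algebra over a regular ring is regular. -/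
theorem isRegularRing_of_etale (A B : Type*) [CommRing A] [CommRing B] [Algebra A B]
    [IsRegularRing A] [Algebra.Etale A B] : IsRegularRing B :=
  isRegularRing_of_flat_unramified A B

end Groth.Agent.Lib.Helper49.RegularEtale
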