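import Mathlib
import Groth.Agent.Lib.Helper49.RegularEtale

/-!
# Smooth algebras over regular rings are regular (helper49)

Namespace `Groth.Agent.Lib.Helper49.SmoothReg`.
-/

set_option autoImplicit false
set_option linter.overlappingInstances false
universe u

namespace Groth.Agent.Lib.Helper49.SmoothReg

open IsLocalRing

/-- A ring is regular if every prime has a principal open neighbourhood which is regular. -/
theorem isRegularRing_of_forall_exists_away (S : Type u) [CommRing S] [IsNoetherianRing S]
    (h : ∀ (q : Ideal S) [q.IsPrime], ∃ f ∉ q, IsRegularRing (Localization.Away f)) :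
    IsRegularRing S := by
  rw [isRegularRing_iff]
  intro q hq
  obtain ⟨f, hf, hreg⟩ := h q
  have hdisj : Disjoint (Submonoid.powers f : Set S) (q : Set S) :=
    (Ideal.disjoint_powers_iff_notMem_of_isPrime _).mpr hf
  have hQ : (q.map (algebraMap S (Localization.Away f))).IsPrime :=
    IsLocalization.isPrime_of_isPrime_disjoint (.powers f) _ q hq hdisj
  have hco : (q.map (algebraMap S (Localization.Away f))).under S = q :=
    IsLocalization.under_map_of_isPrime_disjoint (.powers f) _ hq hdisj
  have key : ∀ (q' : Ideal S) [q'.IsPrime], q' = q →
      IsRegularLocalRing (Localization.AtPrime q') →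
      IsRegularLocalRing (Localization.AtPrime q) := by
    intro q' _ he
    subst he
    exact id
  have e := IsLocalization.localizationLocalizationAtPrimeIsoLocalization (Submonoid.powers f)
    (q.map (algebraMap S (Localization.Away f)))
  have h2 : IsRegularLocalRing
      (Localization.AtPrime (q.map (algebraMap S (Localization.Away f)))) :=
    hreg.isRegularLocalRing_localization _
  exact key _ hco (IsRegularLocalRing.of_ringEquiv e.toRingEquiv.symm)

/-- **A smooth algebra over a regular ring is regular.** -/
theorem isRegularRing_of_smooth (R S : Type u) [CommRing R] [CommRing S] [Algebra R S]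
    [IsRegularRing R] [Algebra.Smooth R S] : IsRegularRing S := by
  have hN : IsNoetherianRing S := Algebra.FiniteType.isNoetherianRing R S
  apply isRegularRing_of_forall_exists_away
  intro q hq
  have hsm : Algebra.IsSmoothAt R q := inferInstance
  obtain ⟨f, hf, n, _, htower, het⟩ :=
    Algebra.IsSmoothAt.exists_isStandardEtale_mvPolynomial (R := R) (S := S) (p := q)
  refine ⟨f, hf, ?_⟩
  have : IsRegularRing (MvPolynomial (Fin n) R) := inferInstance
  have : Algebra.Etale (MvPolynomial (Fin n) R) (Localization.Away f) := inferInstance
  exact Groth.Agent.Lib.Helper49.RegularEtale.isRegularRing_of_etale (MvPolynomial (Fin n) R) _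

end Groth.Agent.Lib.Helper49.SmoothReg
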