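import Groth.Agent.Lib.Helper49.Serre
import Groth.Agent.Lib.Helper29.DepthFinite
import Mathlib.RingTheory.Localization.Module

/-!
# Serre's conditions over rings, part 2 (helper49)

Namespace `Groth.Agent.Lib.Helper49.Serre`.

* `localizedModuleSelfEquiv p : LocalizedModule p.primeCompl R ≃ₗ[R_p] R_p`
* `depth_localizedModule_self`, `supportDim_localizedModule_self`, `hasSk_self_iff`
* `quotSMulTopLocalizedEquiv` : `M_p / a M_p ≃ (M/aM)_p`
* `depth_localizedModule_quotSMulTop_add_one`
* `mem_associatedPrimes_quotient_span_iff_depth_eq_one`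
* `depth_eq_of_ringEquiv`
-/

set_option autoImplicit false
universe u

open IsLocalRing Pointwise

namespace Groth.Agent.Lib.Helper49.Serre

open Groth.Agent.Lib.Helper29 Groth.Agent.Lib.Helper29.DepthLib Groth.Agent.Lib.Helper29.CMLib

section Self

variable {R : Type u} [CommRing R] (p : Ideal R) [p.IsPrime]

/-- `R` localized as a module is `R_p`, linearly over `R_p`. -/
noncomputable def localizedModuleSelfEquiv :
    LocalizedModule p.primeCompl R ≃ₗ[Localization.AtPrime p] Localization.AtPrime p :=
  (IsLocalizedModule.iso p.primeCompl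
    (Algebra.linearMap R (Localization.AtPrime p))).extendScalarsOfIsLocalization p.primeCompl
      (Localization.AtPrime p)

theorem depth_localizedModule_self :
    LocCoh.depth (Localization.AtPrime p) (LocalizedModule p.primeCompl R) =
      LocCoh.depth (Localization.AtPrime p) (Localization.AtPrime p) :=
  depth_congr (localizedModuleSelfEquiv p)

theorem supportDim_localizedModule_self :
    Module.supportDim (Localization.AtPrime p) (LocalizedModule p.primeCompl R) =
      (p.height : WithBot ℕ∞) := by
  rw [Module.supportDim_eq_of_equiv (localizedModuleSelfEquiv p),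
    Module.supportDim_self_eq_ringKrullDim, IsLocalization.AtPrime.ringKrullDim_eq_height p]

variable (R) in
/-- `(S_k)` for the ring itself, in terms of heights and depths of the local rings. -/
theorem hasSk_self_iff (k : ℕ) :
    LocCoh.HasSk k R R ↔ ∀ (p : Ideal R) [p.IsPrime],
      min (k : WithBot ℕ∞) (p.height : WithBot ℕ∞) ≤
        ((LocCoh.depth (Localization.AtPrime p) (Localization.AtPrime p) : ℕ∞) : WithBot ℕ∞) := by
  unfold LocCoh.HasSk
  refine forall_congr' fun p => forall_congr' fun hp => ?_
  rw [depth_localizedModule_self, supportDim_localizedModule_self]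

end Self

section Quot

variable {R : Type u} [CommRing R] (S : Submonoid R) (M : Type u) [AddCommGroup M] [Module R M]
  (a : R)

/-- The kernel of the localized quotient map `M_S → (M/aM)_S` is `a M_S`. -/
theorem ker_map_mkQ :
    LinearMap.ker (LocalizedModule.map S (Submodule.mkQ (a • (⊤ : Submodule R M)))) =
      algebraMap R (Localization S) a • (⊤ : Submodule (Localization S) (LocalizedModule S M)) := by
  ext y
  rw [LinearMap.mem_ker, Submodule.mem_smul_pointwise_iff_exists]
  constructor
  · intro hy
    induction y using LocalizedModule.induction_on with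
    | h m s =>
      rw [LocalizedModule.map_mk, ← LocalizedModule.zero_mk s, LocalizedModule.mk_eq] at hy
      obtain ⟨t, ht⟩ := hy
      simp only [smul_zero] at ht
      rw [← smul_assoc, Submodule.mkQ_apply, ← Submodule.Quotient.mk_smul,
        Submodule.Quotient.mk_eq_zero, Submodule.mem_smul_pointwise_iff_exists] at ht
      obtain ⟨m', -, hm'⟩ := ht
      refine ⟨LocalizedModule.mk m' (t * s * s), Submodule.mem_top, ?_⟩
      rw [algebraMap_smul, LocalizedModule.smul'_mk, hm', LocalizedModule.mk_eq]
      refine ⟨1, ?_⟩
      simp only [one_smul, Submonoid.smul_def, Submonoid.coe_mul, smul_eq_mul, ← mul_smul]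
      congr 1
      ring
  · rintro ⟨y', -, rfl⟩
    induction y' using LocalizedModule.induction_on with
    | h m s =>
      rw [algebraMap_smul, LocalizedModule.smul'_mk, LocalizedModule.map_mk,
        ← LocalizedModule.zero_mk s]
      congr 1
      rw [Submodule.mkQ_apply, Submodule.Quotient.mk_eq_zero]
      exact Submodule.smul_mem_pointwise_smul m a ⊤ Submodule.mem_top

/-- Localization commutes with `M ↦ M/aM`. -/
noncomputable def quotSMulTopLocalizedEquiv :
    QuotSMulTop (algebraMap R (Localization S) a) (LocalizedModule S M) ≃ₗ[Localization S]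
      LocalizedModule S (QuotSMulTop a M) :=
  (Submodule.quotEquivOfEq _ _ (ker_map_mkQ S M a).symm).trans
    (LinearMap.quotKerEquivOfSurjective _
      (LocalizedModule.map_surjective S _ (Submodule.mkQ_surjective _)))

end Quot

section DepthQuot

variable {R : Type u} [CommRing R] [IsNoetherianRing R] (M : Type u) [AddCommGroup M] [Module R M]
  [Module.Finite R M] (p : Ideal R) [p.IsPrime]

/-- Depth of the localization drops by one modulo a regular element of `p`. -/
theorem depth_localizedModule_quotSMulTop_add_one [Nontrivial (LocalizedModule p.primeCompl M)]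
    {a : R} (hap : a ∈ p)
    (ha : IsSMulRegular (LocalizedModule p.primeCompl M) (algebraMap R (Localization.AtPrime p) a)) :
    LocCoh.depth (Localization.AtPrime p) (LocalizedModule p.primeCompl (QuotSMulTop a M)) + 1 =
      LocCoh.depth (Localization.AtPrime p) (LocalizedModule p.primeCompl M) := by
  rw [← depth_congr (quotSMulTopLocalizedEquiv p.primeCompl M a)]
  exact depth_quotSMulTop_add_one _ _
    ((IsLocalization.AtPrime.to_map_mem_maximal_iff _ p a).mpr hap) ha

/-- For `a ∈ p` regular on `M_p`: `p ∈ Ass (M/aM)` iff `depth M_p = 1`. -/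
theorem mem_associatedPrimes_quotSMulTop_iff [Nontrivial (LocalizedModule p.primeCompl M)]
    {a : R} (hap : a ∈ p)
    (ha : IsSMulRegular (LocalizedModule p.primeCompl M) (algebraMap R (Localization.AtPrime p) a)) :
    p ∈ associatedPrimes R (QuotSMulTop a M) ↔
      LocCoh.depth (Localization.AtPrime p) (LocalizedModule p.primeCompl M) = 1 := by
  rw [← depth_localizedModule_eq_zero_iff, ← depth_localizedModule_quotSMulTop_add_one M p hap ha]
  constructor
  · intro h; rw [h, zero_add]
  · intro h
    have h' : LocCoh.depth (Localization.AtPrime p)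
        (LocalizedModule p.primeCompl (QuotSMulTop a M)) + 1 = 0 + 1 := by rw [h, zero_add]
    exact ENat.add_left_injective_of_ne_top ENat.one_ne_top h'

end DepthQuot

section RingQuot

variable {R : Type u} [CommRing R]

/-- `R ⧸ (a) ≃ R / aR`. -/
noncomputable def quotientSpanEquivQuotSMulTop (a : R) :
    (R ⧸ Ideal.span {a}) ≃ₗ[R] QuotSMulTop a R :=
  Submodule.quotEquivOfEq _ _ (by
    rw [← Submodule.ideal_span_singleton_smul a (⊤ : Submodule R R), smul_eq_mul, Ideal.mul_top])

variable [IsNoetherianRing R] (p : Ideal R) [p.IsPrime]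

/-- For `a ∈ p` regular on `R_p`: `p ∈ Ass (R/aR)` iff `depth R_p = 1`. -/
theorem mem_associatedPrimes_quotient_span_iff {a : R} (hap : a ∈ p)
    (ha : IsSMulRegular (Localization.AtPrime p) (algebraMap R (Localization.AtPrime p) a)) :
    p ∈ associatedPrimes R (R ⧸ Ideal.span {a}) ↔
      LocCoh.depth (Localization.AtPrime p) (Localization.AtPrime p) = 1 := by
  rw [LinearEquiv.AssociatedPrimes.eq (quotientSpanEquivQuotSMulTop a),
    ← depth_localizedModule_self]
  have : Nontrivial (LocalizedModule p.primeCompl R) :=
    (localizedModuleSelfEquiv p).toEquiv.nontrivial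
  exact mem_associatedPrimes_quotSMulTop_iff R p hap
    (((localizedModuleSelfEquiv p).isSMulRegular_congr _).mpr ha)

end RingQuot

section S2

variable {R : Type u} [CommRing R] [IsNoetherianRing R]

omit [IsNoetherianRing R] in
/-- An associated prime of `R/(a)` contains `a`. -/
theorem mem_of_mem_associatedPrimes_quotient_span {a : R} {p : Ideal R}
    (hp : p ∈ associatedPrimes R (R ⧸ Ideal.span {a})) : a ∈ p := by
  have h1 := IsAssociatedPrime.annihilator_le hp
  rw [Submodule.annihilator_top, Ideal.annihilator_quotient] at h1
  exact h1 (Ideal.mem_span_singleton_self a)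

/-- If `a ∈ p` is regular on `R_p` then `depth R_p ≥ 1`. -/
theorem one_le_depth_of_isSMulRegular (p : Ideal R) [p.IsPrime] {a : R} (hap : a ∈ p)
    (ha : IsSMulRegular (Localization.AtPrime p) (algebraMap R (Localization.AtPrime p) a)) :
    1 ≤ LocCoh.depth (Localization.AtPrime p) (Localization.AtPrime p) := by
  have : Nontrivial (LocalizedModule p.primeCompl R) :=
    (localizedModuleSelfEquiv p).toEquiv.nontrivial
  rw [← depth_localizedModule_self, ← depth_localizedModule_quotSMulTop_add_one R p hap
    (((localizedModuleSelfEquiv p).isSMulRegular_congr _).mpr ha)]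
  exact le_add_self

/-- Under `(S_2)`, associated primes of `R/(a)` (`a` regular on `R_p`) have height at most one. -/
theorem height_le_one_of_hasSk_two (h : LocCoh.HasSk 2 R R) {a : R} {p : Ideal R} [p.IsPrime]
    (ha : IsSMulRegular (Localization.AtPrime p) (algebraMap R (Localization.AtPrime p) a))
    (hp : p ∈ associatedPrimes R (R ⧸ Ideal.span {a})) : p.height ≤ 1 := by
  have hap := mem_of_mem_associatedPrimes_quotient_span hp
  have hd := (mem_associatedPrimes_quotient_span_iff p hap ha).mp hp
  have h2 := (hasSk_self_iff R 2).mp h p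
  rw [hd] at h2
  rcases min_le_iff.mp h2 with h3 | h3
  · exfalso
    have : ((2 : ℕ) : WithBot ℕ∞) ≤ ((1 : ℕ∞) : WithBot ℕ∞) := h3
    norm_cast at this
  · exact_mod_cast h3

end S2

section S2Domain

variable (R : Type u) [CommRing R] [IsDomain R] [IsNoetherianRing R]

/-- **S11269**: for a Noetherian domain, `(S_2)` iff all associated primes of principal ideals have
height one. -/
theorem hasSk_two_iff_of_isDomain :
    LocCoh.HasSk 2 R R ↔
      ∀ a : R, a ≠ 0 → ∀ P : Ideal R, P ∈ associatedPrimes R (R ⧸ Ideal.span {a}) →
        P.height = 1 := by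
  have hreg : ∀ (P : Ideal R) [P.IsPrime] (a : R), a ≠ 0 →
      IsSMulRegular (Localization.AtPrime P) (algebraMap R (Localization.AtPrime P) a) := by
    intro P _ a ha
    exact IsSMulRegular.of_isLocalization (Localization.AtPrime P) P.primeCompl
      (IsRegular.of_ne_zero ha).left.isSMulRegular
  constructor
  · intro h a ha P hP
    have : P.IsPrime := hP.isPrime
    have hle := height_le_one_of_hasSk_two h (hreg P a ha) hP
    have haP := mem_of_mem_associatedPrimes_quotient_span hP
    have hne : P.height ≠ 0 := by
      rw [Ne, Ideal.height_eq_zero_iff_eq_bot]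
      rintro rfl
      exact ha (by simpa using haP)
    exact le_antisymm hle (Order.one_le_iff_ne_zero.mpr hne)
  · intro h
    rw [hasSk_self_iff]
    intro P _
    by_cases hP : P = ⊥
    · have : P.height = 0 := Ideal.height_eq_zero_iff_eq_bot.mpr hP
      rw [this]
      exact le_trans (min_le_right _ _) (by exact_mod_cast bot_le)
    · obtain ⟨a, haP, ha0⟩ : ∃ a ∈ P, a ≠ (0 : R) := by
        by_contra! hcon
        exact hP (eq_bot_iff.mpr fun x hx => by rw [Ideal.mem_bot]; exact hcon x hx)
      have h1 := one_le_depth_of_isSMulRegular P haP (hreg P a ha0)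
      by_cases hd : LocCoh.depth (Localization.AtPrime P) (Localization.AtPrime P) = 1
      · have hass := (mem_associatedPrimes_quotient_span_iff P haP (hreg P a ha0)).mpr hd
        rw [h a ha0 P hass, hd]
        exact min_le_right _ _
      · refine le_trans (min_le_left _ _) ?_
        have h2 : (2 : ℕ∞) ≤ LocCoh.depth (Localization.AtPrime P) (Localization.AtPrime P) := by
          have := lt_of_le_of_ne h1 (Ne.symm hd)
          have h3 := Order.add_one_le_of_lt this
          simpa [one_add_one_eq_two] using h3
        have h4 : ((2 : ℕ∞) : WithBot ℕ∞) ≤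
            ((LocCoh.depth (Localization.AtPrime P) (Localization.AtPrime P) : ℕ∞) : WithBot ℕ∞) :=
          WithBot.coe_le_coe.mpr h2
        exact h4

end S2Domain

end Groth.Agent.Lib.Helper49.Serre
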