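import Mathlib
import Groth.Prelude.Def_CAlg
import Groth.Agent.Lib.Helper49.FibreSk

/-!
# Ascent of regularity and of `(R_k)` along flat maps (helper49)

Namespace `Groth.Agent.Lib.Helper49.RegAscent`.

* `spanFinrank_maximalIdeal_le_add` : embedding dimension is subadditive for local homomorphisms
* `isRegularLocalRing_of_flat_of_fibre` : `A` regular, `B/m_A B` regular, `A → B` flat local ⇒ `B` regular
* `isRegularLocalRing_localization_of_fibLoc` : pointwise global version
-/

set_option autoImplicit false
set_option linter.overlappingInstances false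
universe u

open IsLocalRing

namespace Groth.Agent.Lib.Helper49.RegAscent

open Groth.Agent.Lib.Helper49.FibreSk

section Local

variable (A B : Type u) [CommRing A] [CommRing B] [IsLocalRing A] [IsLocalRing B]
  [IsNoetherianRing A] [IsNoetherianRing B] [Algebra A B] [IsLocalHom (algebraMap A B)]

omit [IsLocalHom (algebraMap A B)] in
/-- Embedding dimension is subadditive along a local homomorphism. -/
theorem spanFinrank_maximalIdeal_le_add (I : Ideal B)
    (hI : I = (maximalIdeal A).map (algebraMap A B)) [IsLocalRing (B ⧸ I)] :
    (maximalIdeal B).spanFinrank ≤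
      (maximalIdeal A).spanFinrank + (maximalIdeal (B ⧸ I)).spanFinrank := by
  have hfgA : (maximalIdeal A).FG := IsNoetherian.noetherian _
  have hfgF : (maximalIdeal (B ⧸ I)).FG := IsNoetherian.noetherian _
  obtain ⟨sA, hsA, hspanA⟩ := Submodule.FG.exists_span_finset_card_eq_spanFinrank hfgA
  obtain ⟨sF, hsF, hspanF⟩ := Submodule.FG.exists_span_finset_card_eq_spanFinrank hfgF
  classical
  let lift : B ⧸ I → B := Function.surjInv Ideal.Quotient.mk_surjective
  have hlift : ∀ x, Ideal.Quotient.mk I (lift x) = x :=
    Function.surjInv_eq Ideal.Quotient.mk_surjective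
  let s : Finset B := sA.image (algebraMap A B) ∪ sF.image lift
  have hcomap : (maximalIdeal (B ⧸ I)).comap (Ideal.Quotient.mk I) = maximalIdeal B := by
    have : ((maximalIdeal (B ⧸ I)).comap (Ideal.Quotient.mk I)).IsMaximal :=
      Ideal.comap_isMaximal_of_surjective _ Ideal.Quotient.mk_surjective
    exact IsLocalRing.eq_maximalIdeal this
  have hI' : I = Ideal.span ((sA.image (algebraMap A B) : Finset B) : Set B) := by
    rw [hI, ← hspanA, Ideal.map_span, Finset.coe_image]
  have hF' : maximalIdeal (B ⧸ I) =
      (Ideal.span ((sF.image lift : Finset B) : Set B)).map (Ideal.Quotient.mk I) := by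
    rw [Ideal.map_span, Finset.coe_image, ← Set.image_comp]
    have : (Ideal.Quotient.mk I) ∘ lift = id := funext hlift
    rw [this, Set.image_id]
    exact hspanF.symm
  have hspan : maximalIdeal B = Ideal.span (s : Set B) := by
    rw [← hcomap, hF', Ideal.comap_map_of_surjective _ Ideal.Quotient.mk_surjective,
      ← RingHom.ker_eq_comap_bot, Ideal.mk_ker]
    simp only [s, Finset.coe_union, Ideal.span_union]
    rw [← hI', sup_comm]
  calc (maximalIdeal B).spanFinrank = (Ideal.span (s : Set B)).spanFinrank := by rw [← hspan]
    _ ≤ (s : Set B).ncard := Submodule.spanFinrank_span_le_ncard_of_finite s.finite_toSet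
    _ = s.card := Set.ncard_coe_finset s
    _ ≤ (sA.image (algebraMap A B)).card + (sF.image lift).card := Finset.card_union_le _ _
    _ ≤ sA.card + sF.card := add_le_add Finset.card_image_le Finset.card_image_le
    _ = _ := by rw [hsA, hsF]

variable [Module.Flat A B]

/-- **Ascent of regularity along flat local homomorphisms with regular closed fibre.** -/
theorem isRegularLocalRing_of_flat_of_fibre [IsRegularLocalRing A] (I : Ideal B)
    (hI : I = (maximalIdeal A).map (algebraMap A B)) [IsRegularLocalRing (B ⧸ I)] :
    IsRegularLocalRing B := by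
  apply IsRegularLocalRing.of_spanFinrank_maximalIdeal_le
  have h1 := spanFinrank_maximalIdeal_le_add A B I hI
  have h2 := ringKrullDim_eq_add_fibre A B I hI
  have hA : ((maximalIdeal A).spanFinrank : WithBot ℕ∞) = ringKrullDim A :=
    IsRegularLocalRing.spanFinrank_maximalIdeal
  have hF : ((maximalIdeal (B ⧸ I)).spanFinrank : WithBot ℕ∞) = ringKrullDim (B ⧸ I) :=
    IsRegularLocalRing.spanFinrank_maximalIdeal
  rw [h2, ← hA, ← hF]
  exact_mod_cast h1

end Local

section Global

variable {R S : Type u} [CommRing R] [CommRing S] [IsNoetherianRing R] [IsNoetherianRing S]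
  [Algebra R S] [Module.Flat R S]

/-- Pointwise ascent of regularity for a flat map of Noetherian rings. -/
theorem isRegularLocalRing_localization_of_fibLoc (p : Ideal R) [p.IsPrime] (q : Ideal S)
    [q.IsPrime] [q.LiesOver p] (hp : IsRegularLocalRing (Localization.AtPrime p))
    (hf : IsRegularLocalRing (FibLoc p q)) : IsRegularLocalRing (Localization.AtPrime q) := by
  let _ := Localization.AtPrime.algebraOfLiesOver p q
  have hloc : IsLocalHom (algebraMap (Localization.AtPrime p) (Localization.AtPrime q)) :=
    Localization.isLocalHom_localRingHom p q (algebraMap R S) Ideal.LiesOver.over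
  apply isRegularLocalRing_of_flat_of_fibre (Localization.AtPrime p) (Localization.AtPrime q)
    ((p.map (algebraMap R S)).map (algebraMap S (Localization.AtPrime q)))
  rw [← IsLocalization.AtPrime.map_eq_maximalIdeal p (Localization.AtPrime p), Ideal.map_map,
    Ideal.map_map, ← IsScalarTower.algebraMap_eq, ← IsScalarTower.algebraMap_eq]

end Global

section Fibre

variable {R S : Type u} [CommRing R] [CommRing S] [IsNoetherianRing S] [Algebra R S]

omit [IsNoetherianRing S] in
/-- Transfer of an isomorphism-invariant property of rings between the local rings of the fibre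
ring `κ(p) ⊗ S` and the rings `S_q / p S_q`. -/
theorem forall_fiber_iff' (P : ∀ (T : Type u) [CommRing T], Prop)
    (hP : ∀ (T T' : Type u) [CommRing T] [CommRing T'], (T ≃+* T') → P T → P T')
    (p : Ideal R) [p.IsPrime] :
    (∀ (Q : Ideal (p.Fiber S)) [Q.IsPrime], P (Localization.AtPrime Q)) ↔
    (∀ (q : Ideal S) [q.IsPrime] [q.LiesOver p], P (FibLoc p q)) := by
  have tr : ∀ (Q : Ideal (p.Fiber S)) [Q.IsPrime],
      Nonempty (Localization.AtPrime Q ≃+*
        FibLoc p (Q.comap Algebra.TensorProduct.includeRight)) := by
    intro Q _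
    exact ⟨(Ideal.Fiber.algEquivAux₂ p Q).toRingEquiv⟩
  constructor
  · intro h q hq hqp
    have key : ∀ (q q' : Ideal S) [q.IsPrime] [q'.IsPrime],
        q' = q → P (FibLoc p q') → P (FibLoc p q) := by
      intro q q' _ _ hqq
      subst hqq
      exact id
    let Q' : PrimeSpectrum (p.Fiber S) :=
      PrimeSpectrum.primesOverOrderIsoFiber R S p ⟨q, ⟨hq, hqp⟩⟩
    have hQ' : Q'.asIdeal.comap Algebra.TensorProduct.includeRight = q := by
      have h1 := (PrimeSpectrum.primesOverOrderIsoFiber R S p).symm_apply_apply ⟨q, ⟨hq, hqp⟩⟩
      have h2 := PrimeSpectrum.coe_primesOverOrderIsoFiber_symm_apply (R := R) (S := S) (p := p) Q'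
      rw [← h2]
      exact congrArg Subtype.val h1
    have hQprime : Q'.asIdeal.IsPrime := Q'.2
    obtain ⟨e⟩ := tr Q'.asIdeal
    have h3 := hP _ _ e (h Q'.asIdeal)
    have hpr : (Q'.asIdeal.comap Algebra.TensorProduct.includeRight).IsPrime := by
      rw [hQ']; exact hq
    exact key q _ hQ' h3
  · intro h Q hQ
    have hmem := ((PrimeSpectrum.primesOverOrderIsoFiber R S p).symm ⟨Q, hQ⟩).2
    rw [PrimeSpectrum.coe_primesOverOrderIsoFiber_symm_apply] at hmem
    have hprime : (Q.comap Algebra.TensorProduct.includeRight).IsPrime := hmem.1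
    have hlo : (Q.comap Algebra.TensorProduct.includeRight).LiesOver p := hmem.2
    obtain ⟨e⟩ := tr Q
    exact hP _ _ e.symm (h _)

omit [IsNoetherianRing S] in
/-- `(R_k)` for the fibre ring in terms of the fibre local rings. -/
theorem hasRk_fiber_iff (k : ℕ) (p : Ideal R) [p.IsPrime] :
    LocCoh.HasRk k (p.Fiber S) ↔
      ∀ (q : Ideal S) [q.IsPrime] [q.LiesOver p],
        ringKrullDim (FibLoc p q) ≤ k → IsRegularLocalRing (FibLoc p q) := by
  rw [← forall_fiber_iff' (fun T _ => ringKrullDim T ≤ k → IsRegularLocalRing T) ?_ p]
  · unfold LocCoh.HasRk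
    refine forall_congr' fun Q => forall_congr' fun hQ => ?_
    rw [IsLocalization.AtPrime.ringKrullDim_eq_height Q (Localization.AtPrime Q)]
    exact ⟨fun h h' => h (by exact_mod_cast h'), fun h h' => h (by exact_mod_cast h')⟩
  · intro T T' _ _ e h h'
    rw [← ringKrullDim_eq_of_ringEquiv e] at h'
    have := h h'
    exact IsRegularLocalRing.of_ringEquiv e

/-- Regularity of the fibre ring in terms of the fibre local rings. -/
theorem isRegularRing_fiber_iff (p : Ideal R) [p.IsPrime] :
    IsRegularRing (p.Fiber S) ↔
      ∀ (q : Ideal S) [q.IsPrime] [q.LiesOver p], IsRegularLocalRing (FibLoc p q) := by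
  have hN : IsNoetherianRing (p.Fiber S) := isNoetherianRing_fiber p
  rw [← forall_fiber_iff' (fun T _ => IsRegularLocalRing T) ?_ p]
  · exact isRegularRing_iff
  · intro T T' _ _ e h
    exact IsRegularLocalRing.of_ringEquiv e

end Fibre

section Main

variable {R S : Type u} [CommRing R] [CommRing S] [IsNoetherianRing R] [IsNoetherianRing S]
  [Algebra R S] [Module.Flat R S]

/-- **Ascent of `(R_k)` along flat maps with `(R_k)` fibres.** -/
theorem hasRk_of_flat_of_fibres (k : ℕ) (hR : LocCoh.HasRk k R)
    (hfib : ∀ (p : Ideal R) [p.IsPrime], LocCoh.HasRk k (p.Fiber S)) :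
    LocCoh.HasRk k S := by
  intro q hq hht
  have h2 := height_eq_add' (q.under R) q
  have hp : (q.under R).height ≤ k := le_trans (h2 ▸ le_self_add) hht
  have hf : fibDim (q.under R) q ≤ k := le_trans (h2 ▸ le_add_self) hht
  have hf' : ringKrullDim (FibLoc (q.under R) q) ≤ k := by
    rw [← coe_fibDim]
    exact_mod_cast hf
  exact isRegularLocalRing_localization_of_fibLoc (q.under R) q (hR _ hp)
    ((hasRk_fiber_iff k (q.under R)).mp (hfib _) q hf')

/-- **Ascent of regularity along flat maps with regular fibres.** -/
theorem isRegularRing_of_flat_of_fibres (hR : IsRegularRing R)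
    (hfib : ∀ (p : Ideal R) [p.IsPrime], IsRegularRing (p.Fiber S)) :
    IsRegularRing S := by
  rw [isRegularRing_iff]
  intro q hq
  exact isRegularLocalRing_localization_of_fibLoc (q.under R) q
    (hR.isRegularLocalRing_localization _)
    ((isRegularRing_fiber_iff (q.under R)).mp (hfib _) q)

end Main

section Loc

variable {R : Type u} [CommRing R]

/-- `(R_k)` for a local ring `R_p` in terms of the primes of `R` contained in `p`. -/
theorem hasRk_localization_iff {k : ℕ} (p : Ideal R) [p.IsPrime] :
    LocCoh.HasRk k (Localization.AtPrime p) ↔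
      ∀ (p' : Ideal R) [p'.IsPrime], p' ≤ p → p'.height ≤ k →
        IsRegularLocalRing (Localization.AtPrime p') := by
  constructor
  · intro h p' hp' hle hht
    have hdisj : Disjoint (p.primeCompl : Set R) (p' : Set R) := by
      rw [Set.disjoint_left]
      intro x hx hx'
      exact hx (hle hx')
    have hQ : (p'.map (algebraMap R (Localization.AtPrime p))).IsPrime :=
      IsLocalization.isPrime_of_isPrime_disjoint p.primeCompl _ p' hp' hdisj
    have hco : (p'.map (algebraMap R (Localization.AtPrime p))).under R = p' :=
      IsLocalization.under_map_of_isPrime_disjoint p.primeCompl _ hp' hdisj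
    have key : ∀ (p'' : Ideal R) [p''.IsPrime], p'' = p' →
        IsRegularLocalRing (Localization.AtPrime p'') →
        IsRegularLocalRing (Localization.AtPrime p') := by
      intro p'' _ he
      subst he
      exact id
    have e := IsLocalization.localizationLocalizationAtPrimeIsoLocalization p.primeCompl
      (p'.map (algebraMap R (Localization.AtPrime p)))
    have h1 : ((p'.map (algebraMap R (Localization.AtPrime p))).under R).height =
        (p'.map (algebraMap R (Localization.AtPrime p))).height :=
      IsLocalization.height_under p.primeCompl (A := Localization.AtPrime p) _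
    have h2 := h (p'.map (algebraMap R (Localization.AtPrime p)))
      (by rw [← h1, hco]; exact hht)
    exact key _ hco (IsRegularLocalRing.of_ringEquiv e.toRingEquiv.symm)
  · intro h Q hQ hht
    have e := IsLocalization.localizationLocalizationAtPrimeIsoLocalization p.primeCompl Q
    have h1 : (Q.under R).height = Q.height :=
      IsLocalization.height_under p.primeCompl (A := Localization.AtPrime p) Q
    have hdisj := ((IsLocalization.isPrime_iff_isPrime_disjoint p.primeCompl
      (Localization.AtPrime p) Q).mp hQ).2
    have hle : Q.under R ≤ p := by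
      intro x hx
      by_contra hxp
      exact Set.disjoint_left.mp hdisj hxp hx
    have := h (Q.under R) hle (by rw [h1]; exact hht)
    exact IsRegularLocalRing.of_ringEquiv e.toRingEquiv

/-- A local ring satisfying `(R_k)` of dimension at most `k` is regular. -/
theorem isRegularLocalRing_of_hasRk_of_dim_le {k : ℕ} [IsLocalRing R] (h : LocCoh.HasRk k R)
    (hd : ringKrullDim R ≤ k) : IsRegularLocalRing R := by
  have hht : (maximalIdeal R).height ≤ k := by
    rw [← IsLocalRing.maximalIdeal_height_eq_ringKrullDim] at hd
    exact_mod_cast hd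
  have := h (maximalIdeal R) hht
  let e : R ≃ₐ[R] (Localization.AtPrime (maximalIdeal R)) :=
    IsLocalization.atUnits R (maximalIdeal R).primeCompl (fun x ↦ by simpa using! fun a ↦ a)
  exact IsRegularLocalRing.of_ringEquiv e.toRingEquiv.symm

end Loc

end Groth.Agent.Lib.Helper49.RegAscent
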