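import Mathlib
import Groth.Agent.Lib.Helper83.FlatCompl
import Groth.Agent.Lib.Helper83.ComplMap

/-!
# The map induced on completions by a flat local homomorphism (helper49)

* `complMap I J φ hφ : Â →+* B̂` for `φ : A →+* B` with `φ(I) B ⊆ J`, with `complMap_of`.
* `flat_complMap` : it is flat when `φ` is a flat map of Noetherian rings (helper83).
* For a flat local homomorphism `A → A'` of Noetherian local rings: the instances
  `cplAlgebra : Algebra (Cpl A) (Cpl A')`, `cplTower`, `faithfullyFlat_cpl`.
-/

set_option autoImplicit false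
set_option linter.unusedSectionVars false
set_option linter.style.haveILetI false
universe u

open IsLocalRing

namespace Groth.Agent.Lib.Helper49.ComplFlat

open Groth.Agent.Lib.Helper83

section Map

variable {A B : Type u} [CommRing A] [CommRing B] (I : Ideal A) (J : Ideal B) (φ : A →+* B)
  (hφ : I.map φ ≤ J)

theorem factorPow_evalₐ {m n : ℕ} (hle : m ≤ n) (x : AdicCompletion I A) :
    Ideal.Quotient.factorPow I hle (AdicCompletion.evalₐ I n x) = AdicCompletion.evalₐ I m x := by
  induction x using AdicCompletion.induction_on with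
  | h f =>
    rw [AdicCompletion.evalₐ_mk, AdicCompletion.evalₐ_mk]
    change Ideal.Quotient.mk (I ^ m) (f.val n) = Ideal.Quotient.mk (I ^ m) (f.val m)
    exact AdicCompletion.Ideal.mk_eq_mk I hle f

theorem compat {m n : ℕ} (hle : m ≤ n) :
    (Ideal.Quotient.factorPow J hle).comp
        ((ComplMap.θ I J φ hφ n).comp (AdicCompletion.evalₐ I n).toRingHom) =
      (ComplMap.θ I J φ hφ m).comp (AdicCompletion.evalₐ I m).toRingHom := by
  ext x
  simp only [RingHom.comp_apply, AlgHom.toRingHom_eq_coe, RingHom.coe_coe]
  rw [← factorPow_evalₐ I hle x]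
  obtain ⟨a, ha⟩ := Ideal.Quotient.mk_surjective (AdicCompletion.evalₐ I n x)
  rw [← ha, ComplMap.θ_mk]
  change Ideal.Quotient.mk (J ^ m) (φ a) =
    ComplMap.θ I J φ hφ m (Ideal.Quotient.mk (I ^ m) a)
  rw [ComplMap.θ_mk]

/-- The map induced on adic completions by a ring map `φ` with `φ(I) B ⊆ J`. -/
noncomputable def complMap : AdicCompletion I A →+* AdicCompletion J B :=
  AdicCompletion.liftRingHom J
    (fun n => (ComplMap.θ I J φ hφ n).comp (AdicCompletion.evalₐ I n).toRingHom)
    (fun hle => compat I J φ hφ hle)

theorem evalₐ_complMap (n : ℕ) (x : AdicCompletion I A) :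
    AdicCompletion.evalₐ J n (complMap I J φ hφ x) =
      ComplMap.θ I J φ hφ n (AdicCompletion.evalₐ I n x) :=
  AdicCompletion.evalₐ_liftRingHom J _ (fun hle => compat I J φ hφ hle) n x

theorem complMap_of (a : A) :
    complMap I J φ hφ (AdicCompletion.of I A a) = AdicCompletion.of J B (φ a) := by
  apply AdicCompletion.ext_evalₐ
  intro n
  rw [evalₐ_complMap, AdicCompletion.evalₐ_of, AdicCompletion.evalₐ_of, ComplMap.θ_mk]

theorem flat_complMap [IsNoetherianRing A] [IsNoetherianRing B] (hflat : φ.Flat) :
    (complMap I J φ hφ).Flat :=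
  FlatCompl.flat_of_map_adicCompletion I J φ hφ hflat _ (complMap_of I J φ hφ)

end Map

section Local

variable (A A' : Type u) [CommRing A] [CommRing A'] [IsNoetherianRing A] [IsNoetherianRing A']
  [IsLocalRing A] [IsLocalRing A'] [Algebra A A'] [IsLocalHom (algebraMap A A')]

theorem map_maximalIdeal_le :
    (maximalIdeal A).map (algebraMap A A') ≤ maximalIdeal A' :=
  ((IsLocalRing.local_hom_TFAE (algebraMap A A')).out 0 2 rfl rfl).mp inferInstance

/-- The algebra structure `Â → Â'` (completions at the maximal ideals). -/
@[reducible] noncomputable def cplAlgebra :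
    Algebra (AdicCompletion (maximalIdeal A) A) (AdicCompletion (maximalIdeal A') A') :=
  (complMap (maximalIdeal A) (maximalIdeal A') (algebraMap A A')
    (map_maximalIdeal_le A A')).toAlgebra

theorem cplTower :
    letI := cplAlgebra A A'
    IsScalarTower A (AdicCompletion (maximalIdeal A) A) (AdicCompletion (maximalIdeal A') A') := by
  letI := cplAlgebra A A'
  refine IsScalarTower.of_algebraMap_eq (R := A) (S := AdicCompletion (maximalIdeal A) A)
    (A := AdicCompletion (maximalIdeal A') A') fun a => ?_
  exact (complMap_of (maximalIdeal A) (maximalIdeal A') (algebraMap A A')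
    (map_maximalIdeal_le A A') a).symm

theorem isNoetherianRing_cpl : IsNoetherianRing (AdicCompletion (maximalIdeal A) A) :=
  isNoetherianRing_adicCompletion _

theorem isLocalRing_cpl : IsLocalRing (AdicCompletion (maximalIdeal A) A) :=
  isLocalRing_adicCompletion _ (IsNoetherian.noetherian _) (Ideal.IsPrime.ne_top inferInstance)

/-- The map `Â → Â'` induced by a flat local homomorphism is faithfully flat. -/
theorem faithfullyFlat_cpl [Module.Flat A A'] :
    letI := cplAlgebra A A'
    Module.FaithfullyFlat (AdicCompletion (maximalIdeal A) A)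
      (AdicCompletion (maximalIdeal A') A') := by
  letI := cplAlgebra A A'
  haveI := cplTower A A'
  haveI := isLocalRing_cpl A
  haveI := isLocalRing_cpl A'
  haveI hflat : Module.Flat (AdicCompletion (maximalIdeal A) A)
      (AdicCompletion (maximalIdeal A') A') :=
    flat_complMap (maximalIdeal A) (maximalIdeal A') (algebraMap A A')
      (map_maximalIdeal_le A A') (RingHom.flat_algebraMap_iff.2 inferInstance)
  haveI : IsLocalHom (algebraMap (AdicCompletion (maximalIdeal A) A)
      (AdicCompletion (maximalIdeal A') A')) := by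
    refine ((IsLocalRing.local_hom_TFAE _).out 0 2 rfl rfl).mpr ?_
    rw [← maximalIdeal_adicCompletion_eq_map (maximalIdeal A) (IsNoetherian.noetherian _)
        (Ideal.IsPrime.ne_top inferInstance),
      ← maximalIdeal_adicCompletion_eq_map (maximalIdeal A') (IsNoetherian.noetherian _)
        (Ideal.IsPrime.ne_top inferInstance),
      Ideal.map_map, ← IsScalarTower.algebraMap_eq,
      IsScalarTower.algebraMap_eq A A' (AdicCompletion (maximalIdeal A') A'), ← Ideal.map_map]
    exact Ideal.map_mono (map_maximalIdeal_le A A')
  exact Module.FaithfullyFlat.of_flat_of_isLocalHom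

end Local

end Groth.Agent.Lib.Helper49.ComplFlat
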