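import Mathlib
import Groth.Prelude.Def_CAlg
import Groth.Prelude.Def_Found
import Groth.Prelude.Def_EGA4b
import Groth.Agent.Lib.Helper49.RegAscent
import Groth.Agent.Lib.Helper49.Serre4

/-!
# Normal and regular homomorphisms: ascent, quasi-finite base change (helper49)

Namespace `Groth.Agent.Lib.Helper49.NormalHom`.
-/

set_option autoImplicit false
set_option linter.overlappingInstances false
set_option linter.style.haveILetI false
universe u

open IsLocalRing TensorProduct

namespace Groth.Agent.Lib.Helper49.NormalHom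

open Groth.Agent.Lib.Helper49.FibreSk Groth.Agent.Lib.Helper49.RegAscent
  Groth.Agent.Lib.Helper49.Serre

section Transfer

/-- Normality is invariant under ring isomorphisms. -/
theorem isNormalRing_of_ringEquiv {R R' : Type u} [CommRing R] [CommRing R'] (e : R ≃+* R')
    (h : EGA4.IsNormalRing R) : EGA4.IsNormalRing R' := by
  intro p hp
  have e2 : Localization.AtPrime (p.comap e) ≃+* Localization.AtPrime p :=
    IsLocalization.ringEquivOfRingEquiv
      (Localization.AtPrime (p.comap e)) (Localization.AtPrime p) e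
      (e.map_primeCompl_comap_eq p)
  obtain ⟨h1, h2⟩ := h (p.comap e)
  exact ⟨e2.symm.toMulEquiv.isDomain _, IsIntegrallyClosed.of_equiv e2⟩

/-- `k' ⊗[k] F` is Noetherian for `F` Noetherian and `k'` finite over `k`. -/
theorem isNoetherianRing_tensor_of_finite (k k' F : Type u) [CommRing k] [CommRing k']
    [CommRing F] [Algebra k k'] [Algebra k F] [Module.Finite k k'] [IsNoetherianRing F] :
    IsNoetherianRing (k' ⊗[k] F) := by
  have h1 : Module.Finite F (F ⊗[k] k') := Module.Finite.base_change k F k'
  have h2 : IsNoetherianRing (F ⊗[k] k') := IsNoetherianRing.of_finite F _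
  exact isNoetherianRing_of_ringEquiv _ (Algebra.TensorProduct.comm k F k').toRingEquiv

end Transfer

section Ascent

variable {D T : Type u} [CommRing D] [CommRing T] [IsNoetherianRing D] [IsNoetherianRing T]
  [Algebra D T] [Module.Flat D T]

/-- **Ascent of normality along flat maps with normal fibres.** -/
theorem isNormalRing_of_flat_of_fibres (hD : EGA4.IsNormalRing D)
    (hfib : ∀ (Q : Ideal D) [Q.IsPrime], EGA4.IsNormalRing (Q.Fiber T)) :
    EGA4.IsNormalRing T := by
  have hD' := (serre_criterion D).mp hD
  refine (serre_criterion T).mpr ⟨?_, ?_⟩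
  · apply hasRk_of_flat_of_fibres 1 hD'.1
    intro Q hQ
    have hN : IsNoetherianRing (Q.Fiber T) := isNoetherianRing_fiber Q
    exact ((serre_criterion (Q.Fiber T)).mp (hfib Q)).1
  · apply hasSk_of_flat_of_fibres 2 hD'.2
    intro Q hQ
    have hN : IsNoetherianRing (Q.Fiber T) := isNoetherianRing_fiber Q
    exact ((serre_criterion (Q.Fiber T)).mp (hfib Q)).2

end Ascent

section BaseChange

variable (B D C : Type u) [CommRing B] [CommRing D] [CommRing C] [Algebra B D] [Algebra B C]

/-- The geometric fibres of a base change are geometric fibres of the original map. -/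
theorem nonempty_fiber_baseChange_equiv (Q : Ideal D) [Q.IsPrime] (q : Ideal B) [q.IsPrime]
    (L : Type u) [CommRing L] [Algebra Q.ResidueField L] [Algebra q.ResidueField L]
    [Algebra D L] [Algebra B L] [IsScalarTower D Q.ResidueField L] [IsScalarTower B D L]
    [IsScalarTower B q.ResidueField L] :
    Nonempty (L ⊗[Q.ResidueField] (Q.Fiber (D ⊗[B] C)) ≃+* L ⊗[q.ResidueField] (q.Fiber C)) := by
  let e1 := Algebra.TensorProduct.cancelBaseChange D Q.ResidueField L L (D ⊗[B] C)
  let e2 := Algebra.TensorProduct.cancelBaseChange B D L L C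
  let e3 := Algebra.TensorProduct.cancelBaseChange B q.ResidueField L L C
  exact ⟨e1.toRingEquiv.trans (e2.toRingEquiv.trans e3.symm.toRingEquiv)⟩

/-- **Quasi-finite base change of a property of the geometric fibres.** -/
theorem forall_fiber_baseChange [Algebra.QuasiFinite B D]
    (P : ∀ (T : Type u) [CommRing T], Prop)
    (hP : ∀ (T T' : Type u) [CommRing T] [CommRing T'], (T ≃+* T') → P T → P T')
    (h : ∀ (q : Ideal B) [q.IsPrime] (L : Type u) [Field L] [Algebra q.ResidueField L],
      Module.Finite q.ResidueField L → P (L ⊗[q.ResidueField] q.Fiber C))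
    (Q : Ideal D) [Q.IsPrime] (L : Type u) [Field L] [Algebra Q.ResidueField L]
    (hL : Module.Finite Q.ResidueField L) :
    P (L ⊗[Q.ResidueField] Q.Fiber (D ⊗[B] C)) := by
  letI : Algebra D L := ((algebraMap Q.ResidueField L).comp (algebraMap D Q.ResidueField)).toAlgebra
  haveI : IsScalarTower D Q.ResidueField L := .of_algebraMap_eq' rfl
  letI : Algebra B L := ((algebraMap D L).comp (algebraMap B D)).toAlgebra
  haveI : IsScalarTower B D L := .of_algebraMap_eq' rfl
  have hkerD : RingHom.ker (algebraMap D L) = Q := by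
    rw [IsScalarTower.algebraMap_eq D Q.ResidueField L, ← RingHom.comap_ker,
      (RingHom.injective_iff_ker_eq_bot _).mp (algebraMap Q.ResidueField L).injective,
      ← RingHom.ker_eq_comap_bot, Ideal.ker_algebraMap_residueField]
  have hker : RingHom.ker (algebraMap B L) = Q.under B := by
    rw [IsScalarTower.algebraMap_eq B D L, ← RingHom.comap_ker, hkerD]
  have hunits : (Q.under B).primeCompl ≤ (IsUnit.submonoid L).comap (algebraMap B L) := by
    intro x hx
    rw [Submonoid.mem_comap, IsUnit.mem_submonoid_iff, isUnit_iff_ne_zero]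
    intro h0
    exact hx (hker ▸ (RingHom.mem_ker.mpr h0))
  letI : Algebra (Q.under B).ResidueField L :=
    (Ideal.ResidueField.lift (Q.under B) (algebraMap B L) hker.ge hunits).toAlgebra
  haveI : IsScalarTower B (Q.under B).ResidueField L :=
    .of_algebraMap_eq fun x => (Ideal.ResidueField.lift_algebraMap _ _ hker.ge hunits x).symm
  have hfin : Module.Finite (Q.under B).ResidueField L := by
    haveI : Algebra.QuasiFinite D L := Algebra.QuasiFinite.trans D Q.ResidueField L
    haveI : Algebra.QuasiFinite B L := Algebra.QuasiFinite.trans B D L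
    haveI : Algebra.QuasiFinite (Q.under B).ResidueField L :=
      Algebra.QuasiFinite.of_restrictScalars B _ L
    exact Module.Finite.of_quasiFinite
  obtain ⟨e⟩ := nonempty_fiber_baseChange_equiv B D C Q (Q.under B) L
  exact hP _ _ e.symm (h (Q.under B) L hfin)

/-- Quasi-finite base change of a normal homomorphism. -/
theorem isNormalHom_baseChange [Algebra.QuasiFinite B D] (h : EGA4.IsNormalHom B C) :
    EGA4.IsNormalHom D (D ⊗[B] C) := by
  obtain ⟨hflat, hfib⟩ := h
  refine ⟨inferInstance, fun Q hQ L _ _ hL => ?_⟩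
  exact forall_fiber_baseChange B D C (fun T _ => EGA4.IsNormalRing T)
    (fun T T' _ _ e => isNormalRing_of_ringEquiv e)
    (fun q _ L _ _ hL => hfib q L hL) Q L hL

end BaseChange

section Comp

variable (A B C : Type u) [CommRing A] [CommRing B] [CommRing C] [Algebra A B] [Algebra B C]
  [Algebra A C] [IsScalarTower A B C]

/-- The isomorphisms behind the composition of normal / regular homomorphisms. -/
theorem nonempty_comp_equivs (p : Ideal A) [p.IsPrime] (k' : Type u) [Field k']
    [Algebra p.ResidueField k'] [Algebra A k'] [IsScalarTower A p.ResidueField k'] :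
    Nonempty ((B ⊗[A] k') ≃+* k' ⊗[p.ResidueField] p.Fiber B) ∧
    Nonempty (((B ⊗[A] k') ⊗[B] C) ≃+* k' ⊗[p.ResidueField] p.Fiber C) := by
  constructor
  · let e1 := Algebra.TensorProduct.cancelBaseChange A p.ResidueField k' k' B
    let e2 := Algebra.TensorProduct.comm A k' B
    exact ⟨(e1.toRingEquiv.trans e2.toRingEquiv).symm⟩
  · let e1 := Algebra.TensorProduct.comm B (B ⊗[A] k') C
    let e2 := Algebra.TensorProduct.cancelBaseChange A B C C k'
    let e3 := Algebra.TensorProduct.comm A C k'
    let e4 := Algebra.TensorProduct.cancelBaseChange A p.ResidueField k' k' C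
    exact ⟨e1.toRingEquiv.trans (e2.toRingEquiv.trans (e3.toRingEquiv.trans e4.symm.toRingEquiv))⟩

theorem quasiFinite_tensor (p : Ideal A) [p.IsPrime] (k' : Type u) [Field k']
    [Algebra p.ResidueField k'] [Algebra A k'] [IsScalarTower A p.ResidueField k']
    [Module.Finite p.ResidueField k'] : Algebra.QuasiFinite B (B ⊗[A] k') := by
  haveI : Algebra.QuasiFinite A k' := Algebra.QuasiFinite.trans A p.ResidueField k'
  infer_instance

variable [IsNoetherianRing B] [IsNoetherianRing C]

/-- **Composition of normal homomorphisms.** -/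
theorem isNormalHom_comp (hAB : EGA4.IsNormalHom A B) (hBC : EGA4.IsNormalHom B C) :
    EGA4.IsNormalHom A C := by
  have hflatAB := hAB.1
  have hflatBC := hBC.1
  refine ⟨Module.Flat.trans A B C, fun p hp k' _ _ hfin => ?_⟩
  letI : Algebra A k' :=
    ((algebraMap p.ResidueField k').comp (algebraMap A p.ResidueField)).toAlgebra
  haveI : IsScalarTower A p.ResidueField k' := .of_algebraMap_eq' rfl
  obtain ⟨⟨eD⟩, ⟨eT⟩⟩ := nonempty_comp_equivs A B C p k'
  haveI := quasiFinite_tensor A B p k'
  -- `D = B ⊗ k'` is Noetherian and normal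
  have hNB : IsNoetherianRing (p.Fiber B) := isNoetherianRing_fiber p
  have hNC : IsNoetherianRing (p.Fiber C) := isNoetherianRing_fiber p
  have hND' : IsNoetherianRing (k' ⊗[p.ResidueField] p.Fiber B) :=
    isNoetherianRing_tensor_of_finite _ _ _
  have hNT' : IsNoetherianRing (k' ⊗[p.ResidueField] p.Fiber C) :=
    isNoetherianRing_tensor_of_finite _ _ _
  haveI hND : IsNoetherianRing (B ⊗[A] k') := isNoetherianRing_of_ringEquiv _ eD.symm
  haveI hNT : IsNoetherianRing ((B ⊗[A] k') ⊗[B] C) := isNoetherianRing_of_ringEquiv _ eT.symm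
  have hD : EGA4.IsNormalRing (B ⊗[A] k') := isNormalRing_of_ringEquiv eD.symm (hAB.2 p k' hfin)
  have hDT : EGA4.IsNormalHom (B ⊗[A] k') ((B ⊗[A] k') ⊗[B] C) :=
    isNormalHom_baseChange B (B ⊗[A] k') C hBC
  haveI := hDT.1
  have hT : EGA4.IsNormalRing ((B ⊗[A] k') ⊗[B] C) := by
    apply isNormalRing_of_flat_of_fibres hD
    intro Q hQ
    have h1 := hDT.2 Q Q.ResidueField (Module.Finite.self _)
    exact isNormalRing_of_ringEquiv
      (Algebra.TensorProduct.lid Q.ResidueField (Q.Fiber ((B ⊗[A] k') ⊗[B] C))).toRingEquiv h1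
  exact isNormalRing_of_ringEquiv eT hT

end Comp

end Groth.Agent.Lib.Helper49.NormalHom
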