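import Mathlib
import Groth.Prelude.Def_CAlg
import Groth.Prelude.Def_Found
import Groth.Agent.Lib.Helper49.NormalHom

/-!
# Regular homomorphisms: quasi-finite base change and composition (helper49)

Namespace `Groth.Agent.Lib.Helper49.RegularHom`.
-/

set_option autoImplicit false
set_option linter.overlappingInstances false
set_option linter.style.haveILetI false
universe u

open IsLocalRing TensorProduct

namespace Groth.Agent.Lib.Helper49.RegularHom

open Groth.Agent.Lib.Helper49.FibreSk Groth.Agent.Lib.Helper49.RegAscent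
  Groth.Agent.Lib.Helper49.NormalHom

theorem isRegularRing_of_ringEquiv' {R R' : Type u} [CommRing R] [CommRing R'] (e : R ≃+* R')
    (h : IsRegularRing R) : IsRegularRing R' := IsRegularRing.of_ringEquiv e

section BaseChange

variable (B D C : Type u) [CommRing B] [CommRing D] [CommRing C] [Algebra B D] [Algebra B C]

/-- Quasi-finite base change of a regular homomorphism. -/
theorem isRegularHom_baseChange [Algebra.QuasiFinite B D] (h : CAlg.IsRegularHom B C) :
    CAlg.IsRegularHom D (D ⊗[B] C) := by
  obtain ⟨hflat, hfib⟩ := h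
  refine ⟨inferInstance, fun Q hQ => ⟨?_, fun L _ _ hL => ?_⟩⟩
  · have h1 : IsNoetherianRing (Q.ResidueField ⊗[Q.ResidueField] Q.Fiber (D ⊗[B] C)) :=
      forall_fiber_baseChange B D C (fun T _ => IsNoetherianRing T)
        (fun T T' _ _ e hT => isNoetherianRing_of_ringEquiv T e)
        (fun q _ L _ _ hL => by
          haveI := (hfib q).1
          haveI := hL
          exact isNoetherianRing_tensor_of_finite _ _ _) Q Q.ResidueField (Module.Finite.self _)
    exact isNoetherianRing_of_ringEquiv _
      (Algebra.TensorProduct.lid Q.ResidueField (Q.Fiber (D ⊗[B] C))).toRingEquiv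
  · exact forall_fiber_baseChange B D C (fun T _ => IsRegularRing T)
      (fun T T' _ _ e hT => isRegularRing_of_ringEquiv' e hT)
      (fun q _ L _ _ hL => (hfib q).2 L hL) Q L hL

end BaseChange

section Comp

variable (A B C : Type u) [CommRing A] [CommRing B] [CommRing C] [Algebra A B] [Algebra B C]
  [Algebra A C] [IsScalarTower A B C]

/-- **Composition of regular homomorphisms** (the fibres of the composite being Noetherian). -/
theorem isRegularHom_comp (hAB : CAlg.IsRegularHom A B) (hBC : CAlg.IsRegularHom B C)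
    (hN : ∀ (p : Ideal A) [p.IsPrime], IsNoetherianRing (p.Fiber C)) :
    CAlg.IsRegularHom A C := by
  have hflatAB := hAB.1
  have hflatBC := hBC.1
  refine ⟨Module.Flat.trans A B C, fun p hp => ⟨hN p, fun k' _ _ hfin => ?_⟩⟩
  letI : Algebra A k' :=
    ((algebraMap p.ResidueField k').comp (algebraMap A p.ResidueField)).toAlgebra
  haveI : IsScalarTower A p.ResidueField k' := .of_algebraMap_eq' rfl
  obtain ⟨⟨eD⟩, ⟨eT⟩⟩ := nonempty_comp_equivs A B C p k'
  haveI := quasiFinite_tensor A B p k'
  have hNC : IsNoetherianRing (p.Fiber C) := hN p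
  have hNT' : IsNoetherianRing (k' ⊗[p.ResidueField] p.Fiber C) :=
    isNoetherianRing_tensor_of_finite _ _ _
  haveI hNT : IsNoetherianRing ((B ⊗[A] k') ⊗[B] C) := isNoetherianRing_of_ringEquiv _ eT.symm
  have hD' : IsRegularRing (k' ⊗[p.ResidueField] p.Fiber B) := (hAB.2 p).2 k' hfin
  have hD : IsRegularRing (B ⊗[A] k') := isRegularRing_of_ringEquiv' eD.symm hD'
  have hDT : CAlg.IsRegularHom (B ⊗[A] k') ((B ⊗[A] k') ⊗[B] C) :=
    isRegularHom_baseChange B (B ⊗[A] k') C hBC
  haveI := hDT.1
  have hT : IsRegularRing ((B ⊗[A] k') ⊗[B] C) := by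
    apply isRegularRing_of_flat_of_fibres hD
    intro Q hQ
    have h1 := (hDT.2 Q).2 Q.ResidueField (Module.Finite.self _)
    exact isRegularRing_of_ringEquiv'
      (Algebra.TensorProduct.lid Q.ResidueField (Q.Fiber ((B ⊗[A] k') ⊗[B] C))).toRingEquiv h1
  exact isRegularRing_of_ringEquiv' eT hT

end Comp

end Groth.Agent.Lib.Helper49.RegularHom
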