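import Mathlib
import Groth.Agent.S9295
import Groth.Agent.Lib.Helper63.CompletionNoeth
import Groth.Agent.Lib.Helper96.GRingCompletion2

/-!
# Geometric fibres of `A → B`: local-to-global over the maximal ideals of `B` (helper49)

Namespace `Groth.Agent.Lib.Helper49.AdicFibres`.

`P` is a property of rings which is invariant under isomorphisms and local (`P T` iff
`P T_Q` for all primes `Q`).
-/

set_option autoImplicit false
set_option linter.style.haveILetI false
universe u

open TensorProduct

namespace Groth.Agent.Lib.Helper49.AdicFibres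

section LocalToGlobal

variable (P : ∀ (T : Type u) [CommRing T], Prop)

/-- transport of `P (T_p)` along an equality of primes -/
theorem atPrime_congr {T : Type u} [CommRing T] (p p' : Ideal T) [p.IsPrime] [p'.IsPrime]
    (h : p' = p) (hP : P (Localization.AtPrime p')) : P (Localization.AtPrime p) := by
  subst h
  exact hP

variable (hiso : ∀ (T T' : Type u) [CommRing T] [CommRing T'], (T ≃+* T') → P T → P T')
  (hofloc : ∀ (T : Type u) [CommRing T],
    (∀ (Q : Ideal T) [Q.IsPrime], P (Localization.AtPrime Q)) → P T)
  (hloc : ∀ (T : Type u) [CommRing T], P T → ∀ (Q : Ideal T) [Q.IsPrime],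
    P (Localization.AtPrime Q))

include hiso hofloc hloc in
/-- If `P (L ⊗_A B_n)` for all maximal ideals `n` of `B`, then `P (L ⊗_A B)`. -/
theorem of_forall_maximal (A B L : Type u) [CommRing A] [CommRing B] [Algebra A B] [CommRing L]
    [Algebra A L]
    (h : ∀ (n : Ideal B) [n.IsMaximal], P (L ⊗[A] Localization.AtPrime n)) : P (L ⊗[A] B) := by
  apply hofloc
  intro Q hQ
  let ι : B →+* L ⊗[A] B := (Algebra.TensorProduct.includeRight (R := A) (A := L) (B := B)).toRingHom
  have hq : (Q.comap ι) ≠ ⊤ := (Ideal.IsPrime.comap ι).ne_top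
  obtain ⟨n, hn, hqn⟩ := Ideal.exists_le_maximal _ hq
  letI alg : Algebra (L ⊗[A] B) (L ⊗[A] Localization.AtPrime n) :=
    (Algebra.TensorProduct.map (AlgHom.id A L)
      (IsScalarTower.toAlgHom A B (Localization.AtPrime n))).toAlgebra
  haveI : IsScalarTower L (L ⊗[A] B) (L ⊗[A] Localization.AtPrime n) :=
    .of_algebraMap_eq <| by intro; simp [RingHom.algebraMap_toAlgebra]
  haveI hlocz : IsLocalization
      (n.primeCompl.map (Algebra.TensorProduct.includeRight (R := A) (A := L)))
      (L ⊗[A] Localization.AtPrime n) :=
    IsLocalization.tensorProduct_tensorProduct_right A L n.primeCompl (Localization.AtPrime n)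
      (by ext; simp [RingHom.algebraMap_toAlgebra])
  set M' : Submonoid (L ⊗[A] B) :=
    n.primeCompl.map (Algebra.TensorProduct.includeRight (R := A) (A := L)) with hM'
  have hdisj : Disjoint (M' : Set (L ⊗[A] B)) (Q : Set (L ⊗[A] B)) := by
    rw [Set.disjoint_left]
    rintro x hx hxQ
    obtain ⟨b, hb, rfl⟩ := hx
    exact hb (hqn (show b ∈ Q.comap ι from hxQ))
  let Q' : Ideal (L ⊗[A] Localization.AtPrime n) :=
    Q.map (algebraMap (L ⊗[A] B) (L ⊗[A] Localization.AtPrime n))
  haveI hQ' : Q'.IsPrime := IsLocalization.isPrime_of_isPrime_disjoint M' _ Q hQ hdisj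
  have hcomap : Q'.comap (algebraMap (L ⊗[A] B) (L ⊗[A] Localization.AtPrime n)) = Q :=
    IsLocalization.under_map_of_isPrime_disjoint M' _ hQ hdisj
  have h1 : P (Localization.AtPrime Q') := hloc _ (h n) Q'
  haveI hloc2 : IsLocalization.AtPrime (Localization.AtPrime Q')
      (Q'.comap (algebraMap (L ⊗[A] B) (L ⊗[A] Localization.AtPrime n))) :=
    IsLocalization.isLocalization_isLocalization_atPrime_isLocalization M'
      (Localization.AtPrime Q') Q'
  have e : Localization.AtPrime
      (Q'.comap (algebraMap (L ⊗[A] B) (L ⊗[A] Localization.AtPrime n))) ≃ₐ[L ⊗[A] B]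
      Localization.AtPrime Q' :=
    IsLocalization.algEquiv
      (Q'.comap (algebraMap (L ⊗[A] B) (L ⊗[A] Localization.AtPrime n))).primeCompl _ _
  have h2 : P (Localization.AtPrime
      (Q'.comap (algebraMap (L ⊗[A] B) (L ⊗[A] Localization.AtPrime n)))) :=
    hiso _ _ e.symm.toRingEquiv h1
  exact atPrime_congr P Q _ hcomap h2

include hofloc in
theorem of_subsingleton (T : Type u) [CommRing T] [Subsingleton T] : P T := by
  apply hofloc
  intro Q hQ
  exact absurd (Subsingleton.elim (1 : T) 0 ▸ Q.zero_mem : (1 : T) ∈ Q)
    (Q.ne_top_iff_one.mp hQ.ne_top)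

end LocalToGlobal

section AtPrime

variable (A : Type u) [CommRing A] (m : Ideal A) [m.IsPrime] (L : Type u) [Field L] [Algebra A L]
  (B' : Type u) [CommRing B'] [Algebra A B'] [Algebra (Localization.AtPrime m) B']
  [IsScalarTower A (Localization.AtPrime m) B']

/-- If the kernel of `A → L` is not contained in `m`, then `L ⊗_A B' = 0` for every
`A_m`-algebra `B'`. -/
theorem subsingleton_tensor (h : ¬ RingHom.ker (algebraMap A L) ≤ m) :
    Subsingleton (L ⊗[A] B') := by
  obtain ⟨s, hs, hsm⟩ := Set.not_subset.mp h
  have hs0 : algebraMap A L s = 0 := hs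
  have hunit : IsUnit (algebraMap A B' s) := by
    rw [IsScalarTower.algebraMap_apply A (Localization.AtPrime m) B']
    exact (IsLocalization.map_units (M := m.primeCompl) (Localization.AtPrime m)
      ⟨s, hsm⟩).map _
  obtain ⟨u, hu⟩ := hunit.exists_right_inv
  have h10 : (1 : L ⊗[A] B') = 0 := by
    rw [Algebra.TensorProduct.one_def, ← hu, ← Algebra.smul_def, ← TensorProduct.smul_tmul,
      Algebra.smul_def, hs0, zero_mul, TensorProduct.zero_tmul]
  exact subsingleton_of_zero_eq_one h10.symm

/-- The `A_m`-algebra structure on a field `L` over `A` whose kernel lies in `m`. -/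
@[instance_reducible]
noncomputable def algebraAtPrime (h : RingHom.ker (algebraMap A L) ≤ m) :
    Algebra (Localization.AtPrime m) L :=
  (IsLocalization.lift (M := m.primeCompl) (g := algebraMap A L) (fun y => by
    rw [isUnit_iff_ne_zero]
    intro h0
    exact y.2 (h h0))).toAlgebra

theorem isScalarTower_algebraAtPrime (h : RingHom.ker (algebraMap A L) ≤ m) :
    letI := algebraAtPrime A m L h
    IsScalarTower A (Localization.AtPrime m) L := by
  letI := algebraAtPrime A m L h
  exact IsScalarTower.of_algebraMap_eq fun x => (IsLocalization.lift_eq _ x).symm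

end AtPrime

section Transfer

variable (P : ∀ (T : Type u) [CommRing T], Prop)
  (hiso : ∀ (T T' : Type u) [CommRing T] [CommRing T'], (T ≃+* T') → P T → P T')
  (R S : Type u) [CommRing R] [CommRing S] [Algebra R S]

instance ker_isPrime (L : Type u) [Field L] [Algebra R L] :
    (RingHom.ker (algebraMap R L)).IsPrime := RingHom.ker_isPrime _

/-- The `κ(p)`-algebra structure on a field `L` over `R`, `p` the kernel of `R → L`. -/
@[instance_reducible]
noncomputable def algebraResidueField (L : Type u) [Field L] [Algebra R L] :
    Algebra (RingHom.ker (algebraMap R L)).ResidueField L :=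
  (Ideal.ResidueField.lift (RingHom.ker (algebraMap R L)) (algebraMap R L) le_rfl (by
    intro x hx
    rw [Submonoid.mem_comap, IsUnit.mem_submonoid_iff, isUnit_iff_ne_zero]
    intro h0
    exact hx (RingHom.mem_ker.mpr h0))).toAlgebra

theorem isScalarTower_algebraResidueField (L : Type u) [Field L] [Algebra R L] :
    letI := algebraResidueField R L
    IsScalarTower R (RingHom.ker (algebraMap R L)).ResidueField L := by
  letI := algebraResidueField R L
  exact IsScalarTower.of_algebraMap_eq fun x => by
    rw [RingHom.algebraMap_toAlgebra, Ideal.ResidueField.lift_algebraMap]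

include hiso in
/-- From the fibres (finite extensions of the residue fields) to quasi-finite field points. -/
theorem of_fibers_finite
    (h : ∀ (p : Ideal R) [p.IsPrime] (L : Type u) [Field L] [Algebra p.ResidueField L],
      Module.Finite p.ResidueField L → P (L ⊗[p.ResidueField] p.Fiber S))
    (L : Type u) [Field L] [Algebra R L] (hL : Algebra.QuasiFinite R L) : P (L ⊗[R] S) := by
  letI := algebraResidueField R L
  haveI := isScalarTower_algebraResidueField R L
  haveI : Algebra.QuasiFinite (RingHom.ker (algebraMap R L)).ResidueField L :=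
    Algebra.QuasiFinite.of_restrictScalars R _ L
  have hfin : Module.Finite (RingHom.ker (algebraMap R L)).ResidueField L :=
    Module.Finite.of_quasiFinite
  exact hiso _ _ (Algebra.TensorProduct.cancelBaseChange R
    (RingHom.ker (algebraMap R L)).ResidueField L L S).toRingEquiv
    (h (RingHom.ker (algebraMap R L)) L hfin)

include hiso in
/-- From all the fibres (arbitrary extensions of the residue fields) to all field points. -/
theorem of_fibers_all
    (h : ∀ (p : Ideal R) [p.IsPrime] (L : Type u) [Field L] [Algebra p.ResidueField L],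
      P (L ⊗[p.ResidueField] p.Fiber S))
    (L : Type u) [Field L] [Algebra R L] : P (L ⊗[R] S) := by
  letI := algebraResidueField R L
  haveI := isScalarTower_algebraResidueField R L
  exact hiso _ _ (Algebra.TensorProduct.cancelBaseChange R
    (RingHom.ker (algebraMap R L)).ResidueField L L S).toRingEquiv
    (h (RingHom.ker (algebraMap R L)) L)

include hiso in
/-- From quasi-finite field points to the fibres. -/
theorem to_fibers_finite
    (h : ∀ (L : Type u) [Field L] [Algebra R L], Algebra.QuasiFinite R L → P (L ⊗[R] S))
    (p : Ideal R) [p.IsPrime] (L : Type u) [Field L] [Algebra p.ResidueField L]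
    (hL : Module.Finite p.ResidueField L) : P (L ⊗[p.ResidueField] p.Fiber S) := by
  letI : Algebra R L := ((algebraMap p.ResidueField L).comp (algebraMap R p.ResidueField)).toAlgebra
  haveI : IsScalarTower R p.ResidueField L := IsScalarTower.of_algebraMap_eq' rfl
  haveI : Algebra.QuasiFinite R L := Algebra.QuasiFinite.trans R p.ResidueField L
  exact hiso _ _ (Algebra.TensorProduct.cancelBaseChange R p.ResidueField L L S).symm.toRingEquiv
    (h L inferInstance)

include hiso in
/-- From all field points to the fibres. -/
theorem to_fibers_all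
    (h : ∀ (L : Type u) [Field L] [Algebra R L], P (L ⊗[R] S))
    (p : Ideal R) [p.IsPrime] (L : Type u) [Field L] [Algebra p.ResidueField L] :
    P (L ⊗[p.ResidueField] p.Fiber S) := by
  letI : Algebra R L := ((algebraMap p.ResidueField L).comp (algebraMap R p.ResidueField)).toAlgebra
  haveI : IsScalarTower R p.ResidueField L := IsScalarTower.of_algebraMap_eq' rfl
  exact hiso _ _ (Algebra.TensorProduct.cancelBaseChange R p.ResidueField L L S).symm.toRingEquiv
    (h L)

end Transfer

section Main

/-- The completion of a Noetherian local ring is faithfully flat. -/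
theorem faithfullyFlat_cpl (A : Type u) [CommRing A] [IsNoetherianRing A] [IsLocalRing A] :
    Module.FaithfullyFlat A (EGA4.Cpl A) := by
  haveI : Module.Flat A (EGA4.Cpl A) := inferInstance
  refine ⟨fun M hM => ?_⟩
  have hMm : M = IsLocalRing.maximalIdeal A := IsLocalRing.eq_maximalIdeal hM
  have hmax := AdicCompletion.isMaximal_map_of_le (IsLocalRing.maximalIdeal A) M (le_of_eq hMm.symm)
    (IsNoetherian.noetherian _)
  rw [Ideal.smul_top_eq_map]
  intro htop
  exact hmax.ne_top ((Submodule.restrictScalars_eq_top_iff _ _ _).1 htop)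

variable (P : ∀ (T : Type u) [CommRing T], Prop)
  (hiso : ∀ (T T' : Type u) [CommRing T] [CommRing T'], (T ≃+* T') → P T → P T')
  (hofloc : ∀ (T : Type u) [CommRing T],
    (∀ (Q : Ideal T) [Q.IsPrime], P (Localization.AtPrime Q)) → P T)
  (hloc : ∀ (T : Type u) [CommRing T], P T → ∀ (Q : Ideal T) [Q.IsPrime],
    P (Localization.AtPrime Q))
  (hdesc : ∀ (R S : Type u) [CommRing R] [CommRing S] [Algebra R S]
    [Module.FaithfullyFlat R S], P S → P R)
  (𝓛 : ∀ (R L : Type u) [CommRing R] [Field L] [Algebra R L], Prop)
  (h𝓛 : ∀ (R R' L : Type u) [CommRing R] [CommRing R'] [Field L] [Algebra R R'] [Algebra R L]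
    [Algebra R' L] [IsScalarTower R R' L], 𝓛 R L → 𝓛 R' L)

include hiso hofloc hloc hdesc h𝓛 in
/-- **Geometric fibres of the `I`-adic completion.**  A local property `P` of the geometric
formal fibres of the local rings of `A` passes to the geometric fibres of `A → Â`
(uses helper96's local step `exists_ringHom_localization_adicCompletion`). -/
theorem main (A : Type u) [CommRing A] [IsNoetherianRing A] (I : Ideal A)
    (hyp : ∀ (m : Ideal A) [m.IsPrime] (L : Type u) [Field L]
      [Algebra (Localization.AtPrime m) L], 𝓛 (Localization.AtPrime m) L →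
        P (L ⊗[Localization.AtPrime m] EGA4.Cpl (Localization.AtPrime m)))
    (L : Type u) [Field L] [Algebra A L] (hL : 𝓛 A L) : P (L ⊗[A] AdicCompletion I A) := by
  haveI : IsNoetherianRing (AdicCompletion I A) :=
    Groth.Agent.Lib.Helper63.CompletionNoeth.isNoetherianRing_adicCompletion A I
  apply of_forall_maximal P hiso hofloc hloc
  intro n hn
  set m : Ideal A := n.comap (algebraMap A (AdicCompletion I A)) with hm
  letI algB : Algebra (Localization.AtPrime m) (Localization.AtPrime n) :=
    (Localization.localRingHom m n (algebraMap A (AdicCompletion I A)) rfl).toAlgebra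
  haveI : IsScalarTower A (Localization.AtPrime m) (Localization.AtPrime n) :=
    IsScalarTower.of_algebraMap_eq fun x => by
      rw [RingHom.algebraMap_toAlgebra, Localization.localRingHom_to_map,
        IsScalarTower.algebraMap_apply A (AdicCompletion I A) (Localization.AtPrime n)]
  by_cases hker : RingHom.ker (algebraMap A L) ≤ m
  · letI := algebraAtPrime A m L hker
    haveI := isScalarTower_algebraAtPrime A m L hker
    have h𝓛' : 𝓛 (Localization.AtPrime m) L := h𝓛 A (Localization.AtPrime m) L hL
    obtain ⟨χ, hχ, hflat, hlocal, -⟩ :=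
      Groth.Agent.Lib.Helper96.exists_ringHom_localization_adicCompletion A I n
    have h1 := hyp m L h𝓛'
    letI algC : Algebra (Localization.AtPrime n) (EGA4.Cpl (Localization.AtPrime m)) :=
      χ.toAlgebra
    haveI : IsScalarTower (Localization.AtPrime m) (Localization.AtPrime n)
        (EGA4.Cpl (Localization.AtPrime m)) :=
      IsScalarTower.of_algebraMap_eq fun x => (hχ x).symm
    haveI : Module.Flat (Localization.AtPrime n) (EGA4.Cpl (Localization.AtPrime m)) := hflat
    haveI : IsLocalHom (algebraMap (Localization.AtPrime n)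
        (EGA4.Cpl (Localization.AtPrime m))) := hlocal
    haveI : IsNoetherianRing (Localization.AtPrime m) :=
      IsLocalization.isNoetherianRing m.primeCompl _ inferInstance
    haveI : IsLocalRing (EGA4.Cpl (Localization.AtPrime m)) :=
      Groth.Agent.Lib.Helper83.isLocalRing_adicCompletion _ (IsNoetherian.noetherian _)
        (Ideal.IsPrime.ne_top inferInstance)
    haveI : Module.FaithfullyFlat (Localization.AtPrime n) (EGA4.Cpl (Localization.AtPrime m)) :=
      Module.FaithfullyFlat.of_flat_of_isLocalHom
    have h3 : P (L ⊗[Localization.AtPrime m] Localization.AtPrime n) :=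
      Groth.Agent.S9295.descend P hiso hdesc (Localization.AtPrime m) (Localization.AtPrime n)
        (EGA4.Cpl (Localization.AtPrime m)) L h1
    exact hiso _ _ (IsLocalization.algebraTensorEquiv m.primeCompl (Localization.AtPrime m) L
      (Localization.AtPrime n)).toRingEquiv h3
  · haveI := subsingleton_tensor A m L (Localization.AtPrime n) hker
    exact of_subsingleton P hofloc _

end Main

end Groth.Agent.Lib.Helper49.AdicFibres
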