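import Mathlib
import Groth.Prelude.Def_CAlg
import Groth.Agent.Lib.Helper49.CMFibre
import Groth.Agent.Lib.Helper49.SmoothReg
import Groth.Agent.Lib.Helper49.RegularHom
import Groth.Agent.Lib.Helper28.CMRingAux
import Groth.Agent.Lib.Helper96.RegularLoc
import Groth.Agent.S18865

/-!
# Tensor products of fields are Cohen–Macaulay (helper49)

* `exists_transcendenceBasis_finite` : a finitely generated field extension is finite over a purely
  transcendental subextension generated by a finite transcendence basis.
* `isRegularRing_adjoin_tensor` : `k(x) ⊗_k L` is regular for an algebraically independent finite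
  family `x`.
* `isCM_tensor_of_finite` : if `K/K₀` is finite and `K₀ ⊗_k L` is CM then so is `K ⊗_k L`.
* `isCM_tensor_of_essFiniteType` : `K ⊗_k L` is CM if `K/k` is finitely generated.
-/

set_option autoImplicit false
set_option linter.unusedSectionVars false
set_option linter.overlappingInstances false
set_option linter.style.haveILetI false
universe u

open TensorProduct

namespace Groth.Agent.Lib.Helper49.FieldTensorCM

section TrBasis

variable (k K : Type u) [Field k] [Field K] [Algebra k K]

/-- A finitely generated field extension is finite over the subfield generated by a finite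
transcendence basis. -/
theorem exists_transcendenceBasis_finite [Algebra.EssFiniteType k K] :
    ∃ t : Finset K, IsTranscendenceBasis k ((↑) : t → K) ∧
      Module.Finite (IntermediateField.adjoin k (Set.range ((↑) : t → K))) K := by
  obtain ⟨s, hs⟩ := IntermediateField.fg_top k K
  have : Algebra.IsAlgebraic (Algebra.adjoin k (s : Set K)) K := by
    rw [← IntermediateField.isAlgebraic_adjoin_iff_top, hs, Algebra.isAlgebraic_iff_isIntegral]
    exact Algebra.isIntegral_of_surjective IntermediateField.topEquiv.surjective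
  obtain ⟨t, hts, ht⟩ := exists_isTranscendenceBasis_subset (R := k) (s : Set K)
  lift t to Finset K using s.finite_toSet.subset hts
  refine ⟨t, ht, ?_⟩
  haveI : Algebra.IsAlgebraic (IntermediateField.adjoin k (Set.range ((↑) : t → K))) K :=
    ht.isAlgebraic_field
  haveI : Algebra.EssFiniteType (IntermediateField.adjoin k (Set.range ((↑) : t → K))) K :=
    Algebra.EssFiniteType.of_comp k _ K
  exact Algebra.finite_of_essFiniteType_of_isAlgebraic

end TrBasis

section Regular

variable (k L : Type u) [Field k] [Field L] [Algebra k L]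

/-- `k[x_i] ⊗_k L` is a regular ring. -/
theorem isRegularRing_mvPolynomial_tensor (ι : Type u) [Finite ι] :
    IsRegularRing (MvPolynomial ι k ⊗[k] L) := by
  haveI : Algebra.Smooth k (MvPolynomial ι k) := ⟨inferInstance, inferInstance⟩
  haveI : IsRegularRing L := inferInstance
  haveI : IsRegularRing (L ⊗[k] MvPolynomial ι k) :=
    Groth.Agent.Lib.Helper49.SmoothReg.isRegularRing_of_smooth L _
  exact Groth.Agent.Lib.Helper49.RegularHom.isRegularRing_of_ringEquiv'
    (Algebra.TensorProduct.comm k L (MvPolynomial ι k)).toRingEquiv inferInstance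

/-- `k(x_i) ⊗_k L` is a regular ring. -/
theorem isRegularRing_fractionRing_tensor (ι : Type u) [Finite ι] :
    IsRegularRing (FractionRing (MvPolynomial ι k) ⊗[k] L) := by
  haveI := isRegularRing_mvPolynomial_tensor k L ι
  let _ : Algebra (MvPolynomial ι k ⊗[k] L) (FractionRing (MvPolynomial ι k) ⊗[k] L) :=
    (Algebra.TensorProduct.map (Algebra.ofId (MvPolynomial ι k) (FractionRing (MvPolynomial ι k)))
      (AlgHom.id k L)).toAlgebra
  haveI : IsScalarTower (MvPolynomial ι k) (MvPolynomial ι k ⊗[k] L)
      (FractionRing (MvPolynomial ι k) ⊗[k] L) := by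
    refine IsScalarTower.of_algebraMap_eq (R := MvPolynomial ι k) (S := MvPolynomial ι k ⊗[k] L)
      (A := FractionRing (MvPolynomial ι k) ⊗[k] L) fun p => ?_
    simp [RingHom.algebraMap_toAlgebra, Algebra.TensorProduct.algebraMap_apply, Algebra.ofId_apply]
  haveI : IsLocalization (Algebra.algebraMapSubmonoid (MvPolynomial ι k ⊗[k] L)
      (nonZeroDivisors (MvPolynomial ι k))) (FractionRing (MvPolynomial ι k) ⊗[k] L) := by
    refine IsLocalization.tensorProduct_tensorProduct k L (nonZeroDivisors (MvPolynomial ι k))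
      (FractionRing (MvPolynomial ι k)) ?_
    ext; simp [RingHom.algebraMap_toAlgebra]
  exact Groth.Agent.Lib.Helper96.isRegularRing_of_isLocalization
    (Algebra.algebraMapSubmonoid (MvPolynomial ι k ⊗[k] L)
      (nonZeroDivisors (MvPolynomial ι k))) _

variable {K : Type u} [Field K] [Algebra k K]

/-- `k(x) ⊗_k L` is regular for a finite algebraically independent family `x` of `K`. -/
theorem isRegularRing_adjoin_tensor {ι : Type u} [Finite ι] (x : ι → K)
    (hx : AlgebraicIndependent k x) :
    IsRegularRing (IntermediateField.adjoin k (Set.range x) ⊗[k] L) := by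
  have h := isRegularRing_fractionRing_tensor k L ι
  exact Groth.Agent.Lib.Helper49.RegularHom.isRegularRing_of_ringEquiv'
    (Algebra.TensorProduct.congr hx.aevalEquivField (AlgEquiv.refl (R := k) (A₁ := L))).toRingEquiv h

end Regular

section Finite

variable (k K₀ K L : Type u) [Field k] [Field K₀] [Field K] [Field L] [Algebra k K₀] [Algebra k K]
  [Algebra K₀ K] [IsScalarTower k K₀ K] [Algebra k L] [Module.Finite K₀ K]

/-- The ring isomorphism `(K₀ ⊗_k L) ⊗_{K₀} K ≃ K ⊗_k L`. -/
noncomputable def tensorFiniteEquiv : (K₀ ⊗[k] L) ⊗[K₀] K ≃+* K ⊗[k] L :=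
  (Algebra.TensorProduct.comm K₀ (K₀ ⊗[k] L) K).toRingEquiv.trans
    (Algebra.TensorProduct.cancelBaseChange k K₀ K₀ K L).toRingEquiv

/-- If `K/K₀` is finite and `K₀ ⊗_k L` is CM, then `K ⊗_k L` is CM. -/
theorem isCM_tensor_of_finite [LocCoh.IsCohenMacaulayRing (K₀ ⊗[k] L)] :
    LocCoh.IsCohenMacaulayRing (K ⊗[k] L) := by
  haveI : IsNoetherianRing (K₀ ⊗[k] L) := inferInstance
  haveI : Module.Finite (K₀ ⊗[k] L) ((K₀ ⊗[k] L) ⊗[K₀] K) := inferInstance
  haveI : Module.Flat (K₀ ⊗[k] L) ((K₀ ⊗[k] L) ⊗[K₀] K) := inferInstance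
  haveI : IsNoetherianRing ((K₀ ⊗[k] L) ⊗[K₀] K) :=
    IsNoetherianRing.of_finite (K₀ ⊗[k] L) _
  haveI : Algebra.IsIntegral (K₀ ⊗[k] L) ((K₀ ⊗[k] L) ⊗[K₀] K) := inferInstance
  have h : LocCoh.IsCohenMacaulayRing ((K₀ ⊗[k] L) ⊗[K₀] K) :=
    Groth.Agent.Lib.Helper49.CMFibre.isCM_of_flat_of_isIntegral (R := K₀ ⊗[k] L)
  exact Groth.Agent.Lib.Helper28.CMRingAux.isCohenMacaulayRing_of_ringEquiv
    (tensorFiniteEquiv k K₀ K L).symm h

end Finite

section Main

variable (k K L : Type u) [Field k] [Field K] [Field L] [Algebra k K] [Algebra k L]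

/-- `K ⊗_k L` is Cohen–Macaulay when `K/k` is a finitely generated field extension. -/
theorem isCM_tensor_of_essFiniteType [Algebra.EssFiniteType k K] :
    LocCoh.IsCohenMacaulayRing (K ⊗[k] L) := by
  obtain ⟨t, ht, hfin⟩ := exists_transcendenceBasis_finite k K
  haveI := isRegularRing_adjoin_tensor k L (K := K) ((↑) : t → K) ht.1
  haveI : LocCoh.IsCohenMacaulayRing
      (IntermediateField.adjoin k (Set.range ((↑) : t → K)) ⊗[k] L) :=
    Groth.Agent.S18865.isCohenMacaulayRing_of_isRegularRing _
  exact isCM_tensor_of_finite k (IntermediateField.adjoin k (Set.range ((↑) : t → K))) K L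

/-- `L ⊗_k K` is Cohen–Macaulay when `K/k` is a finitely generated field extension. -/
theorem isCM_tensor_of_essFiniteType' [Algebra.EssFiniteType k K] :
    LocCoh.IsCohenMacaulayRing (L ⊗[k] K) :=
  Groth.Agent.Lib.Helper28.CMRingAux.isCohenMacaulayRing_of_ringEquiv
    (Algebra.TensorProduct.comm k L K).toRingEquiv (isCM_tensor_of_essFiniteType k K L)

end Main

end Groth.Agent.Lib.Helper49.FieldTensorCM
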