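import Mathlib
import Groth.Agent.Lib.Helper49.SmoothReg
import Groth.Agent.Lib.Helper49.RegularHom
import Groth.Agent.S5671

/-!
# Smooth ring maps are regular and normal homomorphisms (helper49)

Namespace `Groth.Agent.Lib.Helper49.SmoothHom`.
-/

set_option autoImplicit false
set_option linter.overlappingInstances false
set_option linter.style.haveILetI false
universe u

open IsLocalRing TensorProduct

namespace Groth.Agent.Lib.Helper49.SmoothHom

open Groth.Agent.Lib.Helper49.NormalHom Groth.Agent.Lib.Helper49.RegularHom
  Groth.Agent.Lib.Helper49.Serre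

/-- A regular ring is normal. -/
theorem isNormalRing_of_isRegularRing (R : Type u) [CommRing R] [IsRegularRing R] :
    EGA4.IsNormalRing R := by
  refine (serre_criterion R).mpr ⟨fun p _ _ => inferInstance, ?_⟩
  rw [Groth.Agent.Lib.Helper49.SkLift.hasSk_self_iff']
  intro p hp
  have hcm := Groth.Agent.S5671.isCM_of_regular (Localization.AtPrime p)
  unfold LocCoh.IsCohenMacaulayModule at hcm
  rw [Module.supportDim_self_eq_ringKrullDim,
    IsLocalization.AtPrime.ringKrullDim_eq_height p (Localization.AtPrime p)] at hcm
  have : p.height = LocCoh.depth (Localization.AtPrime p) (Localization.AtPrime p) :=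
    WithBot.coe_inj.mp hcm
  rw [← this]
  exact min_le_right _ _

/-- A smooth ring map is a regular homomorphism. -/
theorem isRegularHom_of_smooth (A B : Type u) [CommRing A] [CommRing B] [Algebra A B]
    [Algebra.Smooth A B] : CAlg.IsRegularHom A B := by
  refine ⟨inferInstance, fun p _ => ⟨?_, fun k' _ _ hfin => ?_⟩⟩
  · exact Algebra.FiniteType.isNoetherianRing p.ResidueField (p.Fiber B)
  · haveI : IsRegularRing k' := inferInstance
    exact Groth.Agent.Lib.Helper49.SmoothReg.isRegularRing_of_smooth k' _

/-- A smooth ring map is a normal homomorphism. -/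
theorem isNormalHom_of_smooth (A B : Type u) [CommRing A] [CommRing B] [Algebra A B]
    [Algebra.Smooth A B] : EGA4.IsNormalHom A B := by
  obtain ⟨hflat, hfib⟩ := isRegularHom_of_smooth A B
  refine ⟨hflat, fun p _ k' _ _ hfin => ?_⟩
  haveI := (hfib p).2 k' hfin
  exact isNormalRing_of_isRegularRing _

/-- A regular homomorphism from a regular ring to a Noetherian ring has regular target. -/
theorem isRegularRing_of_isRegularHom (R S : Type u) [CommRing R] [CommRing S] [Algebra R S]
    [IsRegularRing R] [IsNoetherianRing S] (h : CAlg.IsRegularHom R S) : IsRegularRing S := by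
  haveI := h.1
  apply Groth.Agent.Lib.Helper49.RegAscent.isRegularRing_of_flat_of_fibres (R := R) inferInstance
  intro Q hQ
  have h1 := (h.2 Q).2 Q.ResidueField (Module.Finite.self _)
  exact isRegularRing_of_ringEquiv'
    (Algebra.TensorProduct.lid Q.ResidueField (Q.Fiber S)).toRingEquiv h1

end Groth.Agent.Lib.Helper49.SmoothHom
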