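import Mathlib
import Groth.Agent.Lib.Helper49.SmoothHom

/-!
# Normality along étale / smooth maps; faithfully flat descent of normality (helper49)

Namespace `Groth.Agent.Lib.Helper49.EtaleNormal`.
-/

set_option autoImplicit false
set_option linter.overlappingInstances false
set_option linter.style.haveILetI false
universe u

open IsLocalRing TensorProduct

namespace Groth.Agent.Lib.Helper49.EtaleNormal

open Groth.Agent.Lib.Helper49.NormalHom Groth.Agent.Lib.Helper49.SmoothHom

/-- Faithfully flat descent of "integrally closed domain". -/
theorem isIntegrallyClosed_of_faithfullyFlat (R S : Type u) [CommRing R] [CommRing S]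
    [Algebra R S] [Module.FaithfullyFlat R S] [IsDomain S] [IsIntegrallyClosed S] :
    IsDomain R ∧ IsIntegrallyClosed R := by
  have hinj : Function.Injective (algebraMap R S) := FaithfulSMul.algebraMap_injective R S
  have hdom : IsDomain R := hinj.isDomain (algebraMap R S)
  refine ⟨hdom, ?_⟩
  rw [isIntegrallyClosed_iff (FractionRing R)]
  intro x hx
  obtain ⟨a, b, hb, rfl⟩ := IsFractionRing.div_surjective (A := R) x
  have hb0 : b ≠ 0 := nonZeroDivisors.ne_zero hb
  have hginj : Function.Injective ((algebraMap S (FractionRing S)).comp (algebraMap R S)) :=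
    (IsFractionRing.injective S (FractionRing S)).comp hinj
  let φ : FractionRing R →+* FractionRing S := IsFractionRing.lift hginj
  have hφ : ∀ r : R, φ (algebraMap R (FractionRing R) r) =
      algebraMap S (FractionRing S) (algebraMap R S r) := fun r => IsFractionRing.lift_algebraMap hginj r
  have hint : IsIntegral S
      (φ (algebraMap R (FractionRing R) a / algebraMap R (FractionRing R) b)) := by
    refine IsIntegral.map_of_comp_eq (algebraMap R S) φ ?_ hx
    ext r
    simp [hφ]
  obtain ⟨s, hs⟩ := (isIntegrallyClosed_iff (FractionRing S)).mp inferInstance hint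
  rw [map_div₀, hφ, hφ] at hs
  have hb' : algebraMap S (FractionRing S) (algebraMap R S b) ≠ 0 := by
    intro h0
    exact hb0 (hinj (by rw [map_zero]; exact IsFractionRing.injective S (FractionRing S) (by rw [h0, map_zero])))
  have hsb : s * algebraMap R S b = algebraMap R S a := by
    apply IsFractionRing.injective S (FractionRing S)
    rw [map_mul, hs, div_mul_cancel₀ _ hb']
  have hmem : a ∈ (Ideal.span {b} : Ideal R) := by
    rw [← Ideal.comap_map_eq_self_of_faithfullyFlat (B := S) (Ideal.span {b}), Ideal.mem_comap,
      Ideal.map_span, Set.image_singleton, Ideal.mem_span_singleton']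
    exact ⟨s, hsb⟩
  obtain ⟨r, hr⟩ := Ideal.mem_span_singleton'.mp hmem
  refine ⟨r, ?_⟩
  have hbK : algebraMap R (FractionRing R) b ≠ 0 := by
    intro h0
    exact hb0 (IsFractionRing.injective R (FractionRing R) (by rw [h0, map_zero]))
  rw [eq_div_iff hbK, ← map_mul, hr]

/-- An integrally closed domain is a normal ring. -/
theorem isNormalRing_of_isIntegrallyClosed (R : Type u) [CommRing R] [IsDomain R]
    [IsIntegrallyClosed R] : EGA4.IsNormalRing R := by
  intro p hp
  exact ⟨inferInstance, isIntegrallyClosed_of_isLocalization (Localization.AtPrime p) p.primeCompl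
    p.primeCompl_le_nonZeroDivisors⟩

/-- The target of a normal homomorphism of Noetherian rings with normal source is normal. -/
theorem isNormalRing_of_isNormalHom (D T : Type u) [CommRing D] [CommRing T] [Algebra D T]
    [IsNoetherianRing D] [IsNoetherianRing T] (hD : EGA4.IsNormalRing D)
    (h : EGA4.IsNormalHom D T) : EGA4.IsNormalRing T := by
  haveI := h.1
  apply isNormalRing_of_flat_of_fibres hD
  intro Q hQ
  have h1 := h.2 Q Q.ResidueField (Module.Finite.self _)
  exact isNormalRing_of_ringEquiv
    (Algebra.TensorProduct.lid Q.ResidueField (Q.Fiber T)).toRingEquiv h1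

attribute [local instance] Algebra.TensorProduct.rightAlgebra in
/-- Ascent of "integrally closed domain" to the local rings of a smooth algebra. -/
theorem isIntegrallyClosed_localization_of_smooth (A B : Type u) [CommRing A] [CommRing B]
    [Algebra A B] [IsNoetherianRing A] [Algebra.Smooth A B] (q : Ideal B) [q.IsPrime]
    (hd : IsDomain (Localization.AtPrime (q.under A)))
    (hic : IsIntegrallyClosed (Localization.AtPrime (q.under A))) :
    IsDomain (Localization.AtPrime q) ∧ IsIntegrallyClosed (Localization.AtPrime q) := by
  let p := q.under A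
  let Ap := Localization.AtPrime p
  let T := Ap ⊗[A] B
  have hNT : IsNoetherianRing T := Algebra.FiniteType.isNoetherianRing Ap T
  have hAp : EGA4.IsNormalRing Ap := isNormalRing_of_isIntegrallyClosed Ap
  have hT : EGA4.IsNormalRing T :=
    isNormalRing_of_isNormalHom Ap T hAp (isNormalHom_of_smooth Ap T)
  have hloc : IsLocalization (Algebra.algebraMapSubmonoid B p.primeCompl) T :=
    IsLocalization.tensorRight Ap p.primeCompl
  have hdisj : Disjoint ((Algebra.algebraMapSubmonoid B p.primeCompl : Submonoid B) : Set B)
      (q : Set B) := by
    rw [Set.disjoint_left]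
    rintro _ ⟨a, ha, rfl⟩ hx
    exact ha hx
  have hQ : (q.map (algebraMap B T)).IsPrime :=
    IsLocalization.isPrime_of_isPrime_disjoint _ _ q inferInstance hdisj
  have hco : (q.map (algebraMap B T)).under B = q :=
    IsLocalization.under_map_of_isPrime_disjoint _ _ inferInstance hdisj
  have key : ∀ (q' : Ideal B) [q'.IsPrime], q' = q →
      (IsDomain (Localization.AtPrime q') ∧ IsIntegrallyClosed (Localization.AtPrime q')) →
      (IsDomain (Localization.AtPrime q) ∧ IsIntegrallyClosed (Localization.AtPrime q)) := by
    intro q' _ he
    subst he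
    exact id
  haveI hloc2 : IsLocalization.AtPrime (Localization.AtPrime (q.map (algebraMap B T)))
      ((q.map (algebraMap B T)).comap (algebraMap B T)) :=
    IsLocalization.isLocalization_isLocalization_atPrime_isLocalization
      (Algebra.algebraMapSubmonoid B p.primeCompl) _ (q.map (algebraMap B T))
  have e : Localization.AtPrime ((q.map (algebraMap B T)).under B) ≃ₐ[B]
      Localization.AtPrime (q.map (algebraMap B T)) :=
    IsLocalization.algEquiv ((q.map (algebraMap B T)).under B).primeCompl _ _
  obtain ⟨h1, h2⟩ := hT (q.map (algebraMap B T))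
  exact key _ hco ⟨e.toRingEquiv.toMulEquiv.isDomain _,
    IsIntegrallyClosed.of_equiv (R := Localization.AtPrime (q.map (algebraMap B T)))
      e.toRingEquiv.symm⟩

/-- Descent of "integrally closed domain" from the local rings of a flat algebra. -/
theorem isIntegrallyClosed_localization_of_flat (A B : Type u) [CommRing A] [CommRing B]
    [Algebra A B] [Module.Flat A B] (q : Ideal B) [q.IsPrime]
    (hd : IsDomain (Localization.AtPrime q))
    (hic : IsIntegrallyClosed (Localization.AtPrime q)) :
    IsDomain (Localization.AtPrime (q.under A)) ∧
      IsIntegrallyClosed (Localization.AtPrime (q.under A)) := by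
  let _ := Localization.AtPrime.algebraOfLiesOver (q.under A) q
  have hloc : IsLocalHom (algebraMap (Localization.AtPrime (q.under A)) (Localization.AtPrime q)) :=
    Localization.isLocalHom_localRingHom (q.under A) q (algebraMap A B) Ideal.LiesOver.over
  have hflat : Module.Flat (Localization.AtPrime (q.under A)) (Localization.AtPrime q) :=
    inferInstance
  have hff : Module.FaithfullyFlat (Localization.AtPrime (q.under A)) (Localization.AtPrime q) :=
    Module.FaithfullyFlat.of_flat_of_isLocalHom
  exact isIntegrallyClosed_of_faithfullyFlat _ (Localization.AtPrime q)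

end Groth.Agent.Lib.Helper49.EtaleNormal
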