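import Mathlib
import Groth.Prelude.Def_CAlg
import Groth.Prelude.Def_EGA4b
import Groth.Agent.Lib.Helper49.CMFibre

/-!
# `(S_k)` at a prime (helper49)

* `hasSk_congr` : `(S_k)` is invariant under linear equivalences.
* `hasSkAt_self_iff` : `EGA4.HasSkAt n R R p ↔ ∀ p' ≤ p, min n (ht p') ≤ depth R_{p'}`.
* `hasSkAt_of_flat` / `hasSkAt_descent` : `(S_n)` at `q'` versus at `q' ∩ R` for a flat map
  whose fibre local rings are CM.
-/

set_option autoImplicit false
set_option linter.unusedSectionVars false
set_option linter.overlappingInstances false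
set_option linter.style.haveILetI false
universe u

open IsLocalRing TensorProduct

namespace Groth.Agent.Lib.Helper49.SkAt

open Groth.Agent.Lib.Helper49.FibreSk Groth.Agent.Lib.Helper29.CMLib

section Congr

variable {A : Type u} [CommRing A] {M N : Type u} [AddCommGroup M] [Module A M] [AddCommGroup N]
  [Module A N]

theorem hasSk_of_linearEquiv (k : ℕ) (e : M ≃ₗ[A] N) (h : LocCoh.HasSk k A M) :
    LocCoh.HasSk k A N := by
  intro p hp
  have e' : LocalizedModule p.primeCompl M ≃ₗ[Localization.AtPrime p]
      LocalizedModule p.primeCompl N :=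
    IsLocalizedModule.mapEquiv p.primeCompl (LocalizedModule.mkLinearMap p.primeCompl M)
      (LocalizedModule.mkLinearMap p.primeCompl N) (Localization.AtPrime p) e
  rw [← Module.supportDim_eq_of_equiv e', ← depth_congr e']
  exact h p

theorem hasSk_congr (k : ℕ) (e : M ≃ₗ[A] N) : LocCoh.HasSk k A M ↔ LocCoh.HasSk k A N :=
  ⟨hasSk_of_linearEquiv k e, hasSk_of_linearEquiv k e.symm⟩

end Congr

section At

variable (R : Type u) [CommRing R] [IsNoetherianRing R]

/-- `(S_n)` for the ring at a prime `p`, in terms of the generizations of `p`. -/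
theorem hasSkAt_self_iff (n : ℕ) (p : Ideal R) [p.IsPrime] :
    EGA4.HasSkAt n R R p ↔ ∀ (p' : Ideal R) [p'.IsPrime], p' ≤ p →
      min (n : ℕ∞) p'.height ≤
        LocCoh.depth (Localization.AtPrime p') (Localization.AtPrime p') := by
  unfold EGA4.HasSkAt
  rw [hasSk_congr n (Groth.Agent.Lib.Helper49.Serre.localizedModuleSelfEquiv p),
    Groth.Agent.Lib.Helper49.SkLift.hasSk_self_iff']
  constructor
  · intro h p' hp' hle
    have hdisj : Disjoint ((p.primeCompl : Submonoid R) : Set R) (p' : Set R) := by
      rw [Set.disjoint_left]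
      intro x hx hx'
      exact hx (hle hx')
    have hQ : (p'.map (algebraMap R (Localization.AtPrime p))).IsPrime :=
      IsLocalization.isPrime_of_isPrime_disjoint _ _ p' inferInstance hdisj
    have hco : (p'.map (algebraMap R (Localization.AtPrime p))).under R = p' :=
      IsLocalization.under_map_of_isPrime_disjoint _ _ inferInstance hdisj
    have e := IsLocalization.localizationLocalizationAtPrimeIsoLocalization p.primeCompl
      (p'.map (algebraMap R (Localization.AtPrime p)))
    have h1 : ((p'.map (algebraMap R (Localization.AtPrime p))).under R).height =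
        (p'.map (algebraMap R (Localization.AtPrime p))).height :=
      IsLocalization.height_under p.primeCompl (A := Localization.AtPrime p) _
    have h2 := h (p'.map (algebraMap R (Localization.AtPrime p)))
    rw [← h1, ← Groth.Agent.Lib.Helper49.Serre.depth_eq_of_ringEquiv e.toRingEquiv] at h2
    have key : ∀ (p'' : Ideal R) [p''.IsPrime], p'' = p' →
        min (n : ℕ∞) p''.height ≤
          LocCoh.depth (Localization.AtPrime p'') (Localization.AtPrime p'') →
        min (n : ℕ∞) p'.height ≤
          LocCoh.depth (Localization.AtPrime p') (Localization.AtPrime p') := by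
      intro p'' _ he
      subst he
      exact id
    exact key _ hco h2
  · intro h Q hQ
    have e := IsLocalization.localizationLocalizationAtPrimeIsoLocalization p.primeCompl Q
    have h1 : (Q.under R).height = Q.height :=
      IsLocalization.height_under p.primeCompl (A := Localization.AtPrime p) Q
    have hle : Q.under R ≤ p := by
      have hm := IsLocalization.AtPrime.under_maximalIdeal (Localization.AtPrime p) p
      calc Q.under R ≤ (maximalIdeal (Localization.AtPrime p)).under R :=
            Ideal.comap_mono (le_maximalIdeal (Ideal.IsPrime.ne_top inferInstance))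
        _ = p := hm
    have := h (Q.under R) hle
    rw [h1, Groth.Agent.Lib.Helper49.Serre.depth_eq_of_ringEquiv e.toRingEquiv] at this
    exact this

end At

section Flat

variable {R S : Type u} [CommRing R] [CommRing S] [IsNoetherianRing R] [IsNoetherianRing S]
  [Algebra R S] [Module.Flat R S]

/-- Ascent of `(S_n)` at a point along a flat map whose fibres satisfy `(S_n)` at the
generizations of that point. -/
theorem hasSkAt_of_flat (n : ℕ) (q' : Ideal S) [q'.IsPrime]
    (hfib : ∀ (Q : Ideal S) [Q.IsPrime], Q ≤ q' →
      min (n : ℕ∞) (fibDim (Q.under R) Q) ≤ fibDepth (Q.under R) Q)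
    (h : EGA4.HasSkAt n R R (q'.under R)) : EGA4.HasSkAt n S S q' := by
  rw [hasSkAt_self_iff] at h ⊢
  intro Q hQ hle
  have h1 := depth_localization_eq_add (Q.under R) Q
  have h2 := height_eq_add' (Q.under R) Q
  have h3 := h (Q.under R) (Ideal.comap_mono hle)
  rw [h1, h2]
  exact (min_add_le _ _ _).trans (add_le_add h3 (hfib Q hle))

/-- Descent of `(S_n)` at a point along a flat map. -/
theorem hasSkAt_descent (n : ℕ) (q' : Ideal S) [q'.IsPrime]
    (h : EGA4.HasSkAt n S S q') : EGA4.HasSkAt n R R (q'.under R) := by
  rw [hasSkAt_self_iff] at h ⊢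
  intro p hp hle
  have hpq : p.map (algebraMap R S) ≤ q' := by
    rw [Ideal.map_le_iff_le_comap]
    exact hle
  obtain ⟨Q, hQmin, hQle⟩ := Ideal.exists_minimalPrimes_le hpq
  haveI : Q.IsPrime := hQmin.1.1
  have hun : Q.under R = p := Groth.Agent.S9297.under_eq_of_mem_minimalPrimes p Q hQmin
  haveI : Q.LiesOver p := ⟨hun.symm⟩
  have h0 := Groth.Agent.S9297.ringKrullDim_fibLoc_eq_zero p Q hQmin
  rw [← coe_fibDim] at h0
  have h0' : fibDim p Q = 0 := by exact_mod_cast h0
  have h1 := depth_localization_eq_add p Q
  have h2 := height_eq_add' p Q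
  have h3 := fibDepth_le_fibDim p Q
  rw [h0'] at h3
  rw [nonpos_iff_eq_zero.mp h3, add_zero] at h1
  rw [h0', add_zero] at h2
  have h4 := h Q hQle
  rw [h1, h2] at h4
  exact h4

end Flat

end Groth.Agent.Lib.Helper49.SkAt
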