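import Mathlib
import Groth.Prelude.Def_CAlg
import Groth.Prelude.Def_EGA4b
import Groth.Agent.Lib.Helper49.CMFibre
import Groth.Agent.Lib.Helper49.FieldTensorCM
import Groth.Agent.Lib.Helper49.SkAt
import Groth.Agent.Lib.Helper49.NormalHom
import Groth.Agent.Lib.Helper49.EtaleNormal
import Groth.Agent.Lib.Helper96.GeomRegular

/-!
# Normality and field extensions (helper49)

For a Noetherian algebra `A` over a field `k` such that `A ⊗_k k'` is a normal ring for every finite
purely inseparable extension `k'/k`, the ring `A ⊗_k K` is normal for every field extension `K/k`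
such that `A` is of finite type over `k` or `K` is finitely generated over `k`
(`isNormalRing_tensor`), via Serre's criterion `(R_1) + (S_2)`.
-/

set_option autoImplicit false
set_option linter.unusedSectionVars false
set_option linter.overlappingInstances false
set_option linter.style.haveILetI false
universe u

open IsLocalRing TensorProduct

namespace Groth.Agent.Lib.Helper49.GeomNormalExt

open Groth.Agent.Lib.Helper49.FibreSk Groth.Agent.Lib.Helper49.CMFibre

section General

/-- A CM ring satisfies `(S_n)` for all `n`. -/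
theorem hasSk_of_isCM (R : Type u) [CommRing R] [LocCoh.IsCohenMacaulayRing R] (n : ℕ) :
    LocCoh.HasSk n R R := by
  haveI : IsNoetherianRing R := inferInstance
  rw [Groth.Agent.Lib.Helper49.SkLift.hasSk_self_iff']
  intro p hp
  rw [(isCM_iff_depth_eq_height R).1 inferInstance p]
  exact min_le_right _ _

/-- Regularity of a local ring of a localization of `R` from the corresponding local ring of
`R`. -/
theorem isRegularLocalRing_atPrime_of_comap' {R : Type*} [CommRing R] (M : Submonoid R)
    (S : Type*) [CommRing S] [Algebra R S] [IsLocalization M S] (Q' : Ideal S) [Q'.IsPrime]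
    (hreg : IsRegularLocalRing (Localization.AtPrime (Q'.comap (algebraMap R S)))) :
    IsRegularLocalRing (Localization.AtPrime Q') := by
  haveI : IsLocalization.AtPrime (Localization.AtPrime Q') (Q'.comap (algebraMap R S)) :=
    IsLocalization.isLocalization_isLocalization_atPrime_isLocalization M
      (Localization.AtPrime Q') Q'
  let e : Localization.AtPrime (Q'.comap (algebraMap R S)) ≃ₐ[R] Localization.AtPrime Q' :=
    IsLocalization.algEquiv (Q'.comap (algebraMap R S)).primeCompl _ _
  exact IsRegularLocalRing.of_ringEquiv e.toRingEquiv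

variable {R S : Type u} [CommRing R] [CommRing S] [IsNoetherianRing R] [IsNoetherianRing S]
  [Algebra R S] [Module.Flat R S]

/-- Heights do not drop under contraction along a flat map. -/
theorem height_under_le (Q : Ideal S) [Q.IsPrime] : (Q.under R).height ≤ Q.height := by
  rw [height_eq_add' (Q.under R) Q]
  exact le_self_add

/-- Heights are preserved by contraction along a flat integral map. -/
theorem height_under_eq_of_isIntegral [Algebra.IsIntegral R S] (Q : Ideal S) [Q.IsPrime] :
    (Q.under R).height = Q.height := by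
  rw [height_eq_add' (Q.under R) Q, fibDim_eq_zero_of_isIntegral (R := R) (Q.under R) Q, add_zero]

end General

section Field

variable (k A : Type u) [Field k] [CommRing A] [Algebra k A] [IsNoetherianRing A]

/-- The fibres of `A → A ⊗_k K` are Cohen–Macaulay. -/
theorem isCM_fiber (K : Type u) [Field K] [Algebra k K]
    (hft : Algebra.FiniteType k A ∨ Algebra.EssFiniteType k K) (p : Ideal A) [p.IsPrime] :
    LocCoh.IsCohenMacaulayRing (p.Fiber (A ⊗[k] K)) := by
  have e : p.Fiber (A ⊗[k] K) ≃+* p.ResidueField ⊗[k] K :=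
    (Algebra.TensorProduct.cancelBaseChange k A A p.ResidueField K).toRingEquiv
  apply Groth.Agent.Lib.Helper28.CMRingAux.isCohenMacaulayRing_of_ringEquiv e
  rcases hft with h | h
  · haveI : Algebra.EssFiniteType k p.ResidueField := by
      haveI : Algebra.EssFiniteType k A := inferInstance
      haveI : Algebra.EssFiniteType A p.ResidueField := inferInstance
      exact Algebra.EssFiniteType.comp k A p.ResidueField
    exact Groth.Agent.Lib.Helper49.FieldTensorCM.isCM_tensor_of_essFiniteType k p.ResidueField K
  · exact Groth.Agent.Lib.Helper49.FieldTensorCM.isCM_tensor_of_essFiniteType' k K p.ResidueField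

/-- `(S_n)` ascends from `A` to `A ⊗_k K`. -/
theorem hasSk_tensor (n : ℕ) (K : Type u) [Field K] [Algebra k K] [IsNoetherianRing (A ⊗[k] K)]
    (hft : Algebra.FiniteType k A ∨ Algebra.EssFiniteType k K) (h : LocCoh.HasSk n A A) :
    LocCoh.HasSk n (A ⊗[k] K) (A ⊗[k] K) := by
  haveI : Module.Flat A (A ⊗[k] K) := inferInstance
  apply hasSk_of_flat_of_fibres (R := A) n h
  intro p hp
  haveI := isCM_fiber k A K hft p
  exact hasSk_of_isCM _ n

/-- The algebra structure `A ⊗ K → A_p ⊗ K`. -/
@[reducible] noncomputable def tensorAtPrimeAlgebra (K : Type u) [Field K] [Algebra k K]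
    (p : Ideal A) [p.IsPrime] :
    Algebra (A ⊗[k] K) (Localization.AtPrime p ⊗[k] K) :=
  (Algebra.TensorProduct.map (IsScalarTower.toAlgHom k A (Localization.AtPrime p))
    (AlgHom.id k K)).toAlgebra

theorem isScalarTower_tensorAtPrime (K : Type u) [Field K] [Algebra k K]
    (p : Ideal A) [p.IsPrime] :
    letI := tensorAtPrimeAlgebra k A K p
    IsScalarTower A (A ⊗[k] K) (Localization.AtPrime p ⊗[k] K) := by
  letI := tensorAtPrimeAlgebra k A K p
  refine IsScalarTower.of_algebraMap_eq (R := A) (S := A ⊗[k] K)
    (A := Localization.AtPrime p ⊗[k] K) fun a => ?_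
  simp [RingHom.algebraMap_toAlgebra, Algebra.TensorProduct.algebraMap_apply]

theorem isLocalization_tensorAtPrime (K : Type u) [Field K] [Algebra k K]
    (p : Ideal A) [p.IsPrime] :
    letI := tensorAtPrimeAlgebra k A K p
    IsLocalization (Algebra.algebraMapSubmonoid (A ⊗[k] K) p.primeCompl)
      (Localization.AtPrime p ⊗[k] K) := by
  letI := tensorAtPrimeAlgebra k A K p
  haveI := isScalarTower_tensorAtPrime k A K p
  refine IsLocalization.tensorProduct_tensorProduct k K p.primeCompl (Localization.AtPrime p) ?_
  ext; simp [RingHom.algebraMap_toAlgebra]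

/-- If `A ⊗_k k'` satisfies `(R_1)` for a finite extension `k'/k`, then `A_p ⊗_k k'` is regular for
every prime `p` of `A` of height at most one. -/
theorem isRegularRing_atPrime_tensor_of_hasRk (k' : Type u) [Field k'] [Algebra k k']
    [Module.Finite k k'] (h : LocCoh.HasRk 1 (A ⊗[k] k')) (p : Ideal A) [p.IsPrime]
    (hp : p.height ≤ 1) : IsRegularRing (Localization.AtPrime p ⊗[k] k') := by
  letI := tensorAtPrimeAlgebra k A k' p
  haveI := isScalarTower_tensorAtPrime k A k' p
  haveI hloc := isLocalization_tensorAtPrime k A k' p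
  haveI : IsNoetherianRing (A ⊗[k] k') := IsNoetherianRing.of_finite A _
  haveI : IsNoetherianRing (Localization.AtPrime p ⊗[k] k') :=
    IsLocalization.isNoetherianRing (Algebra.algebraMapSubmonoid (A ⊗[k] k') p.primeCompl) _
      inferInstance
  haveI : Module.Flat A (A ⊗[k] k') := inferInstance
  haveI : Algebra.IsIntegral A (A ⊗[k] k') := inferInstance
  rw [isRegularRing_iff]
  intro P hP
  have hle : (P.under (A ⊗[k] k')).under A ≤ p := by
    intro a ha
    by_contra hap
    have hmem : algebraMap A (A ⊗[k] k') a ∈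
        Algebra.algebraMapSubmonoid (A ⊗[k] k') p.primeCompl := ⟨a, hap, rfl⟩
    have hu : IsUnit (algebraMap (A ⊗[k] k') (Localization.AtPrime p ⊗[k] k')
        (algebraMap A (A ⊗[k] k') a)) :=
      IsLocalization.map_units _ (⟨_, hmem⟩ : Algebra.algebraMapSubmonoid (A ⊗[k] k') p.primeCompl)
    exact (Ideal.IsPrime.ne_top hP) (Ideal.eq_top_of_isUnit_mem _ ha hu)
  have hht : (P.under (A ⊗[k] k')).height ≤ 1 := by
    rw [← height_under_eq_of_isIntegral (R := A) (P.under (A ⊗[k] k'))]
    exact (Ideal.height_mono hle).trans hp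
  have hreg := h (P.under (A ⊗[k] k')) hht
  exact isRegularLocalRing_atPrime_of_comap'
    (Algebra.algebraMapSubmonoid (A ⊗[k] k') p.primeCompl) _ P hreg

/-- `(R_1)` ascends from the finite purely inseparable base changes of `A` to `A ⊗_k K`. -/
theorem hasRk_one_tensor (K : Type u) [Field K] [Algebra k K] [IsNoetherianRing (A ⊗[k] K)]
    (H : ∀ (k' : Type u) [Field k'] [Algebra k k'], Module.Finite k k' → IsPurelyInseparable k k' →
      LocCoh.HasRk 1 (A ⊗[k] k')) : LocCoh.HasRk 1 (A ⊗[k] K) := by
  intro Q hQ hht
  haveI : Module.Flat A (A ⊗[k] K) := inferInstance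
  have hp : (Q.under A).height ≤ 1 := (height_under_le (R := A) Q).trans hht
  letI := tensorAtPrimeAlgebra k A K (Q.under A)
  haveI := isScalarTower_tensorAtPrime k A K (Q.under A)
  haveI hloc := isLocalization_tensorAtPrime k A K (Q.under A)
  haveI : IsNoetherianRing (Localization.AtPrime (Q.under A) ⊗[k] K) :=
    IsLocalization.isNoetherianRing (Algebra.algebraMapSubmonoid (A ⊗[k] K) (Q.under A).primeCompl) _
      inferInstance
  haveI : IsNoetherianRing (K ⊗[k] Localization.AtPrime (Q.under A)) :=
    isNoetherianRing_of_ringEquiv _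
      (Algebra.TensorProduct.comm k (Localization.AtPrime (Q.under A)) K).toRingEquiv
  haveI : IsNoetherianRing (Localization.AtPrime (Q.under A)) :=
    IsLocalization.isNoetherianRing (Q.under A).primeCompl _ inferInstance
  obtain ⟨pp, hpp⟩ := ExpChar.exists k
  have hfs : ∀ (q : Ideal (Localization.AtPrime (Q.under A))) [q.IsPrime],
      CAlgX.IsAdicFormallySmooth k (Localization.AtPrime q)
        (maximalIdeal (Localization.AtPrime q)) := by
    intro q hq
    refine Groth.Agent.Lib.Helper96.isAdicFormallySmooth_atPrime_of_forall_regular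
      (Localization.AtPrime (Q.under A)) pp ?_ q
    intro k' _ _ hfin hpow
    haveI := hfin
    have hpi : IsPurelyInseparable k k' :=
      (isPurelyInseparable_iff_pow_mem k pp).2 fun x => ⟨1, by simpa using hpow x⟩
    have h1 := isRegularRing_atPrime_tensor_of_hasRk k A k' (H k' hfin hpi) (Q.under A) hp
    exact Groth.Agent.Lib.Helper49.RegularHom.isRegularRing_of_ringEquiv'
      (Algebra.TensorProduct.comm k (Localization.AtPrime (Q.under A)) k').toRingEquiv h1
  have hreg1 : IsRegularRing (K ⊗[k] Localization.AtPrime (Q.under A)) :=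
    Groth.Agent.Lib.Helper96.isRegularRing_tensor_of_forall_adicFormallySmooth K _ hfs
  have hreg2 : IsRegularRing (Localization.AtPrime (Q.under A) ⊗[k] K) :=
    Groth.Agent.Lib.Helper49.RegularHom.isRegularRing_of_ringEquiv'
      (Algebra.TensorProduct.comm k K (Localization.AtPrime (Q.under A))).toRingEquiv hreg1
  have hdisj : Disjoint
      ((Algebra.algebraMapSubmonoid (A ⊗[k] K) (Q.under A).primeCompl : Submonoid (A ⊗[k] K)) :
        Set (A ⊗[k] K)) (Q : Set (A ⊗[k] K)) := by
    rw [Set.disjoint_left]
    rintro _ ⟨a, ha, rfl⟩ hmem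
    exact ha hmem
  haveI hQ' : (Q.map (algebraMap (A ⊗[k] K) (Localization.AtPrime (Q.under A) ⊗[k] K))).IsPrime :=
    IsLocalization.isPrime_of_isPrime_disjoint
      (Algebra.algebraMapSubmonoid (A ⊗[k] K) (Q.under A).primeCompl) _ Q hQ hdisj
  have hcomap : (Q.map (algebraMap (A ⊗[k] K) (Localization.AtPrime (Q.under A) ⊗[k] K))).comap
      (algebraMap (A ⊗[k] K) (Localization.AtPrime (Q.under A) ⊗[k] K)) = Q :=
    IsLocalization.under_map_of_isPrime_disjoint
      (Algebra.algebraMapSubmonoid (A ⊗[k] K) (Q.under A).primeCompl) _ hQ hdisj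
  exact Groth.Agent.Lib.Helper96.isRegularLocalRing_atPrime_of_comap
    (Algebra.algebraMapSubmonoid (A ⊗[k] K) (Q.under A).primeCompl)
    (Localization.AtPrime (Q.under A) ⊗[k] K) Q _ hcomap
    (hreg2.isRegularLocalRing_localization _)

/-- **Normality and field extensions.** If `A ⊗_k k'` is normal for all finite purely inseparable
`k'/k`, then `A ⊗_k K` is normal for every extension `K/k`, provided `A` is of finite type or `K`
is finitely generated (and `A ⊗_k K` is Noetherian). -/
theorem isNormalRing_tensor (K : Type u) [Field K] [Algebra k K] [IsNoetherianRing (A ⊗[k] K)]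
    (hft : Algebra.FiniteType k A ∨ Algebra.EssFiniteType k K)
    (H : ∀ (k' : Type u) [Field k'] [Algebra k k'], Module.Finite k k' → IsPurelyInseparable k k' →
      EGA4.IsNormalRing (A ⊗[k] k')) : EGA4.IsNormalRing (A ⊗[k] K) := by
  have hA : EGA4.IsNormalRing A :=
    Groth.Agent.Lib.Helper49.NormalHom.isNormalRing_of_ringEquiv
      (Algebra.TensorProduct.rid k k A).toRingEquiv (H k (Module.Finite.self k) inferInstance)
  have hS2 : LocCoh.HasSk 2 A A := ((Groth.Agent.Lib.Helper49.Serre.serre_criterion A).1 hA).2
  have hR1 : ∀ (k' : Type u) [Field k'] [Algebra k k'], Module.Finite k k' →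
      IsPurelyInseparable k k' → LocCoh.HasRk 1 (A ⊗[k] k') := by
    intro k' _ _ hfin hpi
    haveI := hfin
    haveI : IsNoetherianRing (A ⊗[k] k') := IsNoetherianRing.of_finite A _
    exact ((Groth.Agent.Lib.Helper49.Serre.serre_criterion (A ⊗[k] k')).1 (H k' hfin hpi)).1
  exact (Groth.Agent.Lib.Helper49.Serre.serre_criterion (A ⊗[k] K)).2
    ⟨hasRk_one_tensor k A K hR1, hasSk_tensor k A 2 K hft hS2⟩

end Field

section Descent

/-- Normality descends along faithfully flat maps. -/
theorem isNormalRing_of_faithfullyFlat (A B : Type u) [CommRing A] [CommRing B] [Algebra A B]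
    [Module.FaithfullyFlat A B] (h : EGA4.IsNormalRing B) : EGA4.IsNormalRing A := by
  intro p hp
  obtain ⟨q, hq, hqp⟩ := Ideal.exists_isPrime_liesOver_of_faithfullyFlat (B := B) p
  have key : ∀ (p' : Ideal A) [p'.IsPrime], p' = p →
      (IsDomain (Localization.AtPrime p') ∧ IsIntegrallyClosed (Localization.AtPrime p')) →
      (IsDomain (Localization.AtPrime p) ∧ IsIntegrallyClosed (Localization.AtPrime p)) := by
    intro p' _ he
    subst he
    exact id
  obtain ⟨h1, h2⟩ := h q
  exact key _ hqp.over.symm
    (Groth.Agent.Lib.Helper49.EtaleNormal.isIntegrallyClosed_localization_of_flat A B q h1 h2)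

variable (k k' K' S : Type u) [Field k] [Field k'] [Field K'] [Algebra k k'] [Algebra k' K']
  [Algebra k K'] [IsScalarTower k k' K'] [CommRing S] [Algebra k S]

/-- The ring isomorphism `(k' ⊗_k S) ⊗_{k'} K' ≃ K' ⊗_k S`. -/
noncomputable def tensorTowerEquiv : (k' ⊗[k] S) ⊗[k'] K' ≃+* K' ⊗[k] S :=
  (Algebra.TensorProduct.comm k' (k' ⊗[k] S) K').toRingEquiv.trans
    (Algebra.TensorProduct.cancelBaseChange k k' k' K' S).toRingEquiv

/-- If `K' ⊗_k S` is normal for an extension `K'` of `k'`, then `k' ⊗_k S` is normal. -/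
theorem isNormalRing_tensor_of_tower (h : EGA4.IsNormalRing (K' ⊗[k] S)) :
    EGA4.IsNormalRing (k' ⊗[k] S) := by
  haveI : Module.FaithfullyFlat (k' ⊗[k] S) ((k' ⊗[k] S) ⊗[k'] K') := inferInstance
  apply isNormalRing_of_faithfullyFlat (k' ⊗[k] S) ((k' ⊗[k] S) ⊗[k'] K')
  exact Groth.Agent.Lib.Helper49.NormalHom.isNormalRing_of_ringEquiv
    (tensorTowerEquiv k k' K' S).symm h

end Descent

section Common

attribute [local instance] Algebra.TensorProduct.rightAlgebra in
/-- For field extensions `K/k` and a finite `k'/k`, there is a finite extension `K'` of `K`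
receiving `k'` compatibly over `k`. -/
theorem exists_common_extension (k K k' : Type u) [Field k] [Field K] [Field k'] [Algebra k K]
    [Algebra k k'] [Module.Finite k k'] :
    ∃ (K' : Type u) (_ : Field K') (_ : Algebra K K') (_ : Algebra k' K') (_ : Algebra k K')
      (_ : IsScalarTower k K K') (_ : IsScalarTower k k' K'), Module.Finite K K' := by
  obtain ⟨M, hM⟩ := Ideal.exists_maximal (K ⊗[k] k')
  letI : Field ((K ⊗[k] k') ⧸ M) := Ideal.Quotient.field M
  exact ⟨(K ⊗[k] k') ⧸ M, inferInstance, inferInstance, inferInstance, inferInstance,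
    inferInstance, inferInstance, inferInstance⟩

end Common

end Groth.Agent.Lib.Helper49.GeomNormalExt
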