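import Mathlib
import Groth.Agent.Lib.Helper49.AdicFibres
import Groth.Agent.Lib.Helper49.NormalHom
import Groth.Agent.Lib.Helper49.GeomNormalExt
import Groth.Agent.S2536

/-!
# Instances of `AdicFibres.main` for "normal" and "reduced" (helper49)

Namespace `Groth.Agent.Lib.Helper49.AdicFibres`.
-/

set_option autoImplicit false
set_option linter.style.haveILetI false
universe u

open TensorProduct

namespace Groth.Agent.Lib.Helper49.AdicFibres

section Normal

/-- A localization of a normal ring is normal. -/
theorem isNormalRing_of_isLocalization {T : Type u} [CommRing T] (M : Submonoid T)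
    (T' : Type u) [CommRing T'] [Algebra T T'] [IsLocalization M T']
    (h : EGA4.IsNormalRing T) : EGA4.IsNormalRing T' := by
  intro Q' hQ'
  haveI hloc2 : IsLocalization.AtPrime (Localization.AtPrime Q')
      (Q'.comap (algebraMap T T')) :=
    IsLocalization.isLocalization_isLocalization_atPrime_isLocalization M
      (Localization.AtPrime Q') Q'
  have e : Localization.AtPrime (Q'.comap (algebraMap T T')) ≃ₐ[T] Localization.AtPrime Q' :=
    IsLocalization.algEquiv (Q'.comap (algebraMap T T')).primeCompl _ _
  obtain ⟨h1, h2⟩ := h (Q'.comap (algebraMap T T'))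
  exact ⟨e.symm.toRingEquiv.toMulEquiv.isDomain _, IsIntegrallyClosed.of_equiv e.toRingEquiv⟩

/-- A ring all of whose localizations at primes are normal rings is normal. -/
theorem isNormalRing_of_forall_atPrime {T : Type u} [CommRing T]
    (h : ∀ (Q : Ideal T) [Q.IsPrime], EGA4.IsNormalRing (Localization.AtPrime Q)) :
    EGA4.IsNormalRing T := by
  intro Q hQ
  obtain ⟨h1, h2⟩ := h Q (IsLocalRing.maximalIdeal (Localization.AtPrime Q))
  have e : Localization.AtPrime Q ≃ₐ[Localization.AtPrime Q]
      Localization.AtPrime (IsLocalRing.maximalIdeal (Localization.AtPrime Q)) :=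
    IsLocalization.atUnits (Localization.AtPrime Q)
      (IsLocalRing.maximalIdeal (Localization.AtPrime Q)).primeCompl (by
        intro x hx
        rw [IsUnit.mem_submonoid_iff]
        by_contra hnu
        exact hx ((IsLocalRing.mem_maximalIdeal x).mpr hnu))
  exact ⟨e.toRingEquiv.toMulEquiv.isDomain _, IsIntegrallyClosed.of_equiv e.symm.toRingEquiv⟩

/-- EGA IV 7.4.6 for "geometrically normal". -/
theorem isNormalHom_adicCompletion (A : Type u) [CommRing A] [IsNoetherianRing A] (I : Ideal A)
    (hA : ∀ (p : Ideal A) [p.IsPrime],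
      EGA4.HasGeomNormalFormalFibres (Localization.AtPrime p)) :
    EGA4.IsNormalHom A (AdicCompletion I A) := by
  have hiso : ∀ (T T' : Type u) [CommRing T] [CommRing T'], (T ≃+* T') →
      EGA4.IsNormalRing T → EGA4.IsNormalRing T' := fun T T' _ _ e h =>
    Groth.Agent.Lib.Helper49.NormalHom.isNormalRing_of_ringEquiv e h
  refine ⟨inferInstance, fun p hp L _ _ hL => ?_⟩
  apply to_fibers_finite (fun T _ => EGA4.IsNormalRing T) hiso A (AdicCompletion I A) ?_ p L hL
  intro L _ _ hL
  exact main (fun T _ => EGA4.IsNormalRing T) hiso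
    (fun T _ h => isNormalRing_of_forall_atPrime h)
    (fun T _ h Q _ => isNormalRing_of_isLocalization Q.primeCompl _ h)
    (fun R S _ _ _ _ h =>
      Groth.Agent.Lib.Helper49.GeomNormalExt.isNormalRing_of_faithfullyFlat R S h)
    (fun R L _ _ _ => Algebra.QuasiFinite R L)
    (fun R R' L _ _ _ _ _ _ _ h => by
      haveI := h
      exact Algebra.QuasiFinite.of_restrictScalars R R' L)
    A I
    (fun m _ L _ _ hL => of_fibers_finite (fun T _ => EGA4.IsNormalRing T) hiso
      (Localization.AtPrime m) (EGA4.Cpl (Localization.AtPrime m)) (hA m) L hL)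
    L hL

end Normal

section Reduced

/-- EGA IV 7.4.6 for "geometrically reduced". -/
theorem isGeometricallyReduced_fiber_adicCompletion (A : Type u) [CommRing A]
    [IsNoetherianRing A] (I : Ideal A)
    (hA : ∀ (p : Ideal A) [p.IsPrime],
      EGA4.HasGeomReducedFormalFibres (Localization.AtPrime p)) :
    Module.Flat A (AdicCompletion I A) ∧ ∀ (p : Ideal A) [p.IsPrime],
      Algebra.IsGeometricallyReduced p.ResidueField (p.Fiber (AdicCompletion I A)) := by
  have hiso : ∀ (T T' : Type u) [CommRing T] [CommRing T'], (T ≃+* T') →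
      IsReduced T → IsReduced T' := fun T T' _ _ e h =>
    isReduced_of_injective e.symm.toRingHom e.symm.injective
  refine ⟨inferInstance, fun p hp => ?_⟩
  rw [Algebra.isGeometricallyReduced_field_iff]
  apply to_fibers_all (fun T _ => IsReduced T) hiso A (AdicCompletion I A) ?_ p
    (AlgebraicClosure p.ResidueField)
  intro L _ _
  exact main (fun T _ => IsReduced T) hiso
    (fun T _ h => isReduced_ofLocalizationMaximal T (fun J hJ => h J))
    (fun T _ h Q _ => isReduced_localizationPreserves Q.primeCompl _ h)
    (fun R S _ _ _ _ h =>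
      isReduced_of_injective (algebraMap R S) (FaithfulSMul.algebraMap_injective R S))
    (fun R L _ _ _ => True)
    (fun R R' L _ _ _ _ _ _ _ h => trivial)
    A I
    (fun m _ L _ _ _ => of_fibers_all (fun T _ => IsReduced T) hiso
      (Localization.AtPrime m) (EGA4.Cpl (Localization.AtPrime m))
      (fun p _ L _ _ => by
        haveI := hA m p
        exact Groth.Agent.S2536.isReduced_tensorProduct_field p.ResidueField
          (p.Fiber (EGA4.Cpl (Localization.AtPrime m))) L) L)
    L trivial

end Reduced

end Groth.Agent.Lib.Helper49.AdicFibres
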