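import Mathlib
import Groth.Agent.Lib.Helper49.RegularHom
import Groth.Agent.S2536

/-!
# Localization of normal / regular / reduced homomorphisms (helper49)

Namespace `Groth.Agent.Lib.Helper49.HomLoc`.
-/

set_option autoImplicit false
set_option linter.overlappingInstances false
set_option linter.style.haveILetI false
universe u

open IsLocalRing TensorProduct

namespace Groth.Agent.Lib.Helper49.HomLoc

open Groth.Agent.Lib.Helper49.NormalHom Groth.Agent.Lib.Helper49.RegularHom

section Transfer

variable (D T T' : Type u) [CommRing D] [CommRing T] [CommRing T'] [Algebra D T] [Algebra D T']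

/-- Transfer of a property of the geometric fibres along an isomorphism of algebras. -/
theorem forall_fiber_of_algEquiv (e : T ≃ₐ[D] T')
    (P : ∀ (T : Type u) [CommRing T], Prop)
    (hP : ∀ (T T' : Type u) [CommRing T] [CommRing T'], (T ≃+* T') → P T → P T')
    (Q : Ideal D) [Q.IsPrime] (L : Type u) [CommRing L] [Algebra Q.ResidueField L]
    (h : P (L ⊗[Q.ResidueField] Q.Fiber T)) : P (L ⊗[Q.ResidueField] Q.Fiber T') := by
  let e1 : Q.Fiber T ≃ₐ[Q.ResidueField] Q.Fiber T' :=
    Algebra.TensorProduct.congr (AlgEquiv.refl : Q.ResidueField ≃ₐ[Q.ResidueField] Q.ResidueField) e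
  let e2 : L ⊗[Q.ResidueField] Q.Fiber T ≃ₐ[L] L ⊗[Q.ResidueField] Q.Fiber T' :=
    Algebra.TensorProduct.congr (AlgEquiv.refl : L ≃ₐ[L] L) e1
  exact hP _ _ e2.toRingEquiv h

end Transfer

section Loc

attribute [local instance] Algebra.TensorProduct.rightAlgebra in
/-- `S⁻¹B = S⁻¹A ⊗_A B` as `S⁻¹A`-algebras. -/
theorem nonempty_algEquiv_tensor (A B : Type u) [CommRing A] [CommRing B] [Algebra A B]
    (S : Submonoid A)
    (A' B' : Type u) [CommRing A'] [CommRing B'] [Algebra A A'] [Algebra B B'] [Algebra A' B']
    [Algebra A B'] [IsScalarTower A A' B'] [IsScalarTower A B B'] [IsLocalization S A']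
    [IsLocalization (Algebra.algebraMapSubmonoid B S) B'] : Nonempty (A' ⊗[A] B ≃ₐ[A'] B') := by
  have hloc : IsLocalization (Algebra.algebraMapSubmonoid B S) (A' ⊗[A] B) :=
    IsLocalization.tensorRight A' S
  let e₀ : A' ⊗[A] B ≃ₐ[B] B' :=
    IsLocalization.algEquiv (Algebra.algebraMapSubmonoid B S) _ _
  have hcomm : (e₀ : A' ⊗[A] B →+* B').comp (algebraMap A' (A' ⊗[A] B)) = algebraMap A' B' := by
    apply IsLocalization.ringHom_ext S
    ext a
    simp only [RingHom.comp_apply]
    have h1 : algebraMap A' (A' ⊗[A] B) (algebraMap A A' a) =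
        algebraMap B (A' ⊗[A] B) (algebraMap A B a) := by
      rw [Algebra.TensorProduct.algebraMap_apply, Algebra.TensorProduct.right_algebraMap_apply,
        Algebra.algebraMap_self, RingHom.id_apply, Algebra.algebraMap_eq_smul_one,
        Algebra.algebraMap_eq_smul_one (R := A) (A := B), TensorProduct.smul_tmul]
    rw [h1]
    have h2 : (e₀ : A' ⊗[A] B →+* B') (algebraMap B (A' ⊗[A] B) (algebraMap A B a)) =
        algebraMap B B' (algebraMap A B a) := e₀.commutes _
    rw [h2, ← IsScalarTower.algebraMap_apply, ← IsScalarTower.algebraMap_apply]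
  exact ⟨{ e₀.toRingEquiv with
    commutes' := fun a' => by
      have := congrArg (fun f => f a') hcomm
      exact this }⟩

/-- A localization is quasi-finite. -/
theorem quasiFinite_of_isLocalization (A : Type u) [CommRing A] (S : Submonoid A) (A' : Type u)
    [CommRing A'] [Algebra A A'] [IsLocalization S A'] : Algebra.QuasiFinite A A' :=
  Algebra.QuasiFinite.of_isLocalization (R := A) (S := A) (T := A') S

/-- Base change of a property of all geometric fibres (no finiteness). -/
theorem forall_fiber_baseChange_field (B D C : Type u) [CommRing B] [CommRing D] [CommRing C]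
    [Algebra B D] [Algebra B C]
    (P : ∀ (T : Type u) [CommRing T], Prop)
    (hP : ∀ (T T' : Type u) [CommRing T] [CommRing T'], (T ≃+* T') → P T → P T')
    (h : ∀ (q : Ideal B) [q.IsPrime] (L : Type u) [Field L] [Algebra q.ResidueField L],
      P (L ⊗[q.ResidueField] q.Fiber C))
    (Q : Ideal D) [Q.IsPrime] (L : Type u) [Field L] [Algebra Q.ResidueField L] :
    P (L ⊗[Q.ResidueField] Q.Fiber (D ⊗[B] C)) := by
  letI : Algebra D L := ((algebraMap Q.ResidueField L).comp (algebraMap D Q.ResidueField)).toAlgebra
  haveI : IsScalarTower D Q.ResidueField L := .of_algebraMap_eq' rfl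
  letI : Algebra B L := ((algebraMap D L).comp (algebraMap B D)).toAlgebra
  haveI : IsScalarTower B D L := .of_algebraMap_eq' rfl
  have hkerD : RingHom.ker (algebraMap D L) = Q := by
    rw [IsScalarTower.algebraMap_eq D Q.ResidueField L, ← RingHom.comap_ker,
      (RingHom.injective_iff_ker_eq_bot _).mp (algebraMap Q.ResidueField L).injective,
      ← RingHom.ker_eq_comap_bot, Ideal.ker_algebraMap_residueField]
  have hker : RingHom.ker (algebraMap B L) = Q.under B := by
    rw [IsScalarTower.algebraMap_eq B D L, ← RingHom.comap_ker, hkerD]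
  have hunits : (Q.under B).primeCompl ≤ (IsUnit.submonoid L).comap (algebraMap B L) := by
    intro x hx
    rw [Submonoid.mem_comap, IsUnit.mem_submonoid_iff, isUnit_iff_ne_zero]
    intro h0
    exact hx (hker ▸ (RingHom.mem_ker.mpr h0))
  letI : Algebra (Q.under B).ResidueField L :=
    (Ideal.ResidueField.lift (Q.under B) (algebraMap B L) hker.ge hunits).toAlgebra
  haveI : IsScalarTower B (Q.under B).ResidueField L :=
    .of_algebraMap_eq fun x => (Ideal.ResidueField.lift_algebraMap _ _ hker.ge hunits x).symm
  obtain ⟨e⟩ := nonempty_fiber_baseChange_equiv B D C Q (Q.under B) L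
  exact hP _ _ e.symm (h (Q.under B) L)

end Loc

section Main

variable (A B : Type u) [CommRing A] [CommRing B] [Algebra A B] (S : Submonoid A)
  (A' B' : Type u) [CommRing A'] [CommRing B'] [Algebra A A'] [Algebra B B'] [Algebra A' B']
  [Algebra A B'] [IsScalarTower A A' B'] [IsScalarTower A B B'] [IsLocalization S A']
  [IsLocalization (Algebra.algebraMapSubmonoid B S) B']

include S in
/-- Localization of a normal homomorphism. -/
theorem isNormalHom_of_isLocalization (h : EGA4.IsNormalHom A B) : EGA4.IsNormalHom A' B' := by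
  haveI := quasiFinite_of_isLocalization A S A'
  have h1 := isNormalHom_baseChange A A' B h
  obtain ⟨e⟩ := nonempty_algEquiv_tensor A B S A' B'
  haveI := h1.1
  refine ⟨Module.Flat.of_linearEquiv e.symm.toLinearEquiv, fun Q _ L _ _ hL => ?_⟩
  exact forall_fiber_of_algEquiv A' _ _ e (fun T _ => EGA4.IsNormalRing T)
    (fun T T' _ _ e => isNormalRing_of_ringEquiv e) Q L (h1.2 Q L hL)

include S in
/-- Localization of a regular homomorphism. -/
theorem isRegularHom_of_isLocalization (h : CAlg.IsRegularHom A B) : CAlg.IsRegularHom A' B' := by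
  haveI := quasiFinite_of_isLocalization A S A'
  have h1 := isRegularHom_baseChange A A' B h
  obtain ⟨e⟩ := nonempty_algEquiv_tensor A B S A' B'
  haveI := h1.1
  refine ⟨Module.Flat.of_linearEquiv e.symm.toLinearEquiv, fun Q _ => ⟨?_, fun L _ _ hL => ?_⟩⟩
  · haveI := (h1.2 Q).1
    exact isNoetherianRing_of_ringEquiv _ (Algebra.TensorProduct.congr
      (AlgEquiv.refl : Q.ResidueField ≃ₐ[Q.ResidueField] Q.ResidueField) e).toRingEquiv
  · exact forall_fiber_of_algEquiv A' _ _ e (fun T _ => IsRegularRing T)
      (fun T T' _ _ e hT => isRegularRing_of_ringEquiv' e hT) Q L ((h1.2 Q).2 L hL)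

include S in
/-- Localization of a flat homomorphism with geometrically reduced fibres. -/
theorem isGeometricallyReduced_fiber_of_isLocalization [Module.Flat A B]
    (h : ∀ (p : Ideal A) [p.IsPrime],
      Algebra.IsGeometricallyReduced p.ResidueField (p.Fiber B)) :
    Module.Flat A' B' ∧ ∀ (p' : Ideal A') [p'.IsPrime],
      Algebra.IsGeometricallyReduced p'.ResidueField (p'.Fiber B') := by
  obtain ⟨e⟩ := nonempty_algEquiv_tensor A B S A' B'
  refine ⟨Module.Flat.of_linearEquiv e.symm.toLinearEquiv, fun Q _ => ?_⟩
  rw [Algebra.isGeometricallyReduced_field_iff]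
  apply forall_fiber_of_algEquiv A' _ _ e (fun T _ => IsReduced T)
    (fun T T' _ _ e hT => isReduced_of_injective e.symm.toRingHom e.symm.injective) Q
    (AlgebraicClosure Q.ResidueField)
  exact forall_fiber_baseChange_field A A' B (fun T _ => IsReduced T)
    (fun T T' _ _ e hT => isReduced_of_injective e.symm.toRingHom e.symm.injective)
    (fun q _ L _ _ => by
      haveI := h q
      exact Groth.Agent.S2536.isReduced_tensorProduct_field q.ResidueField (q.Fiber B) L)
    Q (AlgebraicClosure Q.ResidueField)

end Main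

end Groth.Agent.Lib.Helper49.HomLoc
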