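import Mathlib
import Groth.Agent.Lib.Helper49.AdicFibres2
import Groth.Agent.Lib.Helper49.EtaleNormal
import Groth.Agent.Lib.Helper49.HomLoc
import Groth.Agent.Lib.Helper88.FormalFibre
import Groth.Agent.Lib.Helper98.OlivierLocal
import Groth.Agent.Lib.Helper83.FlatLocalDim
import Groth.Agent.Lib.Helper48.AlgClosedTensor
import Groth.Agent.Lib.Helper86.OlivierE
import Groth.Agent.Lib.Helper96.ComplQuotRegular
import Groth.Agent.S4754

/-!
# Formal fibres of henselian local rings (helper49)

For a Noetherian henselian local domain `A` with geometrically normal formal fibres: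
`K ⊗_A Â` is a domain for every field `K` containing `A` (EGA IV 18.9.1).

Namespace `Groth.Agent.Lib.Helper49.HenselFormal`.
-/

set_option autoImplicit false
set_option linter.style.haveILetI false
universe u

open TensorProduct IsLocalRing

namespace Groth.Agent.Lib.Helper49.HenselFormal

/-- A normal ring is reduced. -/
theorem isReduced_of_isNormalRing (T : Type u) [CommRing T] (h : EGA4.IsNormalRing T) :
    IsReduced T := by
  apply isReduced_ofLocalizationMaximal T
  intro J hJ
  haveI := (h J).1
  infer_instance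

/-- A local normal ring is a domain. -/
theorem isDomain_of_isNormalRing_of_isLocalRing (T : Type u) [CommRing T] [IsLocalRing T]
    (h : EGA4.IsNormalRing T) : IsDomain T := by
  obtain ⟨h1, -⟩ := h (maximalIdeal T)
  have e : T ≃ₐ[T] Localization.AtPrime (maximalIdeal T) :=
    IsLocalization.atUnits T (maximalIdeal T).primeCompl (by
      intro x hx
      rw [IsUnit.mem_submonoid_iff]
      by_contra hnu
      exact hx ((IsLocalRing.mem_maximalIdeal x).mpr hnu))
  exact e.toRingEquiv.toMulEquiv.isDomain _

section Complete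

variable (A : Type u) [CommRing A] [IsNoetherianRing A] [IsLocalRing A]

theorem isNoetherianRing_cpl : IsNoetherianRing (EGA4.Cpl A) :=
  Groth.Agent.Lib.Helper83.isNoetherianRing_adicCompletion _

theorem isAdicComplete_cpl :
    IsAdicComplete (maximalIdeal (EGA4.Cpl A)) (EGA4.Cpl A) := by
  have h := AdicCompletion.isAdicComplete_self (maximalIdeal A) (IsNoetherian.noetherian _)
  rwa [Groth.Agent.Lib.Helper83.maximalIdeal_adicCompletion_eq_map (maximalIdeal A)
    (IsNoetherian.noetherian _) (Ideal.IsPrime.ne_top inferInstance)] at h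

theorem isNagata_cpl : CAlg.IsNagata (EGA4.Cpl A) := by
  haveI := isNoetherianRing_cpl A
  haveI := isAdicComplete_cpl A
  exact Groth.Agent.Lib.Helper88.CohenNagata.isNagata_of_complete (EGA4.Cpl A)

theorem faithfullyFlat_cpl : Module.FaithfullyFlat A (EGA4.Cpl A) :=
  Module.FaithfullyFlat.of_flat_of_isLocalHom

theorem surjective_residueField_cpl :
    Function.Surjective (algebraMap A (ResidueField (EGA4.Cpl A))) := by
  intro y
  obtain ⟨x, rfl⟩ := IsLocalRing.residue_surjective y
  obtain ⟨a, ha⟩ := Ideal.Quotient.mk_surjective (AdicCompletion.evalOneₐ (maximalIdeal A) x)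
  refine ⟨a, ?_⟩
  have hker : x - algebraMap A (EGA4.Cpl A) a ∈
      RingHom.ker (AdicCompletion.evalOneₐ (maximalIdeal A)).toRingHom := by
    rw [RingHom.mem_ker]
    change AdicCompletion.evalOneₐ (maximalIdeal A) (x - algebraMap A (EGA4.Cpl A) a) = 0
    rw [map_sub, AlgHom.commutes, ← ha]
    exact sub_self _
  rw [AdicCompletion.ker_evalOneₐ_eq_map (maximalIdeal A) (IsNoetherian.noetherian _),
    Groth.Agent.Lib.Helper83.maximalIdeal_adicCompletion_eq_map (maximalIdeal A)
    (IsNoetherian.noetherian _) (Ideal.IsPrime.ne_top inferInstance)] at hker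
  rw [IsScalarTower.algebraMap_apply A (EGA4.Cpl A) (ResidueField (EGA4.Cpl A))]
  symm
  rw [← sub_eq_zero]
  change IsLocalRing.residue _ x - IsLocalRing.residue _ (algebraMap A (EGA4.Cpl A) a) = 0
  rw [← map_sub, IsLocalRing.residue_eq_zero_iff]
  exact hker

end Complete

theorem hiso : ∀ (T T' : Type u) [CommRing T] [CommRing T'], (T ≃+* T') →
    EGA4.IsNormalRing T → EGA4.IsNormalRing T' := fun _ _ _ _ e h =>
  Groth.Agent.Lib.Helper49.NormalHom.isNormalRing_of_ringEquiv e h

/-- If `A' ⊗_R S` is a domain containing `A'`, then `Frac(A') ⊗_R S` is a domain. -/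
theorem isDomain_tensor_of_isFractionRing (R S A' K : Type u) [CommRing R] [CommRing S]
    [Algebra R S] [CommRing A'] [IsDomain A'] [Algebra R A'] [Field K] [Algebra R K]
    [Algebra A' K] [IsScalarTower R A' K] [IsFractionRing A' K] [IsDomain (A' ⊗[R] S)]
    (hinj : Function.Injective (algebraMap A' (A' ⊗[R] S))) : IsDomain (K ⊗[R] S) := by
  letI alg : Algebra (A' ⊗[R] S) (K ⊗[R] S) :=
    (Algebra.TensorProduct.map (IsScalarTower.toAlgHom R A' K) (AlgHom.id R S)).toAlgebra
  haveI : IsScalarTower A' (A' ⊗[R] S) (K ⊗[R] S) :=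
    IsScalarTower.of_algebraMap_eq (R := A') (S := A' ⊗[R] S) (A := K ⊗[R] S) (fun x => rfl)
  haveI hloc := IsLocalization.tensorProduct_tensorProduct R S (nonZeroDivisors A') K
    (by ext; simp [RingHom.algebraMap_toAlgebra])
  exact IsLocalization.isDomain_of_le_nonZeroDivisors _
    (M := Algebra.algebraMapSubmonoid (A' ⊗[R] S) (nonZeroDivisors A')) (by
    rintro _ ⟨a, ha, rfl⟩
    exact mem_nonZeroDivisors_of_ne_zero
      ((map_ne_zero_iff _ hinj).mpr (nonZeroDivisors.ne_zero ha)))

section D1

variable (A : Type u) [CommRing A] [IsNoetherianRing A] [HenselianLocalRing A] [IsDomain A]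
  (h : EGA4.HasGeomNormalFormalFibres A)
  (K : Type u) [Field K] [Algebra A K] [Algebra (FractionRing A) K]
  [IsScalarTower A (FractionRing A) K] [FiniteDimensional (FractionRing A) K]

include h in
theorem isNormalRing_tensor_of_finite : EGA4.IsNormalRing (K ⊗[A] EGA4.Cpl A) := by
  haveI : Algebra.QuasiFinite A (FractionRing A) :=
    Groth.Agent.Lib.Helper49.HomLoc.quasiFinite_of_isLocalization A (nonZeroDivisors A)
      (FractionRing A)
  haveI : Algebra.QuasiFinite (FractionRing A) K := inferInstance
  haveI : Algebra.QuasiFinite A K := Algebra.QuasiFinite.trans A (FractionRing A) K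
  exact Groth.Agent.Lib.Helper49.AdicFibres.of_fibers_finite (fun T _ => EGA4.IsNormalRing T)
    hiso A (EGA4.Cpl A) h K inferInstance

include h in
/-- (D1) `K ⊗_A Â` is a domain for finite extensions `K` of the fraction field. -/
theorem isDomain_tensor_of_finite : IsDomain (K ⊗[A] EGA4.Cpl A) := by
  have hN := isNormalRing_tensor_of_finite A h K
  haveI hNoeth := isNoetherianRing_cpl A
  haveI := faithfullyFlat_cpl A
  have hred : IsReduced (EGA4.Cpl A ⊗[A] K) := by
    haveI := isReduced_of_isNormalRing _ hN
    exact isReduced_of_injective (Algebra.TensorProduct.comm A (EGA4.Cpl A) K).toRingHom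
      (Algebra.TensorProduct.comm A (EGA4.Cpl A) K).injective
  haveI hfin : Module.Finite A (integralClosure A K) :=
    Groth.Agent.Lib.Helper88.FormalFibre.finite_integralClosure_of_faithfullyFlat
      (isNagata_cpl A) hred
  haveI : IsLocalRing (integralClosure A K) :=
    Groth.Agent.Lib.Helper98.Olivier.isLocalRing_integralClosure
  haveI : IsIntegrallyClosed (integralClosure A K) :=
    integralClosure.isIntegrallyClosedOfFiniteExtension (FractionRing A)
  haveI : IsFractionRing (integralClosure A K) K :=
    integralClosure.isFractionRing_of_finite_extension (FractionRing A) K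
  haveI : IsNoetherianRing (integralClosure A K) := IsNoetherianRing.of_finite A _
  haveI : Algebra.IsIntegral A (integralClosure A K) := inferInstance
  have hnormhom : EGA4.IsNormalHom A (EGA4.Cpl A) := ⟨inferInstance, h⟩
  haveI : Algebra.QuasiFinite A (integralClosure A K) := inferInstance
  have hT1 : EGA4.IsNormalHom (integralClosure A K) (integralClosure A K ⊗[A] EGA4.Cpl A) :=
    Groth.Agent.Lib.Helper49.NormalHom.isNormalHom_baseChange A (integralClosure A K)
      (EGA4.Cpl A) hnormhom
  haveI : IsNoetherianRing (integralClosure A K ⊗[A] EGA4.Cpl A) :=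
    Groth.Agent.Lib.Helper49.NormalHom.isNoetherianRing_tensor_of_finite A
      (integralClosure A K) (EGA4.Cpl A)
  have hT2 : EGA4.IsNormalRing (integralClosure A K ⊗[A] EGA4.Cpl A) :=
    Groth.Agent.Lib.Helper49.EtaleNormal.isNormalRing_of_isNormalHom (integralClosure A K) _
      (Groth.Agent.Lib.Helper49.EtaleNormal.isNormalRing_of_isIntegrallyClosed _) hT1
  haveI : IsLocalRing (integralClosure A K ⊗[A] EGA4.Cpl A) :=
    Groth.Agent.Lib.Helper98.Olivier.isLocalRing_tensorProduct (surjective_residueField_cpl A)
  haveI : IsDomain (integralClosure A K ⊗[A] EGA4.Cpl A) :=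
    isDomain_of_isNormalRing_of_isLocalRing _ hT2
  have hinj : Function.Injective
      (algebraMap (integralClosure A K) (integralClosure A K ⊗[A] EGA4.Cpl A)) :=
    FaithfulSMul.algebraMap_injective _ _
  exact isDomain_tensor_of_isFractionRing A (EGA4.Cpl A) (integralClosure A K) K hinj

omit [IsNoetherianRing A] [HenselianLocalRing A] [IsDomain A] [Algebra (FractionRing A) K]
  [IsScalarTower A (FractionRing A) K] [FiniteDimensional (FractionRing A) K] in
/-- For a flat `A`-algebra `S` and an injective `A → K`, the map `S → K ⊗_A S` is injective. -/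
theorem includeRight_injective (S : Type u) [CommRing S] [Algebra A S] [Module.Flat A S]
    (hK : Function.Injective (algebraMap A K)) :
    Function.Injective (Algebra.TensorProduct.includeRight : S →ₐ[A] K ⊗[A] S) := by
  have := Module.Flat.rTensor_preserves_injective_linearMap (M := S)
    (Algebra.linearMap A K) hK
  intro x y hxy
  have h1 : ∀ z : S, (Algebra.TensorProduct.includeRight : S →ₐ[A] K ⊗[A] S) z =
      (Algebra.linearMap A K).rTensor S ((TensorProduct.lid A S).symm z) := by
    intro z
    simp
  rw [h1, h1] at hxy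
  exact (TensorProduct.lid A S).symm.injective (this hxy)

include h in
/-- **S2811**: the completion of a Noetherian henselian local domain with geometrically normal
formal fibres is a domain. -/
theorem isDomain_cpl : IsDomain (EGA4.Cpl A) := by
  haveI := isDomain_tensor_of_finite A h (FractionRing A)
  exact (includeRight_injective A (FractionRing A) (EGA4.Cpl A)
    (IsFractionRing.injective A _)).isDomain
    (Algebra.TensorProduct.includeRight : EGA4.Cpl A →ₐ[A] FractionRing A ⊗[A] EGA4.Cpl A).toRingHom

end D1

section Union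

variable (A : Type u) [CommRing A] [IsDomain A] (S : Type u) [CommRing S] [Algebra A S]
  [Module.Flat A S]
  (K : Type u) [Field K] [Algebra A K] [Algebra (FractionRing A) K]
  [IsScalarTower A (FractionRing A) K]

/-- The map `E ⊗_A S → K ⊗_A S` for an intermediate field `E`. -/
noncomputable def jmap (E : IntermediateField (FractionRing A) K) : ↥E ⊗[A] S →ₐ[A] K ⊗[A] S :=
  Algebra.TensorProduct.map ((E.val).restrictScalars A) (AlgHom.id A S)

theorem jmap_injective (E : IntermediateField (FractionRing A) K) :
    Function.Injective (jmap A S K E) := by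
  have := Module.Flat.rTensor_preserves_injective_linearMap (M := S)
    ((E.val).restrictScalars A).toLinearMap Subtype.val_injective
  exact this

omit [Module.Flat A S] in
theorem range_jmap_mono {E E' : IntermediateField (FractionRing A) K} (hle : E ≤ E') :
    Set.range (jmap A S K E) ⊆ Set.range (jmap A S K E') := by
  rintro _ ⟨z, rfl⟩
  refine ⟨Algebra.TensorProduct.map ((IntermediateField.inclusion hle).restrictScalars A)
    (AlgHom.id A S) z, ?_⟩
  induction z using TensorProduct.induction_on with
  | zero => simp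
  | tmul a b => rfl
  | add u v hu hv => simp only [map_add, hu, hv]

omit [Module.Flat A S] in
theorem exists_finite_mem_range [Algebra.IsAlgebraic (FractionRing A) K] (x : K ⊗[A] S) :
    ∃ E : IntermediateField (FractionRing A) K, FiniteDimensional (FractionRing A) E ∧
      x ∈ Set.range (jmap A S K E) := by
  induction x using TensorProduct.induction_on with
  | zero => exact ⟨⊥, inferInstance, 0, map_zero _⟩
  | tmul a b =>
    refine ⟨IntermediateField.adjoin (FractionRing A) {a},
      IntermediateField.adjoin.finiteDimensional (Algebra.IsIntegral.isIntegral a),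
      (⟨a, IntermediateField.mem_adjoin_simple_self _ a⟩ : ↥(IntermediateField.adjoin
        (FractionRing A) {a})) ⊗ₜ b, rfl⟩
  | add u v hu hv =>
    obtain ⟨E₁, h₁, hu'⟩ := hu
    obtain ⟨E₂, h₂, hv'⟩ := hv
    refine ⟨E₁ ⊔ E₂, inferInstance, ?_⟩
    obtain ⟨u', rfl⟩ := range_jmap_mono A S K (le_sup_left : E₁ ≤ E₁ ⊔ E₂) hu'
    obtain ⟨v', rfl⟩ := range_jmap_mono A S K (le_sup_right : E₂ ≤ E₁ ⊔ E₂) hv'
    exact ⟨u' + v', map_add _ _ _⟩

/-- If `E ⊗_A S` is a domain for all finite subextensions `E` of the algebraic extension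
`K / Frac A`, then `K ⊗_A S` is a domain. -/
theorem isDomain_tensor_of_forall_finite [Algebra.IsAlgebraic (FractionRing A) K] [Nontrivial S]
    (hK : Function.Injective (algebraMap A K))
    (h : ∀ E : IntermediateField (FractionRing A) K, FiniteDimensional (FractionRing A) E →
      IsDomain (↥E ⊗[A] S)) : IsDomain (K ⊗[A] S) := by
  haveI : Nontrivial (K ⊗[A] S) :=
    (includeRight_injective A K S hK).nontrivial
  suffices hnz : NoZeroDivisors (K ⊗[A] S) from NoZeroDivisors.to_isDomain _
  constructor
  intro x y hxy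
  obtain ⟨E₁, h₁, hx⟩ := exists_finite_mem_range A S K x
  obtain ⟨E₂, h₂, hy⟩ := exists_finite_mem_range A S K y
  obtain ⟨x', rfl⟩ := range_jmap_mono A S K (le_sup_left : E₁ ≤ E₁ ⊔ E₂) hx
  obtain ⟨y', rfl⟩ := range_jmap_mono A S K (le_sup_right : E₂ ≤ E₁ ⊔ E₂) hy
  haveI := h (E₁ ⊔ E₂) inferInstance
  rw [← map_mul] at hxy
  have h0 : x' * y' = 0 := jmap_injective A S K (E₁ ⊔ E₂) (by rw [hxy, map_zero])
  rcases mul_eq_zero.mp h0 with h' | h'
  · left; rw [h', map_zero]
  · right; rw [h', map_zero]

end Union

section D23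

variable (A : Type u) [CommRing A] [IsNoetherianRing A] [HenselianLocalRing A] [IsDomain A]
  (h : EGA4.HasGeomNormalFormalFibres A)

include h in
/-- (D2) `K ⊗_A Â` is a domain for algebraic extensions `K` of the fraction field. -/
theorem isDomain_tensor_of_isAlgebraic (K : Type u) [Field K] [Algebra A K]
    [Algebra (FractionRing A) K] [IsScalarTower A (FractionRing A) K]
    [Algebra.IsAlgebraic (FractionRing A) K] : IsDomain (K ⊗[A] EGA4.Cpl A) := by
  have hK : Function.Injective (algebraMap A K) := by
    rw [IsScalarTower.algebraMap_eq A (FractionRing A) K]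
    exact (algebraMap (FractionRing A) K).injective.comp (IsFractionRing.injective A _)
  apply isDomain_tensor_of_forall_finite A (EGA4.Cpl A) K hK
  intro E hE
  haveI := hE
  exact isDomain_tensor_of_finite A h ↥E

include h in
/-- (D3) **EGA IV 18.9.1**: `K ⊗_A Â` is a domain for every field `K` containing `A`. -/
theorem isDomain_tensor (K : Type u) [Field K] [Algebra A K]
    (hK : Function.Injective (algebraMap A K)) : IsDomain (K ⊗[A] EGA4.Cpl A) := by
  letI : Algebra (FractionRing A) K := (IsFractionRing.lift hK).toAlgebra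
  haveI : IsScalarTower A (FractionRing A) K :=
    IsScalarTower.of_algebraMap_eq (fun x => (IsFractionRing.lift_algebraMap hK x).symm)
  haveI : IsScalarTower A (FractionRing A) (AlgebraicClosure K) := inferInstance
  haveI : IsAlgClosed (algebraicClosure (FractionRing A) (AlgebraicClosure K)) :=
    IsAlgClosure.isAlgClosed (FractionRing A)
  haveI : IsScalarTower A (algebraicClosure (FractionRing A) (AlgebraicClosure K))
      (AlgebraicClosure K) := IsScalarTower.of_algebraMap_eq (fun x => rfl)
  haveI d2 : IsDomain (algebraicClosure (FractionRing A) (AlgebraicClosure K) ⊗[A] EGA4.Cpl A) :=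
    isDomain_tensor_of_isAlgebraic A h _
  haveI : IsDomain ((AlgebraicClosure K) ⊗[algebraicClosure (FractionRing A) (AlgebraicClosure K)]
      (algebraicClosure (FractionRing A) (AlgebraicClosure K) ⊗[A] EGA4.Cpl A)) :=
    Groth.Agent.Lib.Helper48.ACT.isDomain_tensor
  have e := Algebra.TensorProduct.cancelBaseChange A
    (algebraicClosure (FractionRing A) (AlgebraicClosure K)) (AlgebraicClosure K)
    (AlgebraicClosure K) (EGA4.Cpl A)
  haveI : IsDomain ((AlgebraicClosure K) ⊗[A] EGA4.Cpl A) :=
    e.symm.toRingEquiv.toMulEquiv.isDomain _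
  have hinj : Function.Injective (Algebra.TensorProduct.map
      (IsScalarTower.toAlgHom A K (AlgebraicClosure K)) (AlgHom.id A (EGA4.Cpl A))) :=
    Module.Flat.rTensor_preserves_injective_linearMap (M := EGA4.Cpl A)
      (IsScalarTower.toAlgHom A K (AlgebraicClosure K)).toLinearMap
      (algebraMap K (AlgebraicClosure K)).injective
  exact hinj.isDomain (Algebra.TensorProduct.map
      (IsScalarTower.toAlgHom A K (AlgebraicClosure K)) (AlgHom.id A (EGA4.Cpl A))).toRingHom

end D23

section General

/-- transport along the comparison `(A/p) ⊗_A Â ≅ (A/p)^`. -/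
theorem isDomain_tensor_of_quotient (A : Type u) [CommRing A] [IsNoetherianRing A] [IsLocalRing A]
    (p : Ideal A) (K : Type u) [Field K] [Algebra A K] [Algebra (A ⧸ p) K]
    [IsScalarTower A (A ⧸ p) K]
    (J : Ideal (A ⧸ p)) (hJ : J = (maximalIdeal A).map (Ideal.Quotient.mk p))
    (hd : IsDomain (K ⊗[A ⧸ p] AdicCompletion J (A ⧸ p))) : IsDomain (K ⊗[A] EGA4.Cpl A) := by
  subst hJ
  obtain ⟨e, he⟩ := Groth.Agent.Lib.Helper96.exists_tensor_equiv_complQuot A (maximalIdeal A) p
  let e' : ((A ⧸ p) ⊗[A] EGA4.Cpl A) ≃ₐ[A ⧸ p]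
      AdicCompletion ((maximalIdeal A).map (Ideal.Quotient.mk p)) (A ⧸ p) :=
    AlgEquiv.ofRingEquiv (f := e) he
  have e1 : K ⊗[A ⧸ p] ((A ⧸ p) ⊗[A] EGA4.Cpl A) ≃ₐ[K]
      K ⊗[A ⧸ p] AdicCompletion ((maximalIdeal A).map (Ideal.Quotient.mk p)) (A ⧸ p) :=
    Algebra.TensorProduct.congr AlgEquiv.refl e'
  have e2 := Algebra.TensorProduct.cancelBaseChange A (A ⧸ p) K K (EGA4.Cpl A)
  exact (e2.symm.toRingEquiv.trans e1.toRingEquiv).toMulEquiv.isDomain _

/-- **S3831 (EGA IV 18.9.1)**: the formal fibres of a Noetherian henselian local ring with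
geometrically normal formal fibres are geometrically integral. -/
theorem isDomain_tensor_formalFibre (A : Type u) [CommRing A] [HenselianLocalRing A]
    [IsNoetherianRing A] (hA : EGA4.HasGeomNormalFormalFibres A) (p : Ideal A) [hp : p.IsPrime]
    (K : Type u) [Field K] [Algebra p.ResidueField K] :
    IsDomain (K ⊗[p.ResidueField] EGA4.formalFibre A p) := by
  haveI : HenselianLocalRing (A ⧸ p) :=
    Groth.Agent.Lib.Helper86.Olivier.henselianLocalRing_quotient p hp.ne_top
  have hB : EGA4.HasGeomNormalFormalFibres (A ⧸ p) := Groth.Agent.S4754.result A hA p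
  letI : Algebra A K := ((algebraMap p.ResidueField K).comp (algebraMap A p.ResidueField)).toAlgebra
  haveI : IsScalarTower A p.ResidueField K := IsScalarTower.of_algebraMap_eq' rfl
  have hker : RingHom.ker (algebraMap A K) = p := by
    rw [IsScalarTower.algebraMap_eq A p.ResidueField K, ← RingHom.comap_ker,
      (RingHom.injective_iff_ker_eq_bot _).mp (algebraMap p.ResidueField K).injective,
      ← RingHom.ker_eq_comap_bot, Ideal.ker_algebraMap_residueField]
  letI : Algebra (A ⧸ p) K :=
    (Ideal.Quotient.lift p (algebraMap A K) (fun a ha => by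
      rw [← RingHom.mem_ker, hker]; exact ha)).toAlgebra
  haveI : IsScalarTower A (A ⧸ p) K := IsScalarTower.of_algebraMap_eq (fun x => rfl)
  have hinj : Function.Injective (algebraMap (A ⧸ p) K) := by
    rw [RingHom.injective_iff_ker_eq_bot, eq_bot_iff]
    intro x hx
    obtain ⟨a, rfl⟩ := Ideal.Quotient.mk_surjective x
    rw [Ideal.mem_bot, Ideal.Quotient.eq_zero_iff_mem, ← hker]
    exact hx
  have d3 : IsDomain (K ⊗[A ⧸ p] EGA4.Cpl (A ⧸ p)) := isDomain_tensor (A ⧸ p) hB K hinj
  have d4 : IsDomain (K ⊗[A] EGA4.Cpl A) :=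
    isDomain_tensor_of_quotient A p K _
      (IsLocalRing.map_maximalIdeal_of_surjective (Ideal.Quotient.mk p)
        Ideal.Quotient.mk_surjective).symm d3
  exact (Algebra.TensorProduct.cancelBaseChange A p.ResidueField K K
    (EGA4.Cpl A)).toRingEquiv.toMulEquiv.isDomain _

end General

end Groth.Agent.Lib.Helper49.HenselFormal
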