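import Mathlib
import Groth.Agent.S4713
import Groth.Agent.S2661
import Groth.Agent.Lib.Helper49.CMQuot
import Groth.Agent.Lib.Helper49.Serre2

/-!
# Stalks of a scheme as localizations; reduction of stalk properties to closed points
(helper49)
-/

set_option autoImplicit false
set_option linter.style.haveILetI false
universe u

namespace Groth.Agent.Lib.Helper49.StalkLoc

open AlgebraicGeometry CategoryTheory TopologicalSpace

/-- The stalk at a point of an affine open is the localization of the coordinate ring at the
corresponding prime. -/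
theorem nonempty_stalk_equiv {X : Scheme.{u}} {U : X.Opens} (hU : IsAffineOpen U) (x : X)
    (hx : x ∈ U) :
    Nonempty (X.presheaf.stalk x ≃+* Localization.AtPrime (hU.primeIdealOf ⟨x, hx⟩).asIdeal) := by
  algebraize [(X.presheaf.germ U x hx).hom]
  have := hU.isLocalization_stalk ⟨x, hx⟩
  exact ⟨(IsLocalization.algEquiv (hU.primeIdealOf ⟨x, hx⟩).asIdeal.primeCompl
    (X.presheaf.stalk x) (Localization.AtPrime (hU.primeIdealOf ⟨x, hx⟩).asIdeal)).toRingEquiv⟩

theorem primeIdealOf_le_of_specializes {X : Scheme.{u}} {U : X.Opens} (hU : IsAffineOpen U)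
    {x y : X} (hx : x ∈ U) (hy : y ∈ U) (h : x ⤳ y) :
    (hU.primeIdealOf ⟨x, hx⟩).asIdeal ≤ (hU.primeIdealOf ⟨y, hy⟩).asIdeal := by
  have h1 : (⟨x, hx⟩ : U) ⤳ ⟨y, hy⟩ := (subtype_specializes_iff _ _).2 h
  have h2 : hU.primeIdealOf ⟨x, hx⟩ ⤳ hU.primeIdealOf ⟨y, hy⟩ :=
    h1.map hU.isoSpec.hom.continuous
  exact (PrimeSpectrum.asIdeal_le_asIdeal _ _).2 ((PrimeSpectrum.le_iff_specializes _ _).2 h2)

/-- A ring property which is invariant under isomorphism and passes from `A_q` to `A_p` for primes
`p ≤ q` of a Noetherian ring holds at all stalks of a locally Noetherian scheme as soon as it holds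
at the closed points. -/
theorem forall_stalk_of_closedPoints (X : Scheme.{u}) [IsLocallyNoetherian X]
    (P : ∀ (R : Type u) [CommRing R], Prop)
    (hiso : ∀ (R R' : Type u) [CommRing R] [CommRing R'], (R ≃+* R') → P R → P R')
    (hloc : ∀ (A : Type u) [CommRing A] [IsNoetherianRing A] (p q : Ideal A) [p.IsPrime]
      [q.IsPrime], p ≤ q → P (Localization.AtPrime q) → P (Localization.AtPrime p))
    (h : ∀ x : X, IsClosed ({x} : Set X) → P (X.presheaf.stalk x)) (x : X) :
    P (X.presheaf.stalk x) := by
  obtain ⟨y, hyZ, hy⟩ := Groth.Agent.S4713.result X (closure {x}) isClosed_closure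
    ⟨x, subset_closure rfl⟩
  have hxy : x ⤳ y := specializes_iff_mem_closure.2 hyZ
  obtain ⟨U, hU, hyU, -⟩ := AlgebraicGeometry.exists_isAffineOpen_mem_and_subset (X := X)
    (x := y) (U := ⊤) trivial
  have hxU : x ∈ U := hxy.mem_open U.2 hyU
  have hN : IsNoetherianRing Γ(X, U) := IsLocallyNoetherian.component_noetherian ⟨U, hU⟩
  obtain ⟨ex⟩ := nonempty_stalk_equiv hU x hxU
  obtain ⟨ey⟩ := nonempty_stalk_equiv hU y hyU
  have hle := primeIdealOf_le_of_specializes hU hxU hyU hxy
  exact hiso _ _ ex.symm (hloc _ _ _ hle (hiso _ _ ey (h y hy)))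


/-- Generic "generization" lemma: a property of Noetherian local rings which is invariant under
isomorphism and passes to localizations at primes passes from `A_q` to `A_p` for `p ≤ q`. -/
theorem of_le_of_localization (P : ∀ (R : Type u) [CommRing R], Prop)
    (hiso : ∀ (R R' : Type u) [CommRing R] [CommRing R'], (R ≃+* R') → P R → P R')
    (hl : ∀ (R : Type u) [CommRing R] [IsNoetherianRing R] [IsLocalRing R] (p : Ideal R)
      [p.IsPrime], P R → P (Localization.AtPrime p))
    (A : Type u) [CommRing A] [IsNoetherianRing A] (p q : Ideal A) [hp : p.IsPrime]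
    [hq : q.IsPrime] (hpq : p ≤ q) (hr : P (Localization.AtPrime q)) :
    P (Localization.AtPrime p) := by
  have hdisj : Disjoint (q.primeCompl : Set A) (p : Set A) := by
    rw [Set.disjoint_left]
    intro x hx hxP
    exact hx (hpq hxP)
  set p' : Ideal (Localization.AtPrime q) := p.map (algebraMap A (Localization.AtPrime q)) with hp'
  have hp'prime : p'.IsPrime :=
    IsLocalization.isPrime_of_isPrime_disjoint q.primeCompl (Localization.AtPrime q) p hp hdisj
  have hcomap : p'.comap (algebraMap A (Localization.AtPrime q)) = p :=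
    IsLocalization.comap_map_of_isPrime_disjoint q.primeCompl (Localization.AtPrime q) hp hdisj
  have : IsNoetherianRing (Localization.AtPrime q) :=
    IsLocalization.isNoetherianRing q.primeCompl _ inferInstance
  have h1 : P (Localization.AtPrime p') := hl (Localization.AtPrime q) p' hr
  have h2 : IsLocalization.AtPrime (Localization.AtPrime p')
      (p'.comap (algebraMap A (Localization.AtPrime q))) :=
    IsLocalization.isLocalization_isLocalization_atPrime_isLocalization q.primeCompl
      (Localization.AtPrime p') p'
  have h3 : ∀ (P' : Ideal A) [P'.IsPrime], P' = p →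
      IsLocalization.AtPrime (Localization.AtPrime p') P' →
      P (Localization.AtPrime p) := by
    intro P' _ h hloc
    subst h
    exact hiso _ _
      (IsLocalization.algEquiv P'.primeCompl (Localization.AtPrime p')
        (Localization.AtPrime P')).toRingEquiv h1
  exact h3 _ hcomap h2

open Groth.Agent.Lib.Helper29 Groth.Agent.Lib.Helper29.CMLib in
/-- Localizations of a Cohen–Macaulay local ring at primes are Cohen–Macaulay. -/
theorem isCohenMacaulayLocalRing_localization (R : Type u) [CommRing R]
    [hR : LocCoh.IsCohenMacaulayLocalRing R] (p : Ideal R) [p.IsPrime] :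
    LocCoh.IsCohenMacaulayLocalRing (Localization.AtPrime p) := by
  have hM : LocCoh.IsCohenMacaulayModule R R := hR.supportDim_eq_depth
  have hp : (⟨p, inferInstance⟩ : PrimeSpectrum R) ∈ Module.support R R := by
    rw [Module.support_eq_zeroLocus, Module.annihilator_eq_bot.mpr inferInstance]
    simp
  have h := (isCM_localizedModule_and_dim R R hM ⟨p, inferInstance⟩ hp).1
  have : IsNoetherianRing (Localization.AtPrime p) :=
    IsLocalization.isNoetherianRing p.primeCompl _ inferInstance
  refine { supportDim_eq_depth := ?_ }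
  exact (isCohenMacaulayModule_congr (Groth.Agent.Lib.Helper49.Serre.localizedModuleSelfEquiv p)).1 h

theorem isCohenMacaulayLocalRing_of_ringEquiv {R R' : Type u} [CommRing R] [CommRing R']
    (e : R ≃+* R') (h : LocCoh.IsCohenMacaulayLocalRing R) :
    LocCoh.IsCohenMacaulayLocalRing R' := by
  have : IsNoetherianRing R' := isNoetherianRing_of_ringEquiv R e
  have : IsLocalRing R' := e.isLocalRing
  refine { supportDim_eq_depth := ?_ }
  rw [Module.supportDim_self_eq_ringKrullDim]
  refine Groth.Agent.Lib.Helper49.CMQuot.isCM_of_ringEquiv e.symm ?_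
  rw [← Module.supportDim_self_eq_ringKrullDim]
  exact h.supportDim_eq_depth

end Groth.Agent.Lib.Helper49.StalkLoc
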