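import Groth.Agent.Lib.Helper29.CM
import Mathlib.RingTheory.Localization.Finiteness
import Mathlib.RingTheory.Ideal.AssociatedPrime.Localization
import Mathlib.RingTheory.Support
import Mathlib.RingTheory.KrullDimension.Module
import Mathlib.RingTheory.KrullDimension.Zero
import Mathlib.RingTheory.LocalProperties.Reduced
import Mathlib.RingTheory.RegularLocalRing.Defs

/-!
# Serre's conditions over rings: basic dictionary (helper49)

Namespace `Groth.Agent.Lib.Helper49.Serre`.  `R` Noetherian, `M` a finite `R`-module, `p` a prime,
`A = Localization.AtPrime p`, `Mp = LocalizedModule p.primeCompl M`.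

* `depth_localizedModule_eq_zero_iff` : `depth A Mp = 0 ↔ p ∈ Ass M`
* `mem_support_localizedModule_iff` : `q' ∈ Supp_A Mp ↔ comap q' ∈ Supp_R M`
* `supportDim_localizedModule_le_zero_iff` : `dim Mp ≤ 0 ↔ p ∉ Supp M ∨ p` minimal over `Ann M`
* `hasSk_one_iff` : `(S_1)` ⇔ no embedded primes
-/

set_option autoImplicit false
universe u

open IsLocalRing

namespace Groth.Agent.Lib.Helper49.Serre

section

variable {R : Type u} [CommRing R] (M : Type u) [AddCommGroup M] [Module R M]
  (p : Ideal R) [p.IsPrime]

/-- depth of the localization at `p` is zero iff `p` is an associated prime. -/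
theorem depth_localizedModule_eq_zero_iff [IsNoetherianRing R] [Module.Finite R M] :
    LocCoh.depth (Localization.AtPrime p) (LocalizedModule p.primeCompl M) = 0 ↔
      p ∈ associatedPrimes R M := by
  rw [Groth.Agent.Lib.Helper29.depth_eq_zero_iff_maximalIdeal_mem_ass,
    ← Module.associatedPrimes.preimage_comap_associatedPrimes_eq_associatedPrimes_of_isLocalizedModule
      p.primeCompl (Localization.AtPrime p) (LocalizedModule.mkLinearMap p.primeCompl M),
    Set.mem_preimage]
  have : Ideal.comap (algebraMap R (Localization.AtPrime p))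
      (maximalIdeal (Localization.AtPrime p)) = p := Localization.AtPrime.under_maximalIdeal
  rw [this]

/-- The support of the localized module: a prime `q'` of `R_p` is in the support of `M_p` iff its
contraction is in the support of `M`. -/
theorem mem_support_localizedModule_iff (q' : PrimeSpectrum (Localization.AtPrime p)) :
    q' ∈ Module.support (Localization.AtPrime p) (LocalizedModule p.primeCompl M) ↔
      PrimeSpectrum.comap (algebraMap R (Localization.AtPrime p)) q' ∈ Module.support R M := by
  have hdisj : Disjoint (p.primeCompl : Set R)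
      (Ideal.comap (algebraMap R (Localization.AtPrime p)) q'.asIdeal : Set R) :=
    ((IsLocalization.isPrime_iff_isPrime_disjoint p.primeCompl (Localization.AtPrime p)
      q'.asIdeal).mp q'.isPrime).2
  rw [Module.mem_support_iff', Module.mem_support_iff']
  constructor
  · rintro ⟨x, hx⟩
    induction x using LocalizedModule.induction_on with
    | h m s =>
      refine ⟨m, fun r hr hrm => ?_⟩
      apply hx (algebraMap R (Localization.AtPrime p) r) hr
      rw [algebraMap_smul, LocalizedModule.smul'_mk, hrm, LocalizedModule.zero_mk]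
  · rintro ⟨m, hm⟩
    refine ⟨LocalizedModule.mk m 1, fun a ha hax => ?_⟩
    obtain ⟨r, s, rfl⟩ := IsLocalization.exists_mk'_eq p.primeCompl a
    have hr : r ∉ Ideal.comap (algebraMap R (Localization.AtPrime p)) q'.asIdeal := by
      intro hr
      apply ha
      rw [IsLocalization.mk'_eq_mul_mk'_one]
      exact Ideal.mul_mem_right _ _ hr
    rw [← Localization.mk_eq_mk', LocalizedModule.mk_smul_mk, ← LocalizedModule.zero_mk 1,
      LocalizedModule.mk_eq] at hax
    obtain ⟨u, hu⟩ := hax
    simp only [smul_zero, one_smul] at hu
    rw [Submonoid.smul_def, ← mul_smul] at hu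
    refine hm ((u : R) * r) (fun h => ?_) hu
    rcases (Ideal.IsPrime.comap (algebraMap R (Localization.AtPrime p))).mem_or_mem h with h1 | h1
    · exact Set.disjoint_left.mp hdisj u.2 h1
    · exact hr h1

/-- The support dimension of `M_p` is `≤ 0` iff no prime of the support of `M` is strictly
contained in `p`. -/
theorem supportDim_localizedModule_le_zero_iff :
    Module.supportDim (Localization.AtPrime p) (LocalizedModule p.primeCompl M) ≤ 0 ↔
      ∀ q ∈ Module.support R M, q.asIdeal ≤ p → q.asIdeal = p := by
  rw [Module.supportDim, Order.krullDim_nonpos_iff_forall_isMax]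
  constructor
  · intro h q hq hqp
    let P : PrimeSpectrum R := ⟨p, inferInstance⟩
    have hP : P ∈ Module.support R M := Module.mem_support_mono (q := P) hqp hq
    let e := IsLocalization.AtPrime.primeSpectrumOrderIso (Localization.AtPrime p) p
    let q' := e.symm ⟨q, hqp⟩
    have hq'c : PrimeSpectrum.comap (algebraMap R (Localization.AtPrime p)) q' = q := by
      have := e.apply_symm_apply ⟨q, hqp⟩
      exact congrArg Subtype.val this
    have hq' : q' ∈ Module.support (Localization.AtPrime p) (LocalizedModule p.primeCompl M) := by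
      rw [mem_support_localizedModule_iff, hq'c]; exact hq
    have hm' : IsLocalRing.closedPoint (Localization.AtPrime p) ∈
        Module.support (Localization.AtPrime p) (LocalizedModule p.primeCompl M) := by
      rw [mem_support_localizedModule_iff]
      convert hP
      ext1
      exact Localization.AtPrime.under_maximalIdeal
    have hle : q' ≤ IsLocalRing.closedPoint (Localization.AtPrime p) :=
      IsLocalRing.le_maximalIdeal q'.isPrime.ne_top
    have := @h ⟨q', hq'⟩ ⟨_, hm'⟩ hle
    have heq : q' = IsLocalRing.closedPoint (Localization.AtPrime p) := le_antisymm hle this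
    have h2 := congrArg (fun z => (PrimeSpectrum.comap (algebraMap R (Localization.AtPrime p)) z).asIdeal) heq
    simp only [hq'c] at h2
    rw [h2]
    exact Localization.AtPrime.under_maximalIdeal
  · rintro h ⟨q', hq'⟩ ⟨q'', hq''⟩ _
    change q'' ≤ q'
    rw [mem_support_localizedModule_iff] at hq'
    have hle : q'.asIdeal ≤ maximalIdeal (Localization.AtPrime p) :=
      IsLocalRing.le_maximalIdeal q'.isPrime.ne_top
    have h1 := h _ hq' (by
      refine le_trans (Ideal.comap_mono hle) (le_of_eq ?_)
      exact Localization.AtPrime.under_maximalIdeal)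
    have h2 : q'.asIdeal = maximalIdeal (Localization.AtPrime p) :=
      Localization.AtPrime.eq_maximalIdeal_iff_under_eq.mp h1
    change q''.asIdeal ≤ q'.asIdeal
    rw [h2]
    exact IsLocalRing.le_maximalIdeal q''.isPrime.ne_top

/-- An associated prime lies in the support. -/
theorem mem_support_of_mem_associatedPrimes [Module.Finite R M] (h : p ∈ associatedPrimes R M) :
    (⟨p, inferInstance⟩ : PrimeSpectrum R) ∈ Module.support R M := by
  rw [Module.mem_support_iff_of_finite]
  exact le_of_eq_of_le Submodule.annihilator_top.symm (IsAssociatedPrime.annihilator_le h)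

/-- `p` is minimal over `Ann M` iff it is in the support and `dim M_p ≤ 0`. -/
theorem mem_minimalPrimes_annihilator_iff [Module.Finite R M] :
    p ∈ (Module.annihilator R M).minimalPrimes ↔
      (⟨p, inferInstance⟩ : PrimeSpectrum R) ∈ Module.support R M ∧
      Module.supportDim (Localization.AtPrime p) (LocalizedModule p.primeCompl M) ≤ 0 := by
  rw [supportDim_localizedModule_le_zero_iff, Module.mem_support_iff_of_finite]
  constructor
  · intro h
    refine ⟨h.1.2, fun q hq hqp => le_antisymm hqp ?_⟩
    rw [Module.mem_support_iff_of_finite] at hq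
    exact h.2 ⟨q.isPrime, hq⟩ hqp
  · rintro ⟨h1, h2⟩
    refine ⟨⟨inferInstance, h1⟩, fun q hq hqp => ?_⟩
    have := h2 ⟨q, hq.1⟩ (by rw [Module.mem_support_iff_of_finite]; exact hq.2) hqp
    exact le_of_eq this.symm

/-- **(S_1) ⇔ no embedded primes.** -/
theorem hasSk_one_iff [IsNoetherianRing R] [Module.Finite R M] :
    (∀ p ∈ associatedPrimes R M, p ∈ (Module.annihilator R M).minimalPrimes) ↔
      LocCoh.HasSk 1 R M := by
  constructor
  · intro h p hp
    by_cases hd : LocCoh.depth (Localization.AtPrime p) (LocalizedModule p.primeCompl M) = 0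
    · have hass := (depth_localizedModule_eq_zero_iff M p).mp hd
      have := ((mem_minimalPrimes_annihilator_iff M p).mp (h p hass)).2
      rw [hd]
      exact le_trans (min_le_right _ _) this
    · refine le_trans (min_le_left _ _) ?_
      have : (1 : ℕ∞) ≤ LocCoh.depth (Localization.AtPrime p) (LocalizedModule p.primeCompl M) :=
        Order.one_le_iff_ne_zero.mpr hd
      exact_mod_cast this
  · intro h p hp
    have : p.IsPrime := hp.isPrime
    have hd := (depth_localizedModule_eq_zero_iff M p).mpr hp
    have h1 := h p
    rw [hd] at h1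
    rw [mem_minimalPrimes_annihilator_iff]
    refine ⟨mem_support_of_mem_associatedPrimes M p hp, ?_⟩
    rcases min_le_iff.mp h1 with h2 | h2
    · exfalso
      have : ((1 : ℕ) : WithBot ℕ∞) ≤ ((0 : ℕ∞) : WithBot ℕ∞) := h2
      norm_cast at this
    · exact h2

end

section Reduced

variable (R : Type u) [CommRing R]

/-- A Noetherian local ring with zero maximal ideal is regular. -/
theorem isRegularLocalRing_of_maximalIdeal_eq_bot [IsLocalRing R] [IsNoetherianRing R]
    (h : maximalIdeal R = ⊥) : IsRegularLocalRing R := by
  apply IsRegularLocalRing.of_spanFinrank_maximalIdeal_le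
  rw [h]
  have : (⊥ : Ideal R).spanFinrank = 0 :=
    (Submodule.spanFinrank_eq_zero_iff_eq_bot Submodule.fg_bot).mpr rfl
  rw [this]
  exact_mod_cast ringKrullDim_nonneg_of_nontrivial

/-- A regular local ring of dimension zero has zero maximal ideal. -/
theorem maximalIdeal_eq_bot_of_isRegularLocalRing [IsRegularLocalRing R]
    (h : ringKrullDim R = 0) : maximalIdeal R = ⊥ := by
  have h1 := IsRegularLocalRing.spanFinrank_maximalIdeal (R := R)
  rw [h] at h1
  have h2 : (maximalIdeal R).spanFinrank = 0 := by exact_mod_cast h1
  exact (Submodule.spanFinrank_eq_zero_iff_eq_bot (IsNoetherian.noetherian _)).mp h2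

/-- `Ann_R R = ⊥`. -/
theorem annihilator_self : Module.annihilator R R = ⊥ :=
  Module.annihilator_eq_bot.mpr ((faithfulSMul_iff_algebraMap_injective R R).mpr fun {_ _} a ↦ a)

variable [IsNoetherianRing R]

/-- A reduced Noetherian ring satisfies `(R_0)`. -/
theorem hasRk_zero_of_isReduced [IsReduced R] : LocCoh.HasRk 0 R := by
  intro p hp hht
  have h0 : p.height = 0 := le_antisymm (by exact_mod_cast hht) bot_le
  have hmin : p ∈ minimalPrimes R := Ideal.height_eq_zero_iff.mp h0
  have := Ring.KrullDimLE.of_isLocalization p hmin (Localization.AtPrime p)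
  have hf : IsField (Localization.AtPrime p) := Ring.KrullDimLE.isField_of_isReduced
  exact isRegularLocalRing_of_maximalIdeal_eq_bot _ (IsLocalRing.isField_iff_maximalIdeal_eq.mp hf)

/-- A reduced Noetherian ring has no embedded primes. -/
theorem mem_minimalPrimes_of_mem_associatedPrimes_of_isReduced [IsReduced R] (p : Ideal R)
    (hp : p ∈ associatedPrimes R R) : p ∈ minimalPrimes R := by
  obtain ⟨hpp, x, hx⟩ := (isAssociatedPrime_iff).mp hp
  have hx0 : x ≠ 0 := by
    rintro rfl
    apply hpp.ne_top
    rw [hx]
    ext a
    simp [Submodule.mem_colon_singleton]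
  have hxn : x ∉ nilradical R := by
    rw [nilradical_eq_zero]; exact hx0
  rw [nilradical, Ideal.radical_eq_sInf] at hxn
  -- some prime does not contain x; shrink to a minimal prime
  have : ∃ q : Ideal R, q.IsPrime ∧ x ∉ q := by
    by_contra hcon
    push Not at hcon
    apply hxn
    rw [Ideal.mem_sInf]
    rintro q ⟨-, hq⟩
    exact hcon q hq
  obtain ⟨q, hq, hxq⟩ := this
  obtain ⟨q', hq'min, hq'q⟩ := Ideal.exists_minimalPrimes_le (I := ⊥) (J := q) bot_le
  have hxq' : x ∉ q' := fun h => hxq (hq'q h)
  have hpq' : p ≤ q' := by
    intro a ha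
    rw [hx, Submodule.mem_colon_singleton] at ha
    have : a * x ∈ q' := by
      have : a * x = 0 := by simpa using ha
      rw [this]; exact q'.zero_mem
    exact (hq'min.1.1.mem_or_mem this).resolve_right hxq'
  have : q' ≤ p := hq'min.2 ⟨hpp, bot_le⟩ hpq'
  rw [le_antisymm hpq' this]
  exact hq'min

/-- **Reduced ⇔ (R_0) + (S_1)** for Noetherian rings. -/
theorem isReduced_iff_hasRk_zero_and_hasSk_one :
    IsReduced R ↔ (LocCoh.HasRk 0 R ∧ LocCoh.HasSk 1 R R) := by
  constructor
  · intro h
    refine ⟨hasRk_zero_of_isReduced R, (hasSk_one_iff R).mp fun p hp => ?_⟩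
    rw [annihilator_self]
    exact mem_minimalPrimes_of_mem_associatedPrimes_of_isReduced R p hp
  · rintro ⟨h0, h1⟩
    rw [← hasSk_one_iff, annihilator_self] at h1
    refine ⟨fun x hxn => ?_⟩
    by_contra hx0
    obtain ⟨P, hP, hle⟩ := exists_le_isAssociatedPrime_of_isNoetherianRing R x hx0
    have hPmin : P ∈ minimalPrimes R := h1 P hP
    have : P.IsPrime := hP.isPrime
    have hht : P.height = 0 := Ideal.height_eq_zero_iff.mpr hPmin
    have hreg := h0 P (by rw [hht]; exact_mod_cast le_refl _)
    have hdim : ringKrullDim (Localization.AtPrime P) = 0 := by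
      rw [IsLocalization.AtPrime.ringKrullDim_eq_height P, hht]; rfl
    have hbot := maximalIdeal_eq_bot_of_isRegularLocalRing (Localization.AtPrime P) hdim
    -- the image of `x` is nilpotent, hence in the maximal ideal, hence zero
    have hx1 : algebraMap R (Localization.AtPrime P) x ∈ maximalIdeal (Localization.AtPrime P) := by
      have hn : IsNilpotent (algebraMap R (Localization.AtPrime P) x) := hxn.map _
      obtain ⟨n, hn⟩ := hn
      exact (IsLocalRing.maximalIdeal.isMaximal _).isPrime.mem_of_pow_mem n
        (by rw [hn]; exact Ideal.zero_mem _)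
    rw [hbot, Ideal.mem_bot, IsLocalization.map_eq_zero_iff P.primeCompl] at hx1
    obtain ⟨s, hs⟩ := hx1
    apply s.2
    apply hle
    rw [Submodule.mem_colon_singleton]
    simpa using hs

end Reduced

end Groth.Agent.Lib.Helper49.Serre
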