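import Mathlib
import Groth.Prelude.Def_EGA4b

/-!
# Kollár's flatness criterion over Artinian bases: preliminary lemmas
(colon ideals in flat modules; localisation bookkeeping)
-/

set_option autoImplicit false
universe u

namespace Groth.Agent.Lib.Helper49.Kollar

open IsLocalRing

section FlatColon

variable {A : Type*} [CommRing A] {M : Type*} [AddCommGroup M] [Module A M]

/-- For a flat module, `(J M : a) = (J : a) M`. -/
theorem mem_smul_top_of_flat_of_smul_mem [Module.Flat A M] (J I : Ideal A) (a : A)
    (hcol : ∀ r : A, r * a ∈ J → r ∈ I) (x : M) (h : a • x ∈ J • (⊤ : Submodule A M)) :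
    x ∈ I • (⊤ : Submodule A M) := by
  classical
  have h' : a • x ∈ J • Submodule.span A (Set.range (id : M → M)) := by
    rw [Set.range_id, Submodule.span_univ]; exact h
  obtain ⟨c, hc, hsum⟩ := (Submodule.mem_ideal_smul_span_iff_exists_sum J (id : M → M) (a • x)).mp h'
  -- relation indexed by `Option c.support`
  let f : Option c.support → A := fun i => Option.elim i a (fun z => - c z.1)
  let y : Option c.support → M := fun i => Option.elim i x (fun z => z.1)
  have hrel : ∑ i, f i • y i = 0 := by
    rw [Fintype.sum_option]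
    simp only [f, y, Option.elim_none, Option.elim_some, neg_smul, Finset.sum_neg_distrib]
    rw [← hsum, Finsupp.sum, ← Finset.sum_coe_sort c.support (fun z => c z • id z)]
    simp
  obtain ⟨k, b, w, hy, hb⟩ := Module.Flat.isTrivialRelation_of_sum_smul_eq_zero hrel
  have hx : x = ∑ j, b none j • w j := hy none
  rw [hx]
  refine Submodule.sum_mem _ fun j _ => ?_
  refine Submodule.smul_mem_smul ?_ Submodule.mem_top
  apply hcol
  have hj := hb j
  rw [Fintype.sum_option] at hj
  simp only [f, Option.elim_none, Option.elim_some, neg_mul, Finset.sum_neg_distrib] at hj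
  have : b none j * a = ∑ z : c.support, c z.1 * b (some z) j := by
    rw [mul_comm]; linear_combination hj
  rw [this]
  exact J.sum_mem fun z _ => J.mul_mem_right _ (hc z.1)

end FlatColon

section Loc

variable {B : Type*} [CommRing B] (q : Ideal B) [q.IsPrime]

/-- If `b/1 ∈ I B_q` then `s b ∈ I` for some `s ∉ q`. -/
theorem exists_mul_mem_of_algebraMap_mem_map (I : Ideal B) (b : B)
    (h : algebraMap B (Localization.AtPrime q) b ∈ I.map (algebraMap B (Localization.AtPrime q))) :
    ∃ s : B, s ∉ q ∧ s * b ∈ I := by
  rw [IsLocalization.mem_map_algebraMap_iff q.primeCompl] at h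
  obtain ⟨⟨i, s⟩, hx⟩ := h
  rw [← map_mul, IsLocalization.eq_iff_exists q.primeCompl] at hx
  obtain ⟨s', hs'⟩ := hx
  refine ⟨s' * s, ?_, ?_⟩
  · exact (s' * s).2
  · have : (s' : B) * (s : B) * b = s' * (b * s) := by ring
    rw [this, hs']
    exact I.mul_mem_left _ i.2

end Loc

section Small

variable {A : Type u} [CommRing A] [IsLocalRing A] [IsArtinianRing A]
variable {B : Type u} [CommRing B] [Algebra A B] (q : Ideal B) [q.IsPrime]

omit [IsArtinianRing A] in
theorem map_map_algebraMap (J : Ideal A) :
    (J.map (algebraMap A B)).map (algebraMap B (Localization.AtPrime q)) =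
      J.map (algebraMap A (Localization.AtPrime q)) := by
  rw [Ideal.map_map, ← IsScalarTower.algebraMap_eq]

theorem comap_eq_maximalIdeal : q.comap (algebraMap A B) = maximalIdeal A := by
  have hprime : (q.comap (algebraMap A B)).IsPrime := Ideal.IsPrime.comap _
  have hmax : (q.comap (algebraMap A B)).IsMaximal := IsArtinianRing.isMaximal_of_isPrime _
  exact IsLocalRing.eq_maximalIdeal hmax

/-- Reduced fibre local ring at `q`: nilpotents of `B` lie in `𝔪 B` locally at `q`. -/
theorem exists_mul_mem_of_isReduced_fibLocRing (hred : IsReduced (EGA4.FibLocRing A B q)) (b : B)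
    (hb : b ∈ nilradical B) :
    ∃ s : B, s ∉ q ∧ s * b ∈ (maximalIdeal A).map (algebraMap A B) := by
  apply exists_mul_mem_of_algebraMap_mem_map q
  rw [map_map_algebraMap, ← comap_eq_maximalIdeal q]
  have hnil : IsNilpotent (Ideal.Quotient.mk ((q.comap (algebraMap A B)).map
      (algebraMap A (Localization.AtPrime q))) (algebraMap B (Localization.AtPrime q) b)) :=
    ((mem_nilradical.mp hb).map _).map _
  have := hred.eq_zero _ hnil
  exact Ideal.Quotient.eq_zero_iff_mem.mp this

/-- Flatness of `B_q` over `A`: `(J B : a) ⊆ 𝔪 B` locally at `q` when `(J : a) = 𝔪`. -/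
theorem exists_mul_mem_of_flat (hflat : Module.Flat A (Localization.AtPrime q)) (J : Ideal A) (a : A)
    (ha : a ∉ J) (c : B) (hc : algebraMap A B a * c ∈ J.map (algebraMap A B)) :
    ∃ s : B, s ∉ q ∧ s * c ∈ (maximalIdeal A).map (algebraMap A B) := by
  apply exists_mul_mem_of_algebraMap_mem_map q
  rw [map_map_algebraMap]
  have hcol : ∀ r : A, r * a ∈ J → r ∈ maximalIdeal A := by
    intro r hr
    by_contra hrm
    have hu : IsUnit r := by
      by_contra hnu
      exact hrm ((mem_maximalIdeal r).mpr hnu)
    obtain ⟨u, rfl⟩ := hu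
    apply ha
    have : a = (↑u⁻¹ : A) * (↑u * a) := by
      rw [← mul_assoc, Units.inv_mul, one_mul]
    rw [this]
    exact J.mul_mem_left _ hr
  have h1 : a • (algebraMap B (Localization.AtPrime q) c) ∈
      J • (⊤ : Submodule A (Localization.AtPrime q)) := by
    rw [Ideal.smul_top_eq_map]
    change a • (algebraMap B (Localization.AtPrime q) c) ∈
      J.map (algebraMap A (Localization.AtPrime q))
    rw [← map_map_algebraMap q J]
    have : a • (algebraMap B (Localization.AtPrime q) c) =
        algebraMap B (Localization.AtPrime q) (algebraMap A B a * c) := by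
      rw [map_mul, ← IsScalarTower.algebraMap_apply, Algebra.smul_def]
    rw [this]
    exact Ideal.mem_map_of_mem _ hc
  have h2 := mem_smul_top_of_flat_of_smul_mem J (maximalIdeal A) a hcol _ h1
  rw [Ideal.smul_top_eq_map] at h2
  exact h2

end Small

end Groth.Agent.Lib.Helper49.Kollar
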