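import Groth.Prelude.Def_FlatCA
import Mathlib.Algebra.Module.LocalizedModule.Basic
import Mathlib.RingTheory.Localization.Basic
import Mathlib.RingTheory.Flat.Basic
import Mathlib.RingTheory.Flat.TorsionFree
import Mathlib.RingTheory.Ideal.MinimalPrime.Localization

/-!
Annihilators of elements of a localized module `T⁻¹N`, when `T` acts injectively on `N`.
-/

set_option autoImplicit false
universe u

namespace Groth.Agent.Lib.Helper49

variable {S : Type u} [CommRing S] (T : Submonoid S) {N : Type u} [AddCommGroup N] [Module S N]

/-- If `T` acts injectively on `N`, then `Ann_S (n/t) = Ann_S n`. -/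
theorem annihilator_span_mk_eq (hT : ∀ t ∈ T, ∀ n : N, t • n = 0 → n = 0) (n : N) (t : T) :
    (Submodule.span S {LocalizedModule.mk n t}).annihilator = (Submodule.span S {n}).annihilator := by
  ext s
  rw [Submodule.mem_annihilator_span_singleton, Submodule.mem_annihilator_span_singleton,
    LocalizedModule.smul'_mk, ← LocalizedModule.zero_mk (1 : T), LocalizedModule.mk_eq]
  constructor
  · rintro ⟨u, hu⟩
    simp only [smul_zero, one_smul] at hu
    exact hT u.1 u.2 _ hu
  · intro h
    exact ⟨1, by simp [h]⟩

/-- `Ann_{T⁻¹S}(x) ∩ S = Ann_S(x)` for `x ∈ T⁻¹N`. -/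
theorem comap_annihilator_span_eq (x : LocalizedModule T N) :
    Ideal.comap (algebraMap S (Localization T))
      (Submodule.span (Localization T) {x}).annihilator = (Submodule.span S {x}).annihilator := by
  ext s
  rw [Ideal.mem_comap, Submodule.mem_annihilator_span_singleton,
    Submodule.mem_annihilator_span_singleton, algebraMap_smul]

/-- Torsion-freeness coming from flatness over a domain. -/
theorem smul_eq_zero_of_mem_algebraMapSubmonoid {R : Type u} [CommRing R] [IsDomain R]
    [Algebra R S] [Module R N] [IsScalarTower R S N] [Module.Flat R N] :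
    ∀ t ∈ Algebra.algebraMapSubmonoid S (nonZeroDivisors R), ∀ n : N, t • n = 0 → n = 0 := by
  rintro _ ⟨r, hr, rfl⟩ n hn
  rw [algebraMap_smul] at hn
  have h1 : IsSMulRegular N r :=
    Module.IsTorsionFree.isSMulRegular (isRegular_iff_ne_zero.mpr (nonZeroDivisors.ne_zero hr))
  exact h1.right_eq_zero_of_smul hn

end Groth.Agent.Lib.Helper49
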