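import Mathlib
import Groth.Agent.Lib.Helper49.HomLoc
import Groth.Agent.Lib.Helper63.CompletionNoeth

/-!
# The map `A_{1+J} → Â` (helper49)
-/

set_option autoImplicit false
set_option linter.style.haveILetI false
set_option linter.unusedSectionVars false
universe u

namespace Groth.Agent.Lib.Helper49.ComplLoc

variable (A : Type u) [CommRing A] [IsNoetherianRing A] (J : Ideal A)

/-- The multiplicative set `1 + J`. -/
abbrev T1 : Submonoid A := MonoidHom.mker (Ideal.Quotient.mk J)

theorem mem_T1_iff (t : A) : t ∈ T1 A J ↔ t - 1 ∈ J := by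
  rw [MonoidHom.mem_mker]
  change Ideal.Quotient.mk J t = 1 ↔ _
  rw [← map_one (Ideal.Quotient.mk J), Ideal.Quotient.eq]

/-- Elements of `1 + J` become units in the completion. -/
theorem isUnit_algebraMap_of_mem (t : A) (ht : t ∈ T1 A J) :
    IsUnit (algebraMap A (AdicCompletion J A) t) := by
  haveI := AdicCompletion.isAdicComplete_self J (IsNoetherian.noetherian J)
  have hle := IsAdicComplete.le_jacobson_bot (J.map (algebraMap A (AdicCompletion J A)))
  have h1 : algebraMap A (AdicCompletion J A) (t - 1) ∈ (⊥ : Ideal (AdicCompletion J A)).jacobson :=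
    hle (Ideal.mem_map_of_mem _ ((mem_T1_iff A J t).1 ht))
  have h2 := (Ideal.mem_jacobson_bot.1 h1) 1
  rw [mul_one, map_sub, map_one, sub_add_cancel] at h2
  exact h2

noncomputable instance algLoc : Algebra (Localization (T1 A J)) (AdicCompletion J A) :=
  (IsLocalization.lift (M := T1 A J) (g := algebraMap A (AdicCompletion J A))
    (fun t => isUnit_algebraMap_of_mem A J t t.2)).toAlgebra

instance towerLoc : IsScalarTower A (Localization (T1 A J)) (AdicCompletion J A) :=
  IsScalarTower.of_algebraMap_eq fun x => by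
    rw [RingHom.algebraMap_toAlgebra, IsLocalization.lift_eq]

instance flatLoc : Module.Flat (Localization (T1 A J)) (AdicCompletion J A) :=
  (Module.flat_iff_of_isLocalization (Localization (T1 A J)) (T1 A J) (AdicCompletion J A)).2
    inferInstance

/-- A prime of `A` which is maximal among those disjoint from `1 + J` is a maximal ideal
containing `J`. -/
theorem exists_maximal_of_disjoint (m : Ideal A) [m.IsPrime]
    (hm : Disjoint (T1 A J : Set A) (m : Set A)) :
    ∃ M : Ideal A, M.IsMaximal ∧ m ≤ M ∧ J ≤ M ∧ Disjoint (T1 A J : Set A) (M : Set A) := by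
  have hne : m ⊔ J ≠ ⊤ := by
    intro h
    obtain ⟨x, hx, j, hj, hxj⟩ := Submodule.mem_sup.1 (h ▸ Submodule.mem_top : (1 : A) ∈ m ⊔ J)
    have hxT : x ∈ T1 A J := by
      rw [mem_T1_iff]
      have : x - 1 = -j := by rw [← hxj]; ring
      rw [this]
      exact J.neg_mem hj
    exact Set.disjoint_left.1 hm hxT hx
  obtain ⟨M, hM, hle⟩ := Ideal.exists_le_maximal _ hne
  refine ⟨M, hM, le_sup_left.trans hle, le_sup_right.trans hle, ?_⟩
  rw [Set.disjoint_left]
  intro t ht htM
  have h1 : t - 1 ∈ M := (le_sup_right.trans hle) ((mem_T1_iff A J t).1 ht)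
  have : (1 : A) ∈ M := by
    have := M.sub_mem htM h1
    rwa [sub_sub_cancel] at this
  exact hM.ne_top ((Ideal.eq_top_iff_one M).2 this)

/-- `Â` is faithfully flat over `A_{1+J}`. -/
instance faithfullyFlatLoc : Module.FaithfullyFlat (Localization (T1 A J)) (AdicCompletion J A) := by
  refine ⟨fun m' hm' => ?_⟩
  set m : Ideal A := m'.comap (algebraMap A (Localization (T1 A J))) with hm
  haveI : m.IsPrime := Ideal.comap_isPrime _ _
  have hdisj : Disjoint (T1 A J : Set A) (m : Set A) :=
    ((IsLocalization.isPrime_iff_isPrime_disjoint (T1 A J) (Localization (T1 A J)) m').1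
      hm'.isPrime).2
  obtain ⟨M, hM, hmM, hJM, hMd⟩ := exists_maximal_of_disjoint A J m hdisj
  have hmap : m' = m.map (algebraMap A (Localization (T1 A J))) :=
    (IsLocalization.map_under (T1 A J) (Localization (T1 A J)) m').symm
  have hM' : (M.map (algebraMap A (Localization (T1 A J)))) ≠ ⊤ := by
    have := IsLocalization.isPrime_of_isPrime_disjoint (T1 A J) (Localization (T1 A J)) M
      hM.isPrime hMd
    exact this.ne_top
  have hle : m' ≤ M.map (algebraMap A (Localization (T1 A J))) := by
    rw [hmap]
    exact Ideal.map_mono hmM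
  have heq : m' = M.map (algebraMap A (Localization (T1 A J))) := hm'.eq_of_le hM' hle
  have hmax := AdicCompletion.isMaximal_map_of_le J M hJM (IsNoetherian.noetherian J)
  have h2 : m'.map (algebraMap (Localization (T1 A J)) (AdicCompletion J A)) =
      M.map (algebraMap A (AdicCompletion J A)) := by
    rw [heq, Ideal.map_map, ← IsScalarTower.algebraMap_eq]
  rw [Ideal.smul_top_eq_map, h2]
  intro htop
  exact hmax.ne_top ((Submodule.restrictScalars_eq_top_iff _ _ _).1 htop)

end Groth.Agent.Lib.Helper49.ComplLoc
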