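import Mathlib

/-!
# Local rings with principal maximal ideal generated by a regular element (helper49; for S12529)
-/

set_option autoImplicit false
set_option linter.style.haveILetI false
set_option linter.unusedSectionVars false
universe u

open IsLocalRing

namespace Groth.Agent.Lib.Helper49.DVRBranch

/-- A Noetherian local ring whose maximal ideal is generated by an element which is zero or a
nonzerodivisor is a domain. -/
theorem isDomain_of_maximalIdeal_eq_span (C : Type*) [CommRing C] [IsNoetherianRing C]
    [IsLocalRing C] (π : C) (hπ : maximalIdeal C = Ideal.span {π})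
    (hreg : π = 0 ∨ π ∈ nonZeroDivisors C) : IsDomain C := by
  rcases hreg with h0 | hnzd
  · subst h0
    have hbot : maximalIdeal C = ⊥ := by rw [hπ]; simp
    exact (IsLocalRing.isField_iff_maximalIdeal_eq.mpr hbot).isDomain
  · have hpow : ∀ n : ℕ, maximalIdeal C ^ n = Ideal.span {π ^ n} := by
      intro n
      rw [hπ, Ideal.span_singleton_pow]
    have hkrull : ⨅ n : ℕ, maximalIdeal C ^ n = ⊥ :=
      Ideal.iInf_pow_eq_bot_of_isLocalRing _ (Ideal.IsPrime.ne_top inferInstance)
    -- every nonzero element is a unit times a power of π
    have hrep : ∀ x : C, x ≠ 0 → ∃ (n : ℕ) (u : C), IsUnit u ∧ x = u * π ^ n := by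
      intro x hx
      have hex : ∃ n : ℕ, x ∉ maximalIdeal C ^ n := by
        by_contra hcon
        push Not at hcon
        have : x ∈ ⨅ n : ℕ, maximalIdeal C ^ n := by
          rw [Ideal.mem_iInf]; exact hcon
        rw [hkrull] at this
        exact hx this
      classical
      let n := Nat.find hex
      have hn : x ∉ maximalIdeal C ^ n := Nat.find_spec hex
      have hn0 : n ≠ 0 := by
        intro h0
        rw [h0, pow_zero, Ideal.one_eq_top] at hn
        exact hn trivial
      obtain ⟨k, hk⟩ := Nat.exists_eq_succ_of_ne_zero hn0
      have hk' : x ∈ maximalIdeal C ^ k := by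
        by_contra hcon
        have := Nat.find_min' hex hcon
        omega
      rw [hpow, Ideal.mem_span_singleton'] at hk'
      obtain ⟨u, hu⟩ := hk'
      refine ⟨k, u, ?_, hu.symm⟩
      by_contra hnu
      have hum : u ∈ maximalIdeal C := (mem_maximalIdeal u).mpr hnu
      rw [hπ, Ideal.mem_span_singleton'] at hum
      obtain ⟨v, hv⟩ := hum
      apply hn
      rw [hk, hpow, Ideal.mem_span_singleton']
      exact ⟨v, by rw [← hu, ← hv, pow_succ]; ring⟩
    haveI : NoZeroDivisors C := by
      refine ⟨fun {x y} hxy => ?_⟩
      by_contra hcon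
      push Not at hcon
      obtain ⟨n, u, hu, rfl⟩ := hrep x hcon.1
      obtain ⟨k, v, hv, rfl⟩ := hrep y hcon.2
      have h1 : (u * v) * π ^ (n + k) = 0 := by
        rw [← hxy, pow_add]; ring
      have h2 : π ^ (n + k) = 0 := by
        have := (hu.mul hv).mul_right_eq_zero.mp h1
        exact this
      have h3 : π ^ (n + k) ∈ nonZeroDivisors C := pow_mem hnzd _
      have h4 : (1 : C) = 0 := by
        apply (mem_nonZeroDivisors_iff_right.mp h3) 1
        rw [one_mul, h2]
      exact one_ne_zero h4
    exact NoZeroDivisors.to_isDomain C

section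

variable (D B : Type u) [CommRing D] [CommRing B] [Algebra D B] [Module.Flat D B]
  [IsNoetherianRing D] [IsNoetherianRing B]

theorem isDomain_atPrime_of_principal (m' : Ideal D) [m'.IsPrime] (M : Ideal B) [M.IsPrime]
    [M.LiesOver m'] (hM : M = m'.map (algebraMap D B))
    (hdom : IsDomain (Localization.AtPrime m'))
    (hprin : (maximalIdeal (Localization.AtPrime m')).IsPrincipal) :
    IsDomain (Localization.AtPrime M) := by
  haveI := hdom
  letI := Localization.AtPrime.algebraOfLiesOver m' M
  haveI hflat : Module.Flat (Localization.AtPrime m') (Localization.AtPrime M) :=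
    RingHom.Flat.localRingHom (f := algebraMap D B) (RingHom.flat_algebraMap_iff.mpr inferInstance)
      M m' Ideal.LiesOver.over
  obtain ⟨π₀, hπ₀⟩ := hprin
  have hπ₀' : maximalIdeal (Localization.AtPrime m') = Ideal.span {π₀} := hπ₀
  have hsq : (algebraMap (Localization.AtPrime m') (Localization.AtPrime M)).comp
      (algebraMap D (Localization.AtPrime m')) =
      (algebraMap B (Localization.AtPrime M)).comp (algebraMap D B) := by
    ext x
    simp only [RingHom.comp_apply]
    rw [RingHom.algebraMap_toAlgebra, Localization.localRingHom_to_map]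
  have hmax : maximalIdeal (Localization.AtPrime M) =
      Ideal.span {algebraMap (Localization.AtPrime m') (Localization.AtPrime M) π₀} := by
    have hM' : Ideal.map (algebraMap B (Localization.AtPrime M)) M =
        Ideal.map (algebraMap B (Localization.AtPrime M)) (m'.map (algebraMap D B)) :=
      congrArg _ hM
    rw [← Localization.AtPrime.map_eq_maximalIdeal (I := M), hM', Ideal.map_map, ← hsq,
      ← Ideal.map_map, Localization.AtPrime.map_eq_maximalIdeal, hπ₀', Ideal.map_span,
      Set.image_singleton]
  apply isDomain_of_maximalIdeal_eq_span _ _ hmax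
  by_cases h0 : π₀ = 0
  · left; rw [h0, map_zero]
  · right
    have h1 : IsSMulRegular (Localization.AtPrime m') π₀ := by
      rw [isSMulRegular_iff_right_eq_zero_of_smul]
      intro x hx
      rcases mul_eq_zero.mp hx with h | h
      · exact absurd h h0
      · exact h
    have h2 : IsSMulRegular (Localization.AtPrime M)
        (algebraMap (Localization.AtPrime m') (Localization.AtPrime M) π₀) := h1.of_flat
    rw [mem_nonZeroDivisors_iff_right]
    intro x hx
    rw [isSMulRegular_iff_right_eq_zero_of_smul] at h2
    exact h2 x (by rwa [smul_eq_mul, mul_comm])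

end

end Groth.Agent.Lib.Helper49.DVRBranch
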