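import Mathlib
import Groth.Agent.S2536

/-!
# Flat maps with geometrically reduced fibres preserve reducedness (helper49)

`B` Noetherian, `C` a flat `B`-algebra whose fibres `κ(q) ⊗ C` are geometrically reduced, `D` a
reduced `B`-algebra: then `C ⊗[B] D` is reduced (EGA IV 6.15.x-type statement, no finiteness on `D`).

Namespace `Groth.Agent.Lib.Helper49.GeomRedFlat`.
-/

set_option autoImplicit false
universe u

open TensorProduct

namespace Groth.Agent.Lib.Helper49.GeomRedFlat

/-- A product of reduced rings is reduced. -/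
theorem isReduced_pi {ι : Type*} (X : ι → Type*) [∀ i, MonoidWithZero (X i)]
    [∀ i, IsReduced (X i)] : IsReduced (∀ i, X i) := by
  refine ⟨fun x hx => ?_⟩
  obtain ⟨n, hn⟩ := hx
  funext i
  have : IsNilpotent (x i) := ⟨n, by rw [← Pi.pow_apply, hn]; rfl⟩
  exact this.eq_zero

section

variable (B : Type u) [CommRing B] (C : Type u) [CommRing C] [Algebra B C] [Module.Flat B C]
  (hfib : ∀ (q : Ideal B) [q.IsPrime], Algebra.IsGeometricallyReduced q.ResidueField (q.Fiber C))

include hfib in
/-- `C ⊗[B] κ(Q)` is reduced for a prime `Q` of a `B`-algebra `D`. -/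
theorem isReduced_tensor_residueField (D : Type u) [CommRing D] [Algebra B D] (Q : Ideal D)
    [Q.IsPrime] : IsReduced (C ⊗[B] Q.ResidueField) := by
  let q : Ideal B := Q.under B
  have hq : q.IsPrime := inferInstance
  have hgr := hfib q
  let φ : q.ResidueField →+* Q.ResidueField :=
    Ideal.ResidueField.map q Q (algebraMap B D) rfl
  letI : Algebra q.ResidueField Q.ResidueField := φ.toAlgebra
  have htower : IsScalarTower B q.ResidueField Q.ResidueField := by
    refine IsScalarTower.of_algebraMap_eq fun b => ?_
    change _ = φ (algebraMap B q.ResidueField b)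
    rw [Ideal.ResidueField.map_algebraMap]
    exact IsScalarTower.algebraMap_apply B D Q.ResidueField b
  have h1 : IsReduced (Q.ResidueField ⊗[q.ResidueField] (q.Fiber C)) :=
    Groth.Agent.S2536.isReduced_tensorProduct_field q.ResidueField (q.Fiber C) Q.ResidueField
  let e1 : Q.ResidueField ⊗[q.ResidueField] (q.ResidueField ⊗[B] C) ≃ₐ[Q.ResidueField]
      Q.ResidueField ⊗[B] C :=
    Algebra.TensorProduct.cancelBaseChange B q.ResidueField Q.ResidueField Q.ResidueField C
  let e2 : Q.ResidueField ⊗[B] C ≃ₐ[B] C ⊗[B] Q.ResidueField :=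
    Algebra.TensorProduct.comm B Q.ResidueField C
  exact isReduced_of_injective ((e1.symm.toRingEquiv.toRingHom).comp e2.symm.toRingEquiv.toRingHom)
    ((e1.symm.injective).comp e2.symm.injective)

include hfib in
/-- `C ⊗[B] D` is reduced for a Noetherian reduced `B`-algebra `D`. -/
theorem isReduced_tensor_of_noetherian (D : Type u) [CommRing D] [Algebra B D]
    [IsNoetherianRing D] [IsReduced D] : IsReduced (C ⊗[B] D) := by
  classical
  have hfin : (minimalPrimes D).Finite := minimalPrimes.finite_of_isNoetherianRing D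
  let ι := {Q : PrimeSpectrum D // Q.asIdeal ∈ minimalPrimes D}
  have hfinι : Finite ι := by
    have : Finite (minimalPrimes D) := hfin
    refine Finite.of_injective (fun Q : ι => (⟨Q.1.asIdeal, Q.2⟩ : minimalPrimes D)) ?_
    intro Q Q' h
    apply Subtype.ext
    apply PrimeSpectrum.ext
    exact congrArg Subtype.val h
  have : Fintype ι := Fintype.ofFinite ι
  let X : ι → Type u := fun Q => Q.1.asIdeal.ResidueField
  let φ : D →ₐ[B] (∀ Q : ι, X Q) :=
    AlgHom.pi (fun Q => IsScalarTower.toAlgHom B D Q.1.asIdeal.ResidueField)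
  have hφ : Function.Injective φ := by
    rw [injective_iff_map_eq_zero]
    intro x hx
    have hmem : ∀ Q ∈ minimalPrimes D, x ∈ Q := by
      intro Q hQ
      have hQprime : Q.IsPrime := hQ.1.1
      have := congrFun hx (⟨⟨Q, hQprime⟩, hQ⟩ : ι)
      exact Ideal.algebraMap_residueField_eq_zero.mp this
    have h2 : x ∈ sInf (minimalPrimes D) := by
      rw [Submodule.mem_sInf]; exact hmem
    have h3 : sInf (minimalPrimes D) = (⊥ : Ideal D) := by
      unfold minimalPrimes
      rw [Ideal.sInf_minimalPrimes]
      exact nilradical_eq_zero D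
    rw [h3] at h2
    exact h2
  have h1 : Function.Injective (Algebra.TensorProduct.map (AlgHom.id B C) φ) :=
    Module.Flat.lTensor_preserves_injective_linearMap (M := C) φ.toLinearMap hφ
  let e : C ⊗[B] (∀ Q, X Q) ≃ₐ[B] ∀ Q, C ⊗[B] X Q := Algebra.TensorProduct.piRight B B C X
  have hred : ∀ Q : ι, IsReduced (C ⊗[B] X Q) :=
    fun Q => isReduced_tensor_residueField B C hfib D Q.1.asIdeal
  have hpi : IsReduced (∀ Q : ι, C ⊗[B] X Q) := isReduced_pi _
  exact isReduced_of_injective
    ((e.toAlgHom.comp (Algebra.TensorProduct.map (AlgHom.id B C) φ)).toRingHom)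
    (e.injective.comp h1)

include hfib in
/-- **Reducedness ascends along flat maps with geometrically reduced fibres**: `C ⊗[B] D` is
reduced for every reduced `B`-algebra `D` (`B` Noetherian). -/
theorem isReduced_tensor [IsNoetherianRing B] (D : Type u) [CommRing D] [Algebra B D]
    [IsReduced D] : IsReduced (C ⊗[B] D) := by
  apply IsReduced.tensorProduct_of_flat_of_forall_fg
  intro D' hD'
  have hft : Algebra.FiniteType B D' := ⟨(Subalgebra.fg_top D').mpr hD'⟩
  have hN : IsNoetherianRing D' := Algebra.FiniteType.isNoetherianRing B D'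
  have hR : IsReduced D' := isReduced_of_injective D'.val Subtype.val_injective
  exact isReduced_tensor_of_noetherian B C hfib D'

end

end Groth.Agent.Lib.Helper49.GeomRedFlat
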