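import Mathlib

/-!
# Direct limits (general `DirectLimit`): flatness and commutation with tensor products (helper49)
-/

set_option autoImplicit false
set_option linter.style.haveILetI false
set_option linter.unusedSectionVars false
universe u

namespace Groth.Agent.Lib.Helper49.DirLim

open TensorProduct

section Flat

variable {R : Type*} [CommRing R] {ι : Type*} [Preorder ι] [IsDirectedOrder ι] [Nonempty ι]
  {G : ι → Type*} [∀ i, AddCommGroup (G i)] [∀ i, Module R (G i)]
  {T : ∀ ⦃i j : ι⦄, i ≤ j → Type*} {f : ∀ i j (h : i ≤ j), T h}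
  [∀ i j (h : i ≤ j), FunLike (T h) (G i) (G j)] [∀ i j (h : i ≤ j), LinearMapClass (T h) R (G i) (G j)]
  [DirectedSystem G (f · · ·)]

theorem of_eq_zero_iff (i : ι) (x : G i) :
    DirectLimit.Module.of R ι G f i x = 0 ↔ ∃ (j : ι) (h : i ≤ j), f i j h x = 0 := by
  change (⟦⟨i, x⟩⟧ : DirectLimit G f) = 0 ↔ _
  rw [DirectLimit.zero_def i]
  constructor
  · intro h
    obtain ⟨j, h1, h2, h3⟩ := Quotient.exact h
    refine ⟨j, h1, ?_⟩
    simp only at h3
    rw [h3, map_zero]
  · rintro ⟨j, h, hx⟩
    refine Quotient.sound ⟨j, h, h, ?_⟩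
    simp only
    rw [hx, map_zero]

/-- A direct limit of flat modules is flat. -/
theorem flat_directLimit (hflat : ∀ i, Module.Flat R (G i)) : Module.Flat R (DirectLimit G f) := by
  classical
  refine Module.Flat.of_forall_isTrivialRelation ?_
  intro l c x hx
  choose jx yx hyx using fun k => DirectLimit.exists_eq_mk f (x k)
  obtain ⟨j, hj⟩ := Finite.exists_le jx
  let y : Fin l → G j := fun k => f (jx k) j (hj k) (yx k)
  have hy : ∀ k, x k = DirectLimit.Module.of R ι G f j (y k) := fun k => by
    rw [hyx k]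
    exact DirectLimit.eq_of_le _ j (hj k)
  have h0 : DirectLimit.Module.of R ι G f j (∑ k, c k • y k) = 0 := by
    rw [map_sum]
    simp only [map_smul, ← hy]
    exact hx
  obtain ⟨j', hjj', hz⟩ := (of_eq_zero_iff j _).1 h0
  rw [map_sum] at hz
  simp only [map_smul] at hz
  obtain ⟨m, z, w, h1, h2⟩ := Module.Flat.isTrivialRelation_of_sum_smul_eq_zero (R := R)
    (M := G j') (f := c) (x := fun k => f j j' hjj' (y k)) hz
  refine ⟨m, z, fun t => DirectLimit.Module.of R ι G f j' (w t), fun k => ?_, h2⟩
  have h1k : f j j' hjj' (y k) = ∑ t, z k t • w t := h1 k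
  rw [hy k, ← DirectLimit.Module.of_f (hij := hjj'), h1k, map_sum]
  simp only [map_smul]

end Flat


section Tensor

variable (R : Type u) [CommRing R] {ι : Type u} [Preorder ι] [IsDirectedOrder ι] [Nonempty ι]
  (G : ι → Type u) [∀ i, CommRing (G i)] [∀ i, Algebra R (G i)]
  (f : ∀ i j : ι, i ≤ j → (G i →ₐ[R] G j)) [DirectedSystem G (fun i j h => f i j h)]
  (L : Type u) [CommRing L] [Algebra R L]

/-- The transition maps of the system `L ⊗ G i`. -/
noncomputable def tf (i j : ι) (h : i ≤ j) : L ⊗[R] G i →+* L ⊗[R] G j :=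
  (Algebra.TensorProduct.map (AlgHom.id R L) (f i j h)).toRingHom

theorem tf_tmul (i j : ι) (h : i ≤ j) (l : L) (y : G i) :
    tf R G f L i j h (l ⊗ₜ y) = l ⊗ₜ f i j h y := by
  simp [tf]

instance directedSystem_tf :
    DirectedSystem (fun i => L ⊗[R] G i) (fun i j h => tf R G f L i j h) where
  map_self i x := by
    induction x using TensorProduct.induction_on with
    | zero => simp
    | tmul l y =>
      rw [tf_tmul, DirectedSystem.map_self' (f := f)]
    | add a b ha hb => rw [map_add, ha, hb]
  map_map k j i hij hjk x := by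
    induction x using TensorProduct.induction_on with
    | zero => simp
    | tmul l y =>
      rw [tf_tmul, tf_tmul, tf_tmul, DirectedSystem.map_map' (f := f)]
    | add a b ha hb => rw [map_add, map_add, map_add, ha, hb]

/-- The canonical algebra map of a stage into the direct limit. -/
noncomputable def ofAlg (i : ι) : G i →ₐ[R] DirectLimit G f :=
  { DirectLimit.Ring.of G f i with
    commutes' := fun r => (DirectLimit.algebraMap_def (f := f) i r).symm }

theorem ofAlg_apply (i : ι) (y : G i) : ofAlg R G f i y = (⟦⟨i, y⟩⟧ : DirectLimit G f) := rfl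

theorem ofAlg_f (i j : ι) (h : i ≤ j) (y : G i) : ofAlg R G f j (f i j h y) = ofAlg R G f i y :=
  DirectLimit.Ring.of_f h y

/-- Abbreviation for the direct limit of the `L ⊗ G i`. -/
abbrev TL : Type u := Ring.DirectLimit (fun i => L ⊗[R] G i) (fun i j h => tf R G f L i j h)

/-- The comparison map `colim (L ⊗ G i) → L ⊗ colim G i`. -/
noncomputable def toTensor : TL R G f L →+* L ⊗[R] DirectLimit G f :=
  Ring.DirectLimit.lift (fun i => L ⊗[R] G i) (fun i j h => tf R G f L i j h) _
    (fun i => (Algebra.TensorProduct.map (AlgHom.id R L) (ofAlg R G f i)).toRingHom)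
    (by
      intro i j hij x
      induction x using TensorProduct.induction_on with
      | zero => simp
      | tmul l y =>
        rw [tf_tmul]
        simp [ofAlg_f]
      | add a b ha hb => rw [map_add, map_add, map_add, ha, hb])

theorem toTensor_of_tmul (i : ι) (l : L) (y : G i) :
    toTensor R G f L (Ring.DirectLimit.of _ _ i (l ⊗ₜ y)) = l ⊗ₜ ofAlg R G f i y := by
  rw [toTensor, Ring.DirectLimit.lift_of]
  simp

/-- `l ↦ [l ⊗ 1]`, independent of the stage. -/
theorem of_tmul_one (i j : ι) (l : L) :
    Ring.DirectLimit.of (fun i => L ⊗[R] G i) (fun i j h => tf R G f L i j h) i (l ⊗ₜ 1) =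
      Ring.DirectLimit.of (fun i => L ⊗[R] G i) (fun i j h => tf R G f L i j h) j (l ⊗ₜ 1) := by
  obtain ⟨k, hik, hjk⟩ := exists_ge_ge i j
  rw [← Ring.DirectLimit.of_f hik, ← Ring.DirectLimit.of_f hjk, tf_tmul, tf_tmul, map_one, map_one]

/-- The ring map `colim G i → colim (L ⊗ G i)`. -/
noncomputable def g₀ : DirectLimit G f →+* TL R G f L :=
  DirectLimit.Ring.lift G f (TL R G f L)
    (fun i => (Ring.DirectLimit.of (fun i => L ⊗[R] G i) (fun i j h => tf R G f L i j h) i).comp
      (Algebra.TensorProduct.includeRight (R := R) (A := L) (B := G i)).toRingHom)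
    (by
      intro i j hij x
      simp only [RingHom.comp_apply, AlgHom.toRingHom_eq_coe, RingHom.coe_coe,
        Algebra.TensorProduct.includeRight_apply]
      rw [← Ring.DirectLimit.of_f hij, tf_tmul])

theorem g₀_mk (i : ι) (y : G i) :
    g₀ R G f L (⟦⟨i, y⟩⟧ : DirectLimit G f) =
      Ring.DirectLimit.of (fun i => L ⊗[R] G i) (fun i j h => tf R G f L i j h) i (1 ⊗ₜ y) := rfl

/-- `l ↦ [l ⊗ 1]` as a ring map. -/
noncomputable def a₀ : L →+* TL R G f L :=
  (Ring.DirectLimit.of (fun i => L ⊗[R] G i) (fun i j h => tf R G f L i j h)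
    (Classical.arbitrary ι)).comp
    (Algebra.TensorProduct.includeLeftRingHom (R := R) (A := L) (B := G (Classical.arbitrary ι)))

theorem a₀_apply (i : ι) (l : L) :
    a₀ R G f L l =
      Ring.DirectLimit.of (fun i => L ⊗[R] G i) (fun i j h => tf R G f L i j h) i (l ⊗ₜ 1) :=
  of_tmul_one R G f L _ i l

/-- The biadditive map `(l, x) ↦ [l ⊗ 1] * g₀ x`. -/
noncomputable def bil : L →+ DirectLimit G f →+ TL R G f L :=
  ((AddMonoidHom.mul : TL R G f L →+ TL R G f L →+ TL R G f L).comp
    (a₀ R G f L).toAddMonoidHom).compl₂ (g₀ R G f L).toAddMonoidHom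

theorem bil_apply (l : L) (x : DirectLimit G f) :
    bil R G f L l x = a₀ R G f L l * g₀ R G f L x := rfl

theorem bil_mk (l : L) (i : ι) (y : G i) :
    bil R G f L l (⟦⟨i, y⟩⟧ : DirectLimit G f) =
      Ring.DirectLimit.of (fun i => L ⊗[R] G i) (fun i j h => tf R G f L i j h) i (l ⊗ₜ y) := by
  rw [bil_apply, g₀_mk, a₀_apply R G f L i, ← map_mul, Algebra.TensorProduct.tmul_mul_tmul,
    one_mul, mul_one]

/-- The inverse comparison map, as an additive map. -/
noncomputable def fromTensor : L ⊗[R] DirectLimit G f →+ TL R G f L :=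
  TensorProduct.liftAddHom (bil R G f L)
    (by
      intro r l x
      induction x using DirectLimit.induction with | _ i y
      rw [DirectLimit.smul_def, bil_mk, bil_mk, TensorProduct.smul_tmul])

theorem fromTensor_tmul (l : L) (i : ι) (y : G i) :
    fromTensor R G f L (l ⊗ₜ (⟦⟨i, y⟩⟧ : DirectLimit G f)) =
      Ring.DirectLimit.of (fun i => L ⊗[R] G i) (fun i j h => tf R G f L i j h) i (l ⊗ₜ y) := by
  rw [fromTensor, TensorProduct.liftAddHom_tmul, bil_mk]

theorem fromTensor_toTensor (x : TL R G f L) : fromTensor R G f L (toTensor R G f L x) = x := by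
  induction x using Ring.DirectLimit.induction_on with | _ i z
  induction z using TensorProduct.induction_on with
  | zero => simp
  | tmul l y => rw [toTensor_of_tmul, ofAlg_apply, fromTensor_tmul]
  | add a b ha hb => rw [map_add, map_add, map_add, ha, hb]

theorem toTensor_fromTensor (x : L ⊗[R] DirectLimit G f) :
    toTensor R G f L (fromTensor R G f L x) = x := by
  induction x using TensorProduct.induction_on with
  | zero => simp
  | tmul l y =>
    induction y using DirectLimit.induction with | _ i y
    rw [fromTensor_tmul, toTensor_of_tmul, ofAlg_apply]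
  | add a b ha hb => rw [map_add, map_add, ha, hb]

/-- **Tensor products commute with direct limits** (ring version). -/
noncomputable def tensorEquiv : TL R G f L ≃+* L ⊗[R] DirectLimit G f :=
  RingEquiv.ofBijective (toTensor R G f L)
    ⟨Function.LeftInverse.injective (fromTensor_toTensor R G f L),
      Function.RightInverse.surjective (toTensor_fromTensor R G f L)⟩

end Tensor

end Groth.Agent.Lib.Helper49.DirLim
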