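import Mathlib.AlgebraicGeometry.Geometrically.Basic
import Mathlib.AlgebraicGeometry.PullbackCarrier
import Mathlib.RingTheory.TensorProduct.Basic
import Mathlib.LinearAlgebra.TensorProduct.Basis
import Mathlib.RingTheory.Flat.FaithfullyFlat.Basic

/-!
Descent of `geometrically P` along a field extension, for properties `P` which pass to images of
surjective morphisms (irreducible, connected).
-/

set_option autoImplicit false
universe u

open CategoryTheory AlgebraicGeometry Limits TensorProduct

namespace Groth.Agent.Lib.Helper49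

theorem surjective_specMap_of_field {K L : Type u} [Field K] [Field L] (a : K →+* L) :
    Surjective (Spec.map (CommRingCat.ofHom a)) := by
  constructor
  intro x
  obtain ⟨y⟩ : Nonempty (PrimeSpectrum L) := inferInstance
  let y' : ↥(Spec (.of L)) := y
  exact ⟨y', Subsingleton.elim (α := PrimeSpectrum K) _ _⟩

theorem exists_common_field_ext (k K k' : Type u) [Field k] [Field K] [Field k']
    (ψ : k →+* K) (φ : k →+* k') :
    ∃ (Ω : Type u) (_ : Field Ω) (a : K →+* Ω) (b : k' →+* Ω), a.comp ψ = b.comp φ := by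
  let _ : Algebra k K := ψ.toAlgebra
  let _ : Algebra k k' := φ.toAlgebra
  have : Nontrivial (K ⊗[k] k') := inferInstance
  obtain ⟨m, hm⟩ := Ideal.exists_maximal (K ⊗[k] k')
  let _ : Field ((K ⊗[k] k') ⧸ m) := Ideal.Quotient.field m
  refine ⟨(K ⊗[k] k') ⧸ m, inferInstance,
    (Ideal.Quotient.mk m).comp (Algebra.TensorProduct.includeLeftRingHom),
    (Ideal.Quotient.mk m).comp (Algebra.TensorProduct.includeRight (R := k) (A := K) (B := k')).toRingHom,
    ?_⟩
  ext x
  simp only [RingHom.comp_apply]
  congr 1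
  change (ψ x) ⊗ₜ[k] (1 : k') = (1 : K) ⊗ₜ[k] (φ x)
  have h1 : ψ x = x • (1 : K) := by rw [Algebra.smul_def, mul_one]; rfl
  have h2 : φ x = x • (1 : k') := by rw [Algebra.smul_def, mul_one]; rfl
  rw [h1, h2, TensorProduct.smul_tmul]

theorem geometrically_descends {P : ObjectProperty Scheme.{u}}
    (hP : ∀ {Z' Z : Scheme.{u}} (p : Z' ⟶ Z), Surjective p → P Z' → P Z)
    {k k' : Type u} [Field k] [Field k'] (φ : k →+* k')
    {X X' : Scheme.{u}} {f : X ⟶ Spec (.of k)} {f' : X' ⟶ Spec (.of k')} {h' : X' ⟶ X}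
    (sq : IsPullback h' f' f (Spec.map (CommRingCat.ofHom φ)))
    (hf' : geometrically P f') : geometrically P f := by
  intro K _ y Z fst snd hZ
  obtain ⟨ψ, rfl⟩ := Spec.map_surjective y
  obtain ⟨Ω, _, a, b, hab⟩ := exists_common_field_ext k K k' ψ.hom φ
  have hab' : Spec.map (CommRingCat.ofHom a) ≫ Spec.map ψ =
      Spec.map (CommRingCat.ofHom b) ≫ Spec.map (CommRingCat.ofHom φ) := by
    rw [← Spec.map_comp, ← Spec.map_comp]
    congr 1
    ext x
    exact DFunLike.congr_fun hab x
  let p1 := pullback.fst snd (Spec.map (CommRingCat.ofHom a))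
  let p2 := pullback.snd snd (Spec.map (CommRingCat.ofHom a))
  have hW : IsPullback p1 p2 snd (Spec.map (CommRingCat.ofHom a)) := IsPullback.of_hasPullback _ _
  have big : IsPullback (p1 ≫ fst) p2 f
      (Spec.map (CommRingCat.ofHom b) ≫ Spec.map (CommRingCat.ofHom φ)) := by
    rw [← hab']
    exact hW.paste_horiz hZ
  let l : pullback snd (Spec.map (CommRingCat.ofHom a)) ⟶ X' :=
    sq.lift (p1 ≫ fst) (p2 ≫ Spec.map (CommRingCat.ofHom b)) (by
      have := big.w
      simpa only [Category.assoc] using this)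
  have hl1 : l ≫ h' = p1 ≫ fst := sq.lift_fst _ _ _
  have hl2 : l ≫ f' = p2 ≫ Spec.map (CommRingCat.ofHom b) := sq.lift_snd _ _ _
  have hleft : IsPullback l p2 f' (Spec.map (CommRingCat.ofHom b)) := by
    refine IsPullback.of_right ?_ hl2 sq
    rw [hl1]
    exact big
  have hPW : P (pullback snd (Spec.map (CommRingCat.ofHom a))) := hf' _ _ _ hleft
  have := surjective_specMap_of_field a
  have hsurj : Surjective p1 := inferInstance
  exact hP p1 hsurj hPW

end Groth.Agent.Lib.Helper49
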