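import Mathlib
import Groth.Prelude.Def_Found
import Groth.Agent.Lib.Helper49.DirLim
import Groth.Agent.S7770
import Groth.Agent.Lib.Helper62.SmoothReg5
import Groth.Agent.Lib.Helper49.RegularHom

/-!
# Geometrically regular finite type algebras over a field are smooth (helper49)
-/

set_option autoImplicit false
set_option linter.style.haveILetI false
set_option linter.unusedSectionVars false
universe u

namespace Groth.Agent.Lib.Helper49.GeomRegSmooth

open TensorProduct

section Wrapper

variable (R : Type u) [CommRing R] {ι : Type u} [Preorder ι] [IsDirectedOrder ι] [Nonempty ι]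
  (G : ι → Type u) [∀ i, CommRing (G i)] [∀ i, Algebra R (G i)]
  (f : ∀ i j : ι, i ≤ j → (G i →ₐ[R] G j)) [DirectedSystem G (fun i j h => f i j h)]
  (L : Type u) [CommRing L] [Algebra R L]

/-- A Noetherian direct limit of the regular rings `L ⊗ G i` is regular (wrapper around S7770). -/
theorem isRegularRing_TL (hreg : ∀ i, IsRegularRing (L ⊗[R] G i))
    [IsNoetherianRing (Groth.Agent.Lib.Helper49.DirLim.TL R G f L)] :
    IsRegularRing (Groth.Agent.Lib.Helper49.DirLim.TL R G f L) :=
  Groth.Agent.S7770.result ι (fun i => L ⊗[R] G i)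
    (fun i j h => Groth.Agent.Lib.Helper49.DirLim.tf R G f L i j h) hreg

/-- If `L ⊗ colim G i` is Noetherian and all `L ⊗ G i` are regular then `L ⊗ colim G i` is
regular. -/
theorem isRegularRing_tensor_directLimit (hreg : ∀ i, IsRegularRing (L ⊗[R] G i))
    [IsNoetherianRing (L ⊗[R] DirectLimit G f)] : IsRegularRing (L ⊗[R] DirectLimit G f) := by
  have hNT : IsNoetherianRing (Groth.Agent.Lib.Helper49.DirLim.TL R G f L) :=
    isNoetherianRing_of_ringEquiv _ (Groth.Agent.Lib.Helper49.DirLim.tensorEquiv R G f L).symm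
  exact Groth.Agent.Lib.Helper49.RegularHom.isRegularRing_of_ringEquiv'
    (Groth.Agent.Lib.Helper49.DirLim.tensorEquiv R G f L) (isRegularRing_TL R G f L hreg)

end Wrapper

section AlgClosure

variable (K : Type u) [Field K] (Ω : Type u) [Field Ω] [Algebra K Ω]

/-- The finitely generated intermediate fields, indexed by finite subsets. -/
abbrev St (s : Finset Ω) : Type u := IntermediateField.adjoin K (s : Set Ω)

/-- Transition maps. -/
noncomputable def stMap (s t : Finset Ω) (h : s ≤ t) : St K Ω s →ₐ[K] St K Ω t :=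
  IntermediateField.inclusion (IntermediateField.adjoin.mono K _ _ (Finset.coe_subset.2 h))

theorem stMap_val (s t : Finset Ω) (h : s ≤ t) (x : St K Ω s) :
    ((stMap K Ω s t h x : St K Ω t) : Ω) = (x : Ω) :=
  IntermediateField.coe_inclusion _ x

instance directedSystem_st : DirectedSystem (St K Ω) (fun s t h => stMap K Ω s t h) where
  map_self s x := Subtype.ext (stMap_val K Ω s s le_rfl x)
  map_map k j i hij hjk x := Subtype.ext (by rw [stMap_val, stMap_val, stMap_val])

theorem compat (s t : Finset Ω) (h : s ≤ t) (x : St K Ω s) :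
   (IntermediateField.val (IntermediateField.adjoin K (t : Set Ω))).toRingHom (stMap K Ω s t h x) =
   (IntermediateField.val (IntermediateField.adjoin K (s : Set Ω))).toRingHom x := by
  simp only [AlgHom.toRingHom_eq_coe, RingHom.coe_coe, IntermediateField.coe_val]
  exact stMap_val K Ω s t h x

/-- The comparison map from the direct limit of the finitely generated subfields (ring map). -/
noncomputable def toΩr : DirectLimit (St K Ω) (stMap K Ω) →+* Ω :=
  DirectLimit.Ring.lift (St K Ω) (stMap K Ω) Ω
    (fun s => (IntermediateField.val (IntermediateField.adjoin K (s : Set Ω))).toRingHom)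
    (compat K Ω)

theorem toΩr_mk (s : Finset Ω) (x : St K Ω s) :
    toΩr K Ω (⟦⟨s, x⟩⟧ : DirectLimit (St K Ω) (stMap K Ω)) = (x : Ω) := by
  rw [toΩr]
  exact DirectLimit.Ring.lift_of (G := St K Ω) (f := stMap K Ω) Ω _ _ s x

theorem toΩr_algebraMap (r : K) :
    toΩr K Ω (algebraMap K (DirectLimit (St K Ω) (stMap K Ω)) r) = algebraMap K Ω r := by
  rw [DirectLimit.algebraMap_def (f := stMap K Ω) (∅ : Finset Ω) r, toΩr_mk]
  exact IntermediateField.coe_algebraMap_apply _ r

/-- The comparison map from the direct limit of the finitely generated subfields. -/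
noncomputable def toΩ : DirectLimit (St K Ω) (stMap K Ω) →ₐ[K] Ω :=
  { toΩr K Ω with commutes' := toΩr_algebraMap K Ω }

theorem toΩ_mk (s : Finset Ω) (x : St K Ω s) :
    toΩ K Ω (⟦⟨s, x⟩⟧ : DirectLimit (St K Ω) (stMap K Ω)) = (x : Ω) :=
  toΩr_mk K Ω s x

theorem toΩ_bijective : Function.Bijective (toΩ K Ω) := by
  classical
  constructor
  · intro x y hxy
    induction x, y using DirectLimit.induction₂ with | _ s x y
    rw [toΩ_mk, toΩ_mk] at hxy
    rw [Subtype.ext hxy]
  · intro x
    refine ⟨⟦⟨{x}, ⟨x, IntermediateField.subset_adjoin K _ (by simp)⟩⟩⟧, ?_⟩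
    rw [toΩ_mk]

/-- `Ω` is the direct limit of its finitely generated subfields. -/
noncomputable def equivΩ : DirectLimit (St K Ω) (stMap K Ω) ≃ₐ[K] Ω :=
  AlgEquiv.ofBijective (toΩ K Ω) (toΩ_bijective K Ω)

end AlgClosure

section Main

variable (K : Type u) [Field K] (F : Type u) [CommRing F] [Algebra K F]

/-- A geometrically regular algebra of finite type stays regular after base change to an algebraic
extension. -/
theorem isRegularRing_tensor_of_isAlgebraic [Algebra.FiniteType K F]
    (hG : CAlg.IsGeometricallyRegular K F) (Ω : Type u) [Field Ω] [Algebra K Ω]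
    [Algebra.IsAlgebraic K Ω] : IsRegularRing (F ⊗[K] Ω) := by
  classical
  have hreg : ∀ s : Finset Ω, IsRegularRing (F ⊗[K] St K Ω s) := fun s => by
    have hfin : Module.Finite K (St K Ω s) :=
      IntermediateField.finiteDimensional_adjoin (fun x _ => Algebra.IsIntegral.isIntegral x)
    have h1 : IsRegularRing (St K Ω s ⊗[K] F) := hG (St K Ω s) hfin
    exact Groth.Agent.Lib.Helper49.RegularHom.isRegularRing_of_ringEquiv'
      (Algebra.TensorProduct.comm K (St K Ω s) F).toRingEquiv h1
  let e2 : F ⊗[K] DirectLimit (St K Ω) (stMap K Ω) ≃ₐ[K] F ⊗[K] Ω :=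
    Algebra.TensorProduct.congr AlgEquiv.refl (equivΩ K Ω)
  have hN : IsNoetherianRing (F ⊗[K] Ω) := by
    have h1 : Algebra.FiniteType Ω (Ω ⊗[K] F) := inferInstance
    have h2 : IsNoetherianRing (Ω ⊗[K] F) := Algebra.FiniteType.isNoetherianRing Ω _
    exact isNoetherianRing_of_ringEquiv _ (Algebra.TensorProduct.comm K Ω F).toRingEquiv
  haveI hN' : IsNoetherianRing (F ⊗[K] DirectLimit (St K Ω) (stMap K Ω)) :=
    isNoetherianRing_of_ringEquiv _ e2.toRingEquiv.symm
  have hT := isRegularRing_tensor_directLimit K (St K Ω) (stMap K Ω) F hreg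
  exact Groth.Agent.Lib.Helper49.RegularHom.isRegularRing_of_ringEquiv' e2.toRingEquiv hT

/-- **A geometrically regular algebra of finite type over a field is smooth.** -/
theorem smooth_of_isGeometricallyRegular [Algebra.FinitePresentation K F]
    (hG : CAlg.IsGeometricallyRegular K F) : Algebra.Smooth K F := by
  haveI : Algebra.FiniteType K F := inferInstance
  let Ω := AlgebraicClosure K
  have h1 : IsRegularRing (F ⊗[K] Ω) := isRegularRing_tensor_of_isAlgebraic K F hG Ω
  have h2 : IsRegularRing (Ω ⊗[K] F) :=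
    Groth.Agent.Lib.Helper49.RegularHom.isRegularRing_of_ringEquiv'
      (Algebra.TensorProduct.comm K F Ω).toRingEquiv h1
  have hfp : Algebra.FinitePresentation Ω (Ω ⊗[K] F) := inferInstance
  have hft : Algebra.FiniteType Ω (Ω ⊗[K] F) := inferInstance
  have hfs : Algebra.FormallySmooth Ω (Ω ⊗[K] F) := by
    rw [← Algebra.smoothLocus_eq_univ_iff, Set.eq_univ_iff_forall]
    intro q
    exact (Groth.Agent.Lib.Helper62.SmoothReg.isSmoothAt_iff_isRegularLocalRing_of_perfectField Ω
      (Ω ⊗[K] F) q.asIdeal).2 (h2.isRegularLocalRing_localization q.asIdeal)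
  haveI : Algebra.Smooth Ω (Ω ⊗[K] F) := ⟨hfs, hfp⟩
  exact Algebra.Smooth.of_smooth_tensorProduct_of_faithfullyFlat Ω

end Main

end Groth.Agent.Lib.Helper49.GeomRegSmooth
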