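import Mathlib
import Groth.Agent.Lib.Helper88.UniBr3
import Groth.Agent.Lib.Helper24.GeomRedScheme
import Groth.Agent.Lib.Helper49.FlatConn

set_option autoImplicit false
set_option linter.style.haveILetI false
set_option linter.unusedSectionVars false
universe u

open AlgebraicGeometry CategoryTheory TopologicalSpace TensorProduct

namespace Groth.Agent.Lib.Helper49.GlobConn

section RingTop

variable (R : Type*) [CommRing R] [IsNoetherianRing R]

/-- In the spectrum of a Noetherian ring, a set stable under specialization and generization is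
closed. -/
theorem isClosed_of_stable (S : Set (PrimeSpectrum R)) (h1 : StableUnderSpecialization S)
    (h2 : StableUnderGeneralization S) : IsClosed S := by
  have hfin : (minimalPrimes R).Finite := minimalPrimes.finite_of_isNoetherianRing R
  have hS : S = ⋃ q ∈ {q ∈ minimalPrimes R | ∃ x ∈ S, x.asIdeal = q},
      PrimeSpectrum.zeroLocus (q : Set R) := by
    ext x
    simp only [Set.mem_iUnion, Set.mem_setOf_eq, PrimeSpectrum.mem_zeroLocus, SetLike.coe_subset_coe,
      exists_prop]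
    constructor
    · intro hx
      obtain ⟨q, hq, hle⟩ := Ideal.exists_minimalPrimes_le (bot_le : ⊥ ≤ x.asIdeal)
      have hqp : q.IsPrime := hq.1.1
      have hspec : (⟨q, hqp⟩ : PrimeSpectrum R) ⤳ x :=
        (PrimeSpectrum.le_iff_specializes _ _).mp hle
      exact ⟨q, ⟨hq, ⟨q, hqp⟩, h2 hspec hx, rfl⟩, hle⟩
    · rintro ⟨q, ⟨hq, y, hy, rfl⟩, hle⟩
      exact h1 ((PrimeSpectrum.le_iff_specializes _ _).mp hle) hy
  rw [hS]
  exact (hfin.subset (fun q hq => hq.1)).isClosed_biUnion
    (fun q _ => PrimeSpectrum.isClosed_zeroLocus _)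

theorem isOpen_of_stable (S : Set (PrimeSpectrum R)) (h1 : StableUnderSpecialization S)
    (h2 : StableUnderGeneralization S) : IsOpen S := by
  rw [← isClosed_compl_iff]
  exact isClosed_of_stable R Sᶜ h2.compl h1.compl

/-- A closed set containing a minimal prime has nonempty interior. -/
theorem interior_nonempty_of_minimal (Z : Set (PrimeSpectrum R)) (hZ : IsClosed Z)
    (P₀ : PrimeSpectrum R) (hP₀ : P₀.asIdeal ∈ minimalPrimes R) (hmem : P₀ ∈ Z) :
    (interior Z).Nonempty := by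
  have hfin : (minimalPrimes R).Finite := minimalPrimes.finite_of_isNoetherianRing R
  let C : Set (PrimeSpectrum R) := ⋃ q ∈ {q ∈ minimalPrimes R | q ≠ P₀.asIdeal},
    PrimeSpectrum.zeroLocus (q : Set R)
  have hC : IsClosed C := (hfin.subset (fun q hq => hq.1)).isClosed_biUnion
    (fun q _ => PrimeSpectrum.isClosed_zeroLocus _)
  have hsub : Cᶜ ⊆ Z := by
    intro x hx
    obtain ⟨q, hq, hle⟩ := Ideal.exists_minimalPrimes_le (bot_le : ⊥ ≤ x.asIdeal)
    by_cases hqP : q = P₀.asIdeal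
    · subst hqP
      exact ((PrimeSpectrum.le_iff_specializes _ _).mp hle).mem_closed hZ hmem
    · exfalso
      apply hx
      simp only [C, Set.mem_iUnion, Set.mem_setOf_eq, PrimeSpectrum.mem_zeroLocus,
        SetLike.coe_subset_coe, exists_prop]
      exact ⟨q, ⟨hq, hqP⟩, hle⟩
  refine ⟨P₀, interior_maximal hsub hC.isOpen_compl ?_⟩
  intro hmemC
  simp only [C, Set.mem_iUnion, Set.mem_setOf_eq, PrimeSpectrum.mem_zeroLocus,
    SetLike.coe_subset_coe, exists_prop] at hmemC
  obtain ⟨q, ⟨hq, hne⟩, hle⟩ := hmemC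
  exact hne (le_antisymm hle (hP₀.2 hq.1 hle))

end RingTop

section SchemeTop

variable (X : Scheme.{u}) [IsLocallyNoetherian X]

/-- In a locally Noetherian scheme, a set stable under specialization and generization is open. -/
theorem isOpen_of_stable_scheme (C : Set X) (h1 : StableUnderSpecialization C)
    (h2 : StableUnderGeneralization C) : IsOpen C := by
  rw [isOpen_iff_forall_mem_open]
  intro x hx
  obtain ⟨_, ⟨W, hW0, rfl⟩, hxW, -⟩ :=
    X.isBasis_affineOpens.exists_subset_of_mem_open (Set.mem_univ x) isOpen_univ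
  have hW : IsAffineOpen W := hW0
  haveI : IsNoetherianRing Γ(X, W) := IsLocallyNoetherian.component_noetherian ⟨W, hW⟩
  have hS : IsOpen (hW.fromSpec ⁻¹' C) := isOpen_of_stable Γ(X, W) _
    (h1.preimage hW.fromSpec.continuous) (h2.preimage hW.fromSpec.continuous)
  refine ⟨hW.fromSpec '' (hW.fromSpec ⁻¹' C), ?_, hW.fromSpec.isOpenEmbedding.isOpenMap _ hS, ?_⟩
  · rintro _ ⟨P, hP, rfl⟩
    exact hP
  · rw [Set.image_preimage_eq_inter_range, hW.range_fromSpec]
    exact ⟨hx, hxW⟩

/-- A closed set containing a maximal point has nonempty interior. -/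
theorem interior_nonempty_of_maximal_point (Z : Set X) (hZ : IsClosed Z) (η : X) (hη : η ∈ Z)
    (hmax : ∀ y : X, y ⤳ η → y = η) : (interior Z).Nonempty := by
  obtain ⟨_, ⟨V, hV0, rfl⟩, hηV, -⟩ :=
    X.isBasis_affineOpens.exists_subset_of_mem_open (Set.mem_univ η) isOpen_univ
  have hV : IsAffineOpen V := hV0
  haveI : IsNoetherianRing Γ(X, V) := IsLocallyNoetherian.component_noetherian ⟨V, hV⟩
  obtain ⟨P₀, hP₀⟩ : ∃ P₀ : PrimeSpectrum Γ(X, V), hV.fromSpec P₀ = η := by
    have : η ∈ Set.range hV.fromSpec := by rw [hV.range_fromSpec]; exact hηV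
    exact this
  have hmin : P₀.asIdeal ∈ minimalPrimes Γ(X, V) := by
    obtain ⟨q, hq, hle⟩ := Ideal.exists_minimalPrimes_le (bot_le : ⊥ ≤ P₀.asIdeal)
    have hqp : q.IsPrime := hq.1.1
    have hspec : (⟨q, hqp⟩ : PrimeSpectrum Γ(X, V)) ⤳ P₀ :=
      (PrimeSpectrum.le_iff_specializes _ _).mp hle
    have h3 := hmax _ (hP₀ ▸ hspec.map hV.fromSpec.continuous)
    have h4 : (⟨q, hqp⟩ : PrimeSpectrum Γ(X, V)) = P₀ :=
      hV.fromSpec.isOpenEmbedding.injective (h3.trans hP₀.symm)
    rw [← h4]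
    exact hq
  obtain ⟨P, hP⟩ := interior_nonempty_of_minimal Γ(X, V) (hV.fromSpec ⁻¹' Z)
    (hZ.preimage hV.fromSpec.continuous) P₀ hmin (by
      change hV.fromSpec P₀ ∈ Z
      rw [hP₀]; exact hη)
  refine ⟨hV.fromSpec P, ?_⟩
  have hopen : IsOpen (hV.fromSpec '' interior (hV.fromSpec ⁻¹' Z)) :=
    hV.fromSpec.isOpenEmbedding.isOpenMap _ isOpen_interior
  exact interior_maximal (by
    rintro _ ⟨Q, hQ, rfl⟩
    exact (interior_subset hQ : Q ∈ hV.fromSpec ⁻¹' Z)) hopen ⟨P, hP, rfl⟩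

/-- A closed set with empty interior pulls back to a set with empty interior in the spectrum of
any local ring. -/
theorem interior_preimage_fromSpecStalk_eq_empty (Z : Set X) (hZ : IsClosed Z)
    (hint : interior Z = ∅) (y : X) : interior ((X.fromSpecStalk y) ⁻¹' Z) = ∅ := by
  by_contra hne
  obtain ⟨P, hP⟩ : ∃ P : PrimeSpectrum (X.presheaf.stalk y),
      P ∈ interior ((X.fromSpecStalk y) ⁻¹' Z) := Set.nonempty_iff_ne_empty.mpr hne
  obtain ⟨q, hq, hle⟩ := Ideal.exists_minimalPrimes_le (bot_le : ⊥ ≤ P.asIdeal)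
  have hqp : q.IsPrime := hq.1.1
  let P₀ : PrimeSpectrum (X.presheaf.stalk y) := ⟨q, hqp⟩
  have hspec : P₀ ⤳ P := (PrimeSpectrum.le_iff_specializes _ _).mp hle
  have hP₀ : P₀ ∈ interior (X.fromSpecStalk y ⁻¹' Z) := hspec.mem_open isOpen_interior hP
  have hη : X.fromSpecStalk y P₀ ∈ Z :=
    (interior_subset hP₀ : P₀ ∈ (X.fromSpecStalk y) ⁻¹' Z)
  have hmax : ∀ y' : X, y' ⤳ X.fromSpecStalk y P₀ → y' = X.fromSpecStalk y P₀ := by
    intro y' hy'
    have h1 : X.fromSpecStalk y P₀ ⤳ y := by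
      have : X.fromSpecStalk y P₀ ∈ Set.range (X.fromSpecStalk y) := ⟨P₀, rfl⟩
      rw [Scheme.range_fromSpecStalk] at this
      exact this
    have h2 : y' ∈ Set.range (X.fromSpecStalk y) := by
      rw [Scheme.range_fromSpecStalk]
      exact hy'.trans h1
    obtain ⟨P', rfl⟩ := h2
    have h3 : P' ⤳ P₀ := (X.fromSpecStalk y).isEmbedding.isInducing.specializes_iff.mp hy'
    have h4 : P'.asIdeal ≤ P₀.asIdeal := (PrimeSpectrum.le_iff_specializes _ _).mpr h3
    have h5 : P' = P₀ := PrimeSpectrum.ext (le_antisymm h4 (hq.2 ⟨P'.2, bot_le⟩ h4))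
    rw [h5]
  have := interior_nonempty_of_maximal_point X Z hZ _ hη hmax
  rw [hint] at this
  exact Set.not_nonempty_empty this

end SchemeTop

section GeomRed

open Groth.Agent.Lib.Helper24.GeomRedScheme

theorem geometricallyReduced_of_comp_mono {X Y Z : Scheme.{u}} (g : X ⟶ Y) (m : Y ⟶ Z) [Mono m]
    [GeometricallyReduced (g ≫ m)] : GeometricallyReduced g := by
  have sq : IsPullback (𝟙 X) g (g ≫ m) m := IsPullback.of_horiz_isIso_mono ⟨by simp⟩
  exact MorphismProperty.of_isPullback (P := @GeometricallyReduced) sq inferInstance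

theorem geometricallyReduced_appLE {X Y : Scheme.{u}} (f : X ⟶ Y) [GeometricallyReduced f]
    {V : Y.Opens} (hV : IsAffineOpen V) {W : X.Opens} (hW : IsAffineOpen W) (e : W ≤ f ⁻¹ᵁ V) :
    GeometricallyReduced (Spec.map (f.appLE V W e)) := by
  haveI : GeometricallyReduced (hW.fromSpec ≫ f) :=
    geometricallyReduced_comp_of_isOpenImmersion hW.fromSpec f
  haveI : GeometricallyReduced (Spec.map (f.appLE V W e) ≫ hV.fromSpec) := by
    rw [IsAffineOpen.SpecMap_appLE_fromSpec f hV hW e]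
    infer_instance
  exact geometricallyReduced_of_comp_mono _ hV.fromSpec

/-- Reducedness of field fibres passes to localizations of source and target. -/
theorem isReduced_tensor_of_isLocalization (R₀ S₀ A B : Type u) [CommRing R₀] [CommRing S₀]
    [CommRing A] [CommRing B] [Algebra R₀ S₀] [Algebra R₀ A] [Algebra S₀ B] [Algebra A B]
    [Algebra R₀ B] [IsScalarTower R₀ A B] [IsScalarTower R₀ S₀ B]
    (p : Ideal R₀) [p.IsPrime] [IsLocalization.AtPrime A p]
    (q : Ideal S₀) [q.IsPrime] [IsLocalization.AtPrime B q]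
    (h : ∀ (k' : Type u) [Field k'] [Algebra R₀ k'], IsReduced (k' ⊗[R₀] S₀))
    (k' : Type u) [Field k'] [Algebra A k'] : IsReduced (k' ⊗[A] B) := by
  letI : Algebra R₀ k' := ((algebraMap A k').comp (algebraMap R₀ A)).toAlgebra
  haveI : IsScalarTower R₀ A k' := .of_algebraMap_eq' rfl
  haveI := h k'
  letI : Algebra (k' ⊗[R₀] S₀) (k' ⊗[R₀] B) :=
    (Algebra.TensorProduct.map (AlgHom.id R₀ k') (IsScalarTower.toAlgHom R₀ S₀ B)).toAlgebra
  haveI : IsScalarTower k' (k' ⊗[R₀] S₀) (k' ⊗[R₀] B) :=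
    .of_algebraMap_eq (by intro; simp [RingHom.algebraMap_toAlgebra])
  haveI := IsLocalization.tensorProduct_tensorProduct_right R₀ k' q.primeCompl B
    (by ext; simp [RingHom.algebraMap_toAlgebra])
  haveI : IsReduced (k' ⊗[R₀] B) :=
    isReduced_localizationPreserves
      (q.primeCompl.map (Algebra.TensorProduct.includeRight (R := R₀) (A := k') (B := S₀)))
      (k' ⊗[R₀] B) (inferInstance : IsReduced (k' ⊗[R₀] S₀))
  let e := IsLocalization.algebraTensorEquiv p.primeCompl A k' B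
  exact isReduced_of_injective e.toRingEquiv.toRingHom e.injective

end GeomRed

section Stalk

/-- The stalk maps of a geometrically reduced morphism have reduced field fibres. -/
theorem isReduced_tensor_stalk {X Y : Scheme.{u}} (f : X ⟶ Y) [GeometricallyReduced f] (x : X)
    (k' : Type u) [Field k'] [Algebra (Y.presheaf.stalk (f x)) k'] :
    letI := (f.stalkMap x).hom.toAlgebra
    IsReduced (k' ⊗[Y.presheaf.stalk (f x)] X.presheaf.stalk x) := by
  letI := (f.stalkMap x).hom.toAlgebra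
  obtain ⟨_, ⟨V, hV0, rfl⟩, hfxV, -⟩ :=
    Y.isBasis_affineOpens.exists_subset_of_mem_open (Set.mem_univ (f x)) isOpen_univ
  have hV : IsAffineOpen V := hV0
  obtain ⟨_, ⟨W, hW0, rfl⟩, hxW, hWV⟩ :=
    X.isBasis_affineOpens.exists_subset_of_mem_open (show x ∈ f ⁻¹ᵁ V from hfxV) (f ⁻¹ᵁ V).2
  have hW : IsAffineOpen W := hW0
  letI : Algebra Γ(Y, V) Γ(X, W) := (f.appLE V W hWV).hom.toAlgebra
  letI := Y.presheaf.algebra_section_stalk ⟨f x, hfxV⟩
  letI := X.presheaf.algebra_section_stalk ⟨x, hxW⟩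
  haveI := hV.isLocalization_stalk ⟨f x, hfxV⟩
  haveI := hW.isLocalization_stalk ⟨x, hxW⟩
  letI : Algebra Γ(Y, V) (X.presheaf.stalk x) :=
    ((algebraMap (Y.presheaf.stalk (f x)) (X.presheaf.stalk x)).comp
      (algebraMap Γ(Y, V) (Y.presheaf.stalk (f x)))).toAlgebra
  haveI : IsScalarTower Γ(Y, V) (Y.presheaf.stalk (f x)) (X.presheaf.stalk x) :=
    .of_algebraMap_eq' rfl
  haveI : IsScalarTower Γ(Y, V) Γ(X, W) (X.presheaf.stalk x) := .of_algebraMap_eq (fun a => by
    simp only [RingHom.algebraMap_toAlgebra, RingHom.coe_comp, Function.comp_apply,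
      Scheme.Hom.germ_stalkMap_apply, Scheme.Hom.appLE,
      homOfLE_leOfHom, CommRingCat.hom_comp, X.presheaf.germ_res_apply])
  haveI : GeometricallyReduced (Spec.map (CommRingCat.ofHom (algebraMap Γ(Y, V) Γ(X, W)))) :=
    geometricallyReduced_appLE f hV hW hWV
  exact isReduced_tensor_of_isLocalization Γ(Y, V) Γ(X, W) _ _
    (hV.primeIdealOf ⟨f x, hfxV⟩).asIdeal (hW.primeIdealOf ⟨x, hxW⟩).asIdeal
    (fun k'' _ _ => Groth.Agent.Lib.Helper49.FlatConn.isReduced_of_geometricallyReduced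
      Γ(Y, V) Γ(X, W) k'') k'

end Stalk

section Main

variable {X Y : Scheme.{u}} [IsLocallyNoetherian X] [IsLocallyNoetherian Y]
  (hY : ∀ y : Y, CAlg2.IsGeomUnibranch (Y.presheaf.stalk y))
  (f : X ⟶ Y) [Flat f] [GeometricallyReduced f]
  (T : Set ↥X) (hT' : interior (closure (f '' T)) = ∅)

include hY hT' in
/-- The local statement at a point of `X`. -/
theorem isConnected_compl_stalk (x : X) :
    _root_.IsConnected (((X.fromSpecStalk x) ⁻¹' T)ᶜ : Set (PrimeSpectrum (X.presheaf.stalk x))) := by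
  letI := (f.stalkMap x).hom.toAlgebra
  haveI : IsLocalHom (algebraMap (Y.presheaf.stalk (f x)) (X.presheaf.stalk x)) :=
    inferInstanceAs (IsLocalHom (f.stalkMap x).hom)
  haveI : Module.Flat (Y.presheaf.stalk (f x)) (X.presheaf.stalk x) := Flat.stalkMap f x
  refine Groth.Agent.Lib.Helper88.UniBr.isConnected_compl (Y.presheaf.stalk (f x))
    (X.presheaf.stalk x) (fun k' _ _ => isReduced_tensor_stalk f x k') (hY (f x)) _ ?_
  have hsub : PrimeSpectrum.comap (algebraMap (Y.presheaf.stalk (f x)) (X.presheaf.stalk x)) ''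
      ((X.fromSpecStalk x) ⁻¹' T) ⊆ (Y.fromSpecStalk (f x)) ⁻¹' closure (f '' T) := by
    rintro _ ⟨P, hP, rfl⟩
    let P' : ↥(Spec (X.presheaf.stalk x)) := P
    have h0 := Scheme.SpecMap_stalkMap_fromSpecStalk (f := f) (x := x)
    have h1 : (Spec.map (f.stalkMap x) ≫ Y.fromSpecStalk (f x)) P' =
        (X.fromSpecStalk x ≫ f) P' := by rw [h0]
    rw [Scheme.Hom.comp_apply, Scheme.Hom.comp_apply] at h1
    change (Y.fromSpecStalk (f x)) ((Spec.map (f.stalkMap x)) P') ∈ closure (f '' T)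
    rw [h1]
    exact subset_closure ⟨_, hP, rfl⟩
  have hcl : IsClosed ((Y.fromSpecStalk (f x)) ⁻¹' closure (f '' T)) :=
    isClosed_closure.preimage (Y.fromSpecStalk (f x)).continuous
  have h2 := interior_preimage_fromSpecStalk_eq_empty Y (closure (f '' T)) isClosed_closure
    hT' (f x)
  exact Set.subset_eq_empty (interior_mono (closure_minimal hsub hcl)) h2

include hY hT' in
/-- **EGA IV 18.9.x, global form.** -/
theorem isConnected_compl [ConnectedSpace ↥X] : _root_.IsConnected Tᶜ := by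
  have hloc := isConnected_compl_stalk hY f T hT'
  -- every point has a generization outside `T`
  have hgen : ∀ x : X, ∃ x' : X, x' ⤳ x ∧ x' ∉ T := by
    intro x
    obtain ⟨P, hP⟩ := (hloc x).nonempty
    refine ⟨X.fromSpecStalk x P, ?_, hP⟩
    have : X.fromSpecStalk x P ∈ Set.range (X.fromSpecStalk x) := ⟨P, rfl⟩
    rw [Scheme.range_fromSpecStalk] at this
    exact this
  refine ⟨?_, ?_⟩
  · obtain ⟨x⟩ := (inferInstance : Nonempty X)
    obtain ⟨x', -, hx'⟩ := hgen x
    exact ⟨x', hx'⟩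
  · rintro u v hu hv huv ⟨a, haT, hau⟩ ⟨b, hbT, hbv⟩
    by_contra hcon
    have hdisj : ∀ z : X, z ∉ T → z ∈ u → z ∈ v → False := fun z hz hzu hzv =>
      hcon ⟨z, hz, hzu, hzv⟩
    let C1 : Set X := {x | ∃ x' : X, x' ⤳ x ∧ x' ∉ T ∧ x' ∈ u}
    let C2 : Set X := {x | ∃ x' : X, x' ⤳ x ∧ x' ∉ T ∧ x' ∈ v}
    have hcover : ∀ x : X, x ∈ C1 ∨ x ∈ C2 := by
      intro x
      obtain ⟨x', hx', hx'T⟩ := hgen x
      rcases huv hx'T with h | h
      · exact Or.inl ⟨x', hx', hx'T, h⟩
      · exact Or.inr ⟨x', hx', hx'T, h⟩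
    have hdisjC : ∀ x : X, x ∈ C1 → x ∈ C2 → False := by
      rintro x ⟨x1, hx1, hx1T, hx1u⟩ ⟨x2, hx2, hx2T, hx2v⟩
      have hr1 : x1 ∈ Set.range (X.fromSpecStalk x) := by
        rw [Scheme.range_fromSpecStalk]; exact hx1
      have hr2 : x2 ∈ Set.range (X.fromSpecStalk x) := by
        rw [Scheme.range_fromSpecStalk]; exact hx2
      obtain ⟨P1, rfl⟩ := hr1
      obtain ⟨P2, rfl⟩ := hr2
      have hpre := (hloc x).isPreconnected ((X.fromSpecStalk x) ⁻¹' u) ((X.fromSpecStalk x) ⁻¹' v)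
        (hu.preimage (X.fromSpecStalk x).continuous) (hv.preimage (X.fromSpecStalk x).continuous)
        (fun P hP => huv (show (X.fromSpecStalk x) P ∈ Tᶜ from hP))
        ⟨P1, hx1T, hx1u⟩ ⟨P2, hx2T, hx2v⟩
      obtain ⟨P, hPT, hPu, hPv⟩ := hpre
      exact hdisj _ hPT hPu hPv
    have hC1spec : StableUnderSpecialization C1 := by
      rintro x y hxy ⟨x', hx', h1, h2⟩
      exact ⟨x', hx'.trans hxy, h1, h2⟩
    have hC2spec : StableUnderSpecialization C2 := by
      rintro x y hxy ⟨x', hx', h1, h2⟩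
      exact ⟨x', hx'.trans hxy, h1, h2⟩
    have hC1gen : StableUnderGeneralization C1 := by
      intro x y hyx hx
      rcases hcover y with h | h
      · exact h
      · exact (hdisjC x hx (hC2spec hyx h)).elim
    have hopen : IsOpen C1 := isOpen_of_stable_scheme X C1 hC1spec hC1gen
    have hC2gen : StableUnderGeneralization C2 := by
      intro x y hyx hx
      rcases hcover y with h | h
      · exact (hdisjC x (hC1spec hyx h) hx).elim
      · exact h
    have hopen2 : IsOpen C2 := isOpen_of_stable_scheme X C2 hC2spec hC2gen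
    have hclopen : IsClopen C1 := by
      refine ⟨?_, hopen⟩
      have : C1 = C2ᶜ := by
        ext x
        constructor
        · intro h1 h2; exact hdisjC x h1 h2
        · intro h2
          rcases hcover x with h | h
          · exact h
          · exact (h2 h).elim
      rw [this]
      exact hopen2.isClosed_compl
    rcases isClopen_iff.mp hclopen with h | h
    · have : a ∈ C1 := ⟨a, specializes_rfl, haT, hau⟩
      rw [h] at this
      exact this
    · have hb : b ∈ C1 := by rw [h]; trivial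
      exact hdisjC b hb ⟨b, specializes_rfl, hbT, hbv⟩

end Main

end Groth.Agent.Lib.Helper49.GlobConn
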