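import Mathlib
import Groth.Agent.Lib.Helper49.HenselFormal

/-!
# The fraction field of the completion of a henselian local domain (helper49)

Namespace `Groth.Agent.Lib.Helper49.HenselFormal`.
-/

set_option autoImplicit false
set_option linter.style.haveILetI false
universe u

open TensorProduct IsLocalRing

namespace Groth.Agent.Lib.Helper49.HenselFormal

section Frac

variable (A : Type u) [CommRing A] [IsNoetherianRing A] [HenselianLocalRing A] [IsDomain A]
  (h : EGA4.HasGeomNormalFormalFibres A) [IsDomain (EGA4.Cpl A)]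
  (K L : Type u) [Field K] [Field L] [Algebra A K] [IsFractionRing A K]
  [Algebra (EGA4.Cpl A) L] [IsFractionRing (EGA4.Cpl A) L] [Algebra K L] [Algebra A L]
  [IsScalarTower A K L] [IsScalarTower A (EGA4.Cpl A) L]

include h in
/-- `Ω ⊗_K Frac(Â)` is a domain for every field extension `Ω` of `K = Frac A`. -/
theorem isDomain_tensor_fractionField (Ω : Type u) [Field Ω] [Algebra K Ω] :
    IsDomain (Ω ⊗[K] L) := by
  letI : Algebra A Ω := ((algebraMap K Ω).comp (algebraMap A K)).toAlgebra
  haveI : IsScalarTower A K Ω := IsScalarTower.of_algebraMap_eq' rfl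
  have hΩ : Function.Injective (algebraMap A Ω) :=
    (algebraMap K Ω).injective.comp (IsFractionRing.injective A K)
  haveI d := isDomain_tensor A h Ω hΩ
  letI alg : Algebra (Ω ⊗[A] EGA4.Cpl A) (Ω ⊗[A] L) :=
    (Algebra.TensorProduct.map (AlgHom.id A Ω)
      (IsScalarTower.toAlgHom A (EGA4.Cpl A) L)).toAlgebra
  haveI : IsScalarTower Ω (Ω ⊗[A] EGA4.Cpl A) (Ω ⊗[A] L) :=
    IsScalarTower.of_algebraMap_eq (R := Ω) (S := Ω ⊗[A] EGA4.Cpl A) (A := Ω ⊗[A] L)
      (fun x => by
        change x ⊗ₜ[A] (1 : L) = (Algebra.TensorProduct.map (AlgHom.id A Ω)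
          (IsScalarTower.toAlgHom A (EGA4.Cpl A) L)) (x ⊗ₜ[A] (1 : EGA4.Cpl A))
        simp)
  haveI hloc : IsLocalization
      ((nonZeroDivisors (EGA4.Cpl A)).map (Algebra.TensorProduct.includeRight (R := A) (A := Ω)))
      (Ω ⊗[A] L) :=
    IsLocalization.tensorProduct_tensorProduct_right A Ω (nonZeroDivisors (EGA4.Cpl A)) L
      (by ext; simp [RingHom.algebraMap_toAlgebra])
  haveI : IsDomain (Ω ⊗[A] L) :=
    IsLocalization.isDomain_of_le_nonZeroDivisors _
      (M := (nonZeroDivisors (EGA4.Cpl A)).map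
        (Algebra.TensorProduct.includeRight (R := A) (A := Ω))) (by
      rintro _ ⟨b, hb, rfl⟩
      exact mem_nonZeroDivisors_of_ne_zero
        ((map_ne_zero_iff _ (includeRight_injective A Ω (EGA4.Cpl A) hΩ)).mpr
          (nonZeroDivisors.ne_zero hb)))
  exact (IsLocalization.algebraTensorEquiv (nonZeroDivisors A) K Ω L).toRingEquiv.toMulEquiv.isDomain _

include h in
/-- `Frac(Â)` is geometrically reduced (separable) over `Frac A`. -/
theorem isGeometricallyReduced_fractionField : Algebra.IsGeometricallyReduced K L := by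
  rw [Algebra.isGeometricallyReduced_field_iff]
  haveI := isDomain_tensor_fractionField A h K L (AlgebraicClosure K)
  infer_instance

include h in
/-- `Frac A` is algebraically closed in `Frac(Â)`. -/
theorem mem_range_of_isAlgebraic (x : L) (hx : IsAlgebraic K x) :
    x ∈ Set.range (algebraMap K L) := by
  let K₁ : IntermediateField K L := IntermediateField.adjoin K {x}
  haveI : FiniteDimensional K K₁ := IntermediateField.adjoin.finiteDimensional hx.isIntegral
  haveI : Algebra.IsAlgebraic K K₁ := Algebra.IsAlgebraic.of_finite K K₁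
  haveI d : IsDomain (↥K₁ ⊗[K] L) := isDomain_tensor_fractionField A h K L ↥K₁
  have hinj : Function.Injective (Algebra.TensorProduct.map (AlgHom.id K K₁) K₁.val) :=
    Module.Flat.lTensor_preserves_injective_linearMap _ Subtype.val_injective
  haveI : IsDomain (↥K₁ ⊗[K] ↥K₁) :=
    hinj.isDomain (Algebra.TensorProduct.map (AlgHom.id K K₁) K₁.val).toRingHom
  have hF : IsField (↥K₁ ⊗[K] ↥K₁) :=
    Algebra.TensorProduct.isField_of_isAlgebraic K ↥K₁ ↥K₁ (Or.inl inferInstance)
  have hLD := IntermediateField.LinearDisjoint.of_isField' hF K₁.val K₁.val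
  rw [IntermediateField.fieldRange_val] at hLD
  have hbot : K₁ = ⊥ := hLD.eq_bot_of_self
  have hxmem : x ∈ K₁ := IntermediateField.mem_adjoin_simple_self K x
  rw [hbot, IntermediateField.mem_bot] at hxmem
  exact hxmem

end Frac

end Groth.Agent.Lib.Helper49.HenselFormal
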