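import Mathlib

/-!
# Spreading out geometric irreducibility of a polynomial (helper49)

Universal factorisation ring `T = A[q_m, r_m]` (`m` in a box of exponents), the ideal `Iu P d` of
coefficients of `Qu * Ru - P`, and the key statement `exists_mul_pow_mem`: if `P` is irreducible over
an algebraic closure of `Frac A`, then for non-zero exponents `m1 m2` some `C s * (q_{m1} r_{m2})^N`
(`s ≠ 0`) lies in `Iu P d`.
-/

open MvPolynomial

namespace Groth.Agent.Lib.Helper49.IrrSpread

universe u v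

/-- The box of exponents with all entries `≤ d`. -/
noncomputable def box (n d : ℕ) : Finset (Fin n →₀ ℕ) :=
  Finset.Iic (Finsupp.equivFunOnFinite.symm (fun _ : Fin n => d))

lemma mem_box {n d : ℕ} {m : Fin n →₀ ℕ} : m ∈ box n d ↔ ∀ i, m i ≤ d := by
  simp [box, Finsupp.le_def]

/-- index type of the universal coefficients -/
abbrev Idx (n d : ℕ) := ↥(box n d) ⊕ ↥(box n d)

/-- coefficient of a sum of monomials indexed by a finset of exponents -/
lemma coeff_sum_monomial {Ω : Type v} [CommSemiring Ω] {n : ℕ} (E : Finset (Fin n →₀ ℕ))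
    (c : ↥E → Ω) (m' : Fin n →₀ ℕ) :
    coeff m' (∑ m : ↥E, monomial m.1 (c m)) = if h : m' ∈ E then c ⟨m', h⟩ else 0 := by
  classical
  rw [coeff_sum]
  simp only [coeff_monomial]
  split_ifs with h
  · rw [Finset.sum_eq_single ⟨m', h⟩]
    · simp
    · intro b _ hb
      rw [if_neg]
      intro h'
      exact hb (Subtype.ext h')
    · simp
  · apply Finset.sum_eq_zero
    intro b _
    rw [if_neg]
    intro h'
    exact h (h' ▸ b.2)

variable (A : Type u) [CommRing A] (n d : ℕ)

/-- universal first factor -/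
noncomputable def Qu : MvPolynomial (Fin n) (MvPolynomial (Idx n d) A) :=
  ∑ m : ↥(box n d), monomial m.1 (X (Sum.inl m))

/-- universal second factor -/
noncomputable def Ru : MvPolynomial (Fin n) (MvPolynomial (Idx n d) A) :=
  ∑ m : ↥(box n d), monomial m.1 (X (Sum.inr m))

variable {A n}

/-- ideal of the universal factorisation of `P` -/
noncomputable def Iu (P : MvPolynomial (Fin n) A) (d : ℕ) : Ideal (MvPolynomial (Idx n d) A) :=
  Ideal.span (Set.range fun m : Fin n →₀ ℕ => coeff m (Qu A n d * Ru A n d - map C P))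

variable {d}

lemma map_Qu {Ω : Type v} [CommRing Ω] (ψ : MvPolynomial (Idx n d) A →+* Ω) :
    map ψ (Qu A n d) = ∑ m : ↥(box n d), monomial m.1 (ψ (X (Sum.inl m))) := by
  simp [Qu, map_sum, map_monomial]

lemma map_Ru {Ω : Type v} [CommRing Ω] (ψ : MvPolynomial (Idx n d) A →+* Ω) :
    map ψ (Ru A n d) = ∑ m : ↥(box n d), monomial m.1 (ψ (X (Sum.inr m))) := by
  simp [Ru, map_sum, map_monomial]

/-- a point of the universal factorisation scheme gives a factorisation -/
lemma map_mul_map_eq {Ω : Type v} [CommRing Ω] (P : MvPolynomial (Fin n) A)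
    (ψ : MvPolynomial (Idx n d) A →+* Ω) (hψ : Iu P d ≤ RingHom.ker ψ) :
    map ψ (Qu A n d) * map ψ (Ru A n d) = map (ψ.comp C) P := by
  have h0 : map ψ (Qu A n d * Ru A n d - map C P) = 0 := by
    ext m
    rw [coeff_map, coeff_zero]
    exact hψ (Ideal.subset_span ⟨m, rfl⟩)
  rw [map_sub, map_mul, map_map, sub_eq_zero] at h0
  exact h0

/-- irreducibility forces the product of two non-constant coefficients to vanish -/
lemma mul_eq_zero_of_irreducible {Ω : Type v} [Field Ω] (P : MvPolynomial (Fin n) A)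
    (ψ : MvPolynomial (Idx n d) A →+* Ω) (hψ : Iu P d ≤ RingHom.ker ψ)
    (hirr : Irreducible (map (ψ.comp C) P)) (m1 m2 : ↥(box n d)) (h1 : m1.1 ≠ 0) (h2 : m2.1 ≠ 0) :
    ψ (X (Sum.inl m1)) * ψ (X (Sum.inr m2)) = 0 := by
  have hfac := map_mul_map_eq P ψ hψ
  rcases hirr.isUnit_or_isUnit hfac.symm with hu | hu
  · obtain ⟨r, -, hr⟩ := isUnit_iff_eq_C_of_isReduced.mp hu
    have h : coeff m1.1 (map ψ (Qu A n d)) = ψ (X (Sum.inl m1)) := by
      rw [map_Qu, coeff_sum_monomial, dif_pos m1.2]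
    rw [hr, coeff_C, if_neg (Ne.symm h1)] at h
    rw [← h, zero_mul]
  · obtain ⟨r, -, hr⟩ := isUnit_iff_eq_C_of_isReduced.mp hu
    have h : coeff m2.1 (map ψ (Ru A n d)) = ψ (X (Sum.inr m2)) := by
      rw [map_Ru, coeff_sum_monomial, dif_pos m2.2]
    rw [hr, coeff_C, if_neg (Ne.symm h2)] at h
    rw [← h, mul_zero]

/-- a factorisation with supports in the box gives a point of the universal factorisation scheme -/
lemma exists_point {Ω : Type v} [CommRing Ω] (P : MvPolynomial (Fin n) A) (θ : A →+* Ω)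
    (Q R : MvPolynomial (Fin n) Ω) (hQ : ∀ m, coeff m Q ≠ 0 → m ∈ box n d)
    (hR : ∀ m, coeff m R ≠ 0 → m ∈ box n d) (hfac : Q * R = map θ P) :
    ∃ ψ : MvPolynomial (Idx n d) A →+* Ω, ψ.comp C = θ ∧ Iu P d ≤ RingHom.ker ψ ∧
      (∀ m : ↥(box n d), ψ (X (Sum.inl m)) = coeff m.1 Q) ∧
      (∀ m : ↥(box n d), ψ (X (Sum.inr m)) = coeff m.1 R) := by
  classical
  let ψ : MvPolynomial (Idx n d) A →+* Ω :=
    eval₂Hom θ (Sum.elim (fun m => coeff m.1 Q) (fun m => coeff m.1 R))
  have hC : ψ.comp C = θ := by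
    ext a
    simp [ψ]
  have hX1 : ∀ m : ↥(box n d), ψ (X (Sum.inl m)) = coeff m.1 Q := fun m => by simp [ψ]
  have hX2 : ∀ m : ↥(box n d), ψ (X (Sum.inr m)) = coeff m.1 R := fun m => by simp [ψ]
  have hQ' : map ψ (Qu A n d) = Q := by
    ext m'
    rw [map_Qu, coeff_sum_monomial]
    split_ifs with h
    · exact hX1 ⟨m', h⟩
    · by_contra h'
      exact h (hQ m' (Ne.symm h'))
  have hR' : map ψ (Ru A n d) = R := by
    ext m'
    rw [map_Ru, coeff_sum_monomial]
    split_ifs with h
    · exact hX2 ⟨m', h⟩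
    · by_contra h'
      exact h (hR m' (Ne.symm h'))
  refine ⟨ψ, hC, ?_, hX1, hX2⟩
  rw [Iu, Ideal.span_le]
  rintro _ ⟨m, rfl⟩
  show ψ _ = 0
  rw [← coeff_map, map_sub, map_mul, map_map, hQ', hR', hC, hfac, sub_self, coeff_zero]

attribute [local instance] MvPolynomial.algebraMvPolynomial

/-- **Key statement.** -/
theorem exists_mul_pow_mem [IsDomain A] (P : MvPolynomial (Fin n) A)
    (hP : Irreducible (map (algebraMap A (AlgebraicClosure (FractionRing A))) P))
    (m1 m2 : ↥(box n d)) (h1 : m1.1 ≠ 0) (h2 : m2.1 ≠ 0) :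
    ∃ s : A, s ≠ 0 ∧ ∃ N : ℕ,
      C s * (X (Sum.inl m1) * X (Sum.inr m2) : MvPolynomial (Idx n d) A) ^ N ∈ Iu P d := by
  classical
  let K := FractionRing A
  let Kb := AlgebraicClosure K
  let TK := MvPolynomial (Idx n d) K
  set g : MvPolynomial (Idx n d) A := X (Sum.inl m1) * X (Sum.inr m2) with hg
  have key : algebraMap (MvPolynomial (Idx n d) A) TK g ∈
      ((Iu P d).map (algebraMap (MvPolynomial (Idx n d) A) TK)).radical := by
    rw [Ideal.radical_eq_jacobson, Ideal.jacobson, Ideal.mem_sInf]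
    rintro J ⟨hIJ, hJ⟩
    haveI := hJ
    letI : Field (TK ⧸ J) := Ideal.Quotient.field J
    haveI : Algebra.FiniteType K (TK ⧸ J) := inferInstance
    haveI : Module.Finite K (TK ⧸ J) := finite_of_finite_type_of_isJacobsonRing K _
    haveI : Algebra.IsAlgebraic K (TK ⧸ J) := Algebra.IsAlgebraic.of_finite K _
    let e : (TK ⧸ J) →ₐ[K] Kb := IsAlgClosed.lift
    let ψ : MvPolynomial (Idx n d) A →+* Kb :=
      e.toRingHom.comp ((Ideal.Quotient.mk J).comp (algebraMap (MvPolynomial (Idx n d) A) TK))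
    have hψC : ψ.comp C = algebraMap A Kb := by
      ext a
      show e (Ideal.Quotient.mk J (algebraMap (MvPolynomial (Idx n d) A) TK (C a))) = _
      rw [MvPolynomial.algebraMap_def, map_C]
      have : (Ideal.Quotient.mk J (C (algebraMap A K a)) : TK ⧸ J) =
          algebraMap K (TK ⧸ J) (algebraMap A K a) := rfl
      rw [this, e.commutes, ← IsScalarTower.algebraMap_apply]
    have hψI : Iu P d ≤ RingHom.ker ψ := by
      intro x hx
      rw [RingHom.mem_ker]
      show e (Ideal.Quotient.mk J (algebraMap (MvPolynomial (Idx n d) A) TK x)) = 0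
      have : algebraMap (MvPolynomial (Idx n d) A) TK x ∈ J := hIJ (Ideal.mem_map_of_mem _ hx)
      rw [Ideal.Quotient.eq_zero_iff_mem.mpr this, map_zero]
    have hz := mul_eq_zero_of_irreducible P ψ hψI (by rw [hψC]; exact hP) m1 m2 h1 h2
    rw [← map_mul] at hz
    have hz' : e (Ideal.Quotient.mk J (algebraMap (MvPolynomial (Idx n d) A) TK g)) = 0 := hz
    have hinj : Function.Injective e := e.toRingHom.injective
    have := hinj (hz'.trans (map_zero e).symm)
    exact Ideal.Quotient.eq_zero_iff_mem.mp this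
  obtain ⟨N, hN⟩ := key
  rw [← map_pow, IsLocalization.algebraMap_mem_map_algebraMap_iff
    ((nonZeroDivisors A).map (C (σ := Idx n d)))] at hN
  obtain ⟨m, ⟨s, hs, rfl⟩, hm⟩ := hN
  exact ⟨s, nonZeroDivisors.ne_zero hs, N, hm⟩

end Groth.Agent.Lib.Helper49.IrrSpread
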