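import Mathlib
import Groth.Agent.Lib.Helper49.Kollar1

/-!
# Kollár's flatness criterion: the abstract core step inside a Noetherian ring `B`
-/

set_option autoImplicit false
universe u

namespace Groth.Agent.Lib.Helper49.Kollar

section Core

variable {B : Type u} [CommRing B]

/-- `p` is an associated prime of `B ⧸ P`, in elementwise form. -/
def IsAssP (P p : Ideal B) : Prop := p.IsPrime ∧ ∃ b : B, ∀ s, s ∈ p ↔ s * b ∈ P

/-- `B ⧸ P` has no embedded primes relative to `Spec B`: all associated primes are minimal primes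
of `B`. -/
def S1 (P : Ideal B) : Prop := ∀ p, IsAssP P p → p ∈ minimalPrimes B

theorem exists_isAssP_of_not_mem [IsNoetherianRing B] (P : Ideal B) (b : B) (hb : b ∉ P) :
    ∃ p, IsAssP P p ∧ ∀ s, s * b ∈ P → s ∈ p := by
  have hne : (Ideal.Quotient.mk P b) ≠ 0 := by
    rwa [Ne, Ideal.Quotient.eq_zero_iff_mem]
  obtain ⟨p, hp, hle⟩ := exists_le_isAssociatedPrime_of_isNoetherianRing B (Ideal.Quotient.mk P b) hne
  rw [isAssociatedPrime_iff] at hp
  obtain ⟨hprime, x, hx⟩ := hp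
  obtain ⟨b', rfl⟩ := Ideal.Quotient.mk_surjective x
  refine ⟨p, ⟨hprime, b', ?_⟩, ?_⟩
  · intro s
    rw [hx, Submodule.mem_colon_singleton, Submodule.mem_bot,
      ← Ideal.Quotient.eq_zero_iff_mem, map_mul]
    rfl
  · intro s hs
    apply hle
    rw [Submodule.mem_colon_singleton, Submodule.mem_bot]
    have : s • (Ideal.Quotient.mk P b) = Ideal.Quotient.mk P (s * b) := by
      rw [map_mul]; rfl
    rw [this]
    exact Ideal.Quotient.eq_zero_iff_mem.mpr hs

theorem mem_nilradical_of_forall_minimalPrimes (c : B) (h : ∀ q ∈ minimalPrimes B, c ∈ q) :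
    c ∈ nilradical B := by
  rw [nilradical_eq_sInf, Ideal.mem_sInf]
  intro J hJ
  have hJ' : J.IsPrime := hJ
  obtain ⟨q, hq, hqJ⟩ := Ideal.exists_minimalPrimes_le (I := ⊥) (J := J) bot_le
  exact hqJ (h q hq)

theorem nilradical_le_of_mem_minimalPrimes {q : Ideal B} (hq : q ∈ minimalPrimes B) :
    nilradical B ≤ q := by
  have : q.IsPrime := hq.1.1
  exact nilradical_le_prime q

theorem exists_mem_not_mem_minimalPrimes [IsNoetherianRing B] (p : Ideal B) [p.IsPrime]
    (hp : p ∉ minimalPrimes B) : ∃ t ∈ p, ∀ q ∈ minimalPrimes B, t ∉ q := by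
  by_contra hcon
  push Not at hcon
  have hfin : (minimalPrimes B).Finite := minimalPrimes.finite_of_isNoetherianRing B
  have hsub : ((p : Ideal B) : Set B) ⊆
      ⋃ q ∈ ((hfin.toFinset : Finset (Ideal B)) : Set (Ideal B)), ((id q : Ideal B) : Set B) := by
    intro t ht
    obtain ⟨q, hq, htq⟩ := hcon t ht
    simp only [Set.Finite.coe_toFinset, id_eq, Set.mem_iUnion, SetLike.mem_coe, exists_prop]
    exact ⟨q, hq, htq⟩
  rw [Ideal.subset_union_prime (f := id) p p] at hsub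
  · obtain ⟨q, hq, hle⟩ := hsub
    have hq' : q ∈ minimalPrimes B := by simpa using hq
    have : q ≤ p := hq'.2 ⟨inferInstance, bot_le⟩ hle
    have heq : p = q := le_antisymm hle this
    exact hp (heq ▸ hq')
  · intro q hq _ _
    have hq' : q ∈ minimalPrimes B := by simpa using hq
    exact hq'.1.1

theorem mem_of_mul_mem_of_S1 [IsNoetherianRing B] {P : Ideal B} (hS : S1 P) {t : B}
    (ht : ∀ q ∈ minimalPrimes B, t ∉ q) {c : B} (h : t * c ∈ P) : c ∈ P := by
  by_contra hc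
  obtain ⟨p, hp, hle⟩ := exists_isAssP_of_not_mem P c hc
  exact ht p (hS p hp) (hle t h)

theorem mem_nilradical_of_mul_mem {t : B} (ht : ∀ q ∈ minimalPrimes B, t ∉ q) {c : B}
    (h : t * c ∈ nilradical B) : c ∈ nilradical B := by
  apply mem_nilradical_of_forall_minimalPrimes
  intro q hq
  have hprime : q.IsPrime := hq.1.1
  have := nilradical_le_of_mem_minimalPrimes hq h
  exact (hprime.mem_or_mem this).resolve_left (ht q hq)

end Core

section Step

variable {B : Type u} [CommRing B] [IsNoetherianRing B]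
variable (𝔐 P : Ideal B) (α : B)

theorem height_le_one_of_mem_minimalPrimes {q : Ideal B} (hq : q ∈ minimalPrimes B) :
    q.height ≤ 1 := by
  have hprime : q.IsPrime := hq.1.1
  rw [Ideal.height_eq_zero_iff.mpr hq]
  exact zero_le

/-- The colon ideal `(P : α)` is the nilradical. -/
theorem colon_eq_nilradical (h𝔐N : 𝔐 ≤ nilradical B)
    (hN : ∀ (q : Ideal B) [q.IsPrime], q.height ≤ 1 → ∀ b ∈ nilradical B,
      ∃ s, s ∉ q ∧ s * b ∈ 𝔐)
    (hαP : ∀ x ∈ 𝔐, α * x ∈ P)
    (hFS : ∀ (q : Ideal B) [q.IsPrime], q.height ≤ 1 → ∀ c, α * c ∈ P → ∃ s, s ∉ q ∧ s * c ∈ 𝔐)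
    (hS : S1 P) (c : B) : α * c ∈ P ↔ c ∈ nilradical B := by
  constructor
  · intro hc
    apply mem_nilradical_of_forall_minimalPrimes
    intro q hq
    have hprime : q.IsPrime := hq.1.1
    obtain ⟨s, hsq, hs⟩ := hFS q (height_le_one_of_mem_minimalPrimes hq) c hc
    have : s * c ∈ q := nilradical_le_of_mem_minimalPrimes hq (h𝔐N hs)
    exact (hprime.mem_or_mem this).resolve_left hsq
  · intro hc
    by_contra hαc
    obtain ⟨p, hp, hle⟩ := exists_isAssP_of_not_mem P (α * c) hαc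
    have hpmin := hS p hp
    have hprime : p.IsPrime := hp.1
    obtain ⟨s, hsp, hs⟩ := hN p (height_le_one_of_mem_minimalPrimes hpmin) c hc
    apply hsp
    apply hle
    have : s * (α * c) = α * (s * c) := by ring
    rw [this]
    exact hαP _ hs

/-- The inductive step: `B ⧸ (P + α B)` again has only minimal associated primes. -/
theorem S1_sup_span (h𝔐N : 𝔐 ≤ nilradical B)
    (hN : ∀ (q : Ideal B) [q.IsPrime], q.height ≤ 1 → ∀ b ∈ nilradical B,
      ∃ s, s ∉ q ∧ s * b ∈ 𝔐)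
    (hαP : ∀ x ∈ 𝔐, α * x ∈ P)
    (hFS : ∀ (q : Ideal B) [q.IsPrime], q.height ≤ 1 → ∀ c, α * c ∈ P → ∃ s, s ∉ q ∧ s * c ∈ 𝔐)
    (hS : S1 P)
    (hH1 : ∀ (p : Ideal B) [p.IsPrime], p.height ≤ 1 → ∀ t, (∀ q ∈ minimalPrimes B, t ∉ q) →
      ∀ b, t * b ∈ P ⊔ Ideal.span {α} → ∃ s, s ∉ p ∧ s * b ∈ P ⊔ Ideal.span {α})
    (hS2 : ∀ (p : Ideal B) [p.IsPrime], 2 ≤ p.height → ∀ t ∈ p,
      (∀ q ∈ minimalPrimes B, t ∉ q) →
      ∃ u ∈ p, ∀ c y, u * c - t * y ∈ nilradical B → ∃ e, c - t * e ∈ nilradical B) :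
    S1 (P ⊔ Ideal.span {α}) := by
  rintro p ⟨hprime, b, hb⟩
  by_contra hpmin
  obtain ⟨t, htp, ht⟩ := exists_mem_not_mem_minimalPrimes p hpmin
  have hb1 : b ∉ P ⊔ Ideal.span {α} := by
    intro h
    have : (1 : B) ∈ p := (hb 1).mpr (by simpa using h)
    exact hprime.ne_top ((Ideal.eq_top_iff_one _).mpr this)
  have hcol := colon_eq_nilradical 𝔐 P α h𝔐N hN hαP hFS hS
  rcases le_or_gt p.height 1 with hht | hht
  · have htb : t * b ∈ P ⊔ Ideal.span {α} := (hb t).mp htp
    obtain ⟨s, hsp, hs⟩ := hH1 p hht t ht b htb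
    exact hsp ((hb s).mpr hs)
  · have h2 : 2 ≤ p.height := by
      have := Order.add_one_le_of_lt hht
      rwa [one_add_one_eq_two] at this
    obtain ⟨u, hup, hu⟩ := hS2 p h2 t htp ht
    have htb := (hb t).mp htp
    have hub := (hb u).mp hup
    obtain ⟨j₁, hj₁, x₁, hx₁, e₁⟩ := Submodule.mem_sup.mp htb
    obtain ⟨c, rfl⟩ := Ideal.mem_span_singleton'.mp hx₁
    obtain ⟨j₂, hj₂, x₂, hx₂, e₂⟩ := Submodule.mem_sup.mp hub
    obtain ⟨d, rfl⟩ := Ideal.mem_span_singleton'.mp hx₂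
    have h3 : α * (u * c - t * d) ∈ P := by
      have : α * (u * c - t * d) = t * j₂ - u * j₁ := by
        linear_combination u * e₁ - t * e₂
      rw [this]
      exact P.sub_mem (P.mul_mem_left _ hj₂) (P.mul_mem_left _ hj₁)
    have h4 := (hcol (u * c - t * d)).mp h3
    obtain ⟨e, he⟩ := hu c d h4
    have h5 : α * (c - t * e) ∈ P := (hcol _).mpr he
    have h6 : t * (b - α * e) ∈ P := by
      have : t * (b - α * e) = j₁ + α * (c - t * e) := by
        linear_combination -e₁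
      rw [this]
      exact P.add_mem hj₁ h5
    have h7 := mem_of_mul_mem_of_S1 hS ht h6
    apply hb1
    have : b = (b - α * e) + e * α := by ring
    rw [this]
    exact Submodule.add_mem_sup h7 (Ideal.mem_span_singleton'.mpr ⟨e, rfl⟩)

end Step

end Groth.Agent.Lib.Helper49.Kollar
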