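import Mathlib
import Groth.Agent.Lib.Helper49.Kollar2

/-!
# Kollár's flatness criterion: lemmas involving the Artinian base `A`
-/

set_option autoImplicit false
universe u

namespace Groth.Agent.Lib.Helper49.Kollar

open IsLocalRing

section Base

variable {A : Type u} [CommRing A] [IsLocalRing A] [IsArtinianRing A]

/-- Below the maximal ideal of an Artinian local ring one can always add a "socle element". -/
theorem exists_socle (J : Ideal A) (hJ : J < maximalIdeal A) :
    ∃ a ∈ maximalIdeal A, a ∉ J ∧ ∀ r ∈ maximalIdeal A, r * a ∈ J := by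
  classical
  have hnil : IsNilpotent (maximalIdeal A) := by
    rw [← IsLocalRing.jacobson_eq_maximalIdeal (⊥ : Ideal A) bot_ne_top]
    exact IsArtinianRing.isNilpotent_jacobson_bot
  have hex : ∃ k : ℕ, (maximalIdeal A) ^ k ≤ J := by
    obtain ⟨n, hn⟩ := hnil
    exact ⟨n, by rw [hn]; exact bot_le⟩
  set k := Nat.find hex with hk
  have hkJ : (maximalIdeal A) ^ k ≤ J := Nat.find_spec hex
  have hk0 : k ≠ 0 := by
    intro h0
    rw [h0, pow_zero, Ideal.one_eq_top] at hkJ
    have : J = ⊤ := top_le_iff.mp hkJ
    exact (IsLocalRing.maximalIdeal.isMaximal A).ne_top (top_le_iff.mp (this ▸ hJ.le))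
  obtain ⟨k', hk'⟩ := Nat.exists_eq_succ_of_ne_zero hk0
  have hk'J : ¬ (maximalIdeal A) ^ k' ≤ J := Nat.find_min hex (by omega)
  have hk'0 : k' ≠ 0 := by
    intro h0
    rw [hk', h0] at hkJ
    simp only [Nat.succ_eq_add_one, zero_add, pow_one] at hkJ
    exact absurd (le_antisymm hJ.le hkJ) hJ.ne
  obtain ⟨a, hak, haJ⟩ := SetLike.not_le_iff_exists.mp hk'J
  refine ⟨a, Ideal.pow_le_self hk'0 hak, haJ, ?_⟩
  intro r hr
  apply hkJ
  rw [hk', Nat.succ_eq_add_one, pow_succ']
  exact Ideal.mul_mem_mul hr hak

variable {B : Type u} [CommRing B] [Algebra A B]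

omit [IsLocalRing A] [IsArtinianRing A] in
theorem map_sup_span (J : Ideal A) (a : A) :
    (J ⊔ Ideal.span {a}).map (algebraMap A B) =
      J.map (algebraMap A B) ⊔ Ideal.span {algebraMap A B a} := by
  rw [Ideal.map_sup, Ideal.map_span, Set.image_singleton]

omit [IsArtinianRing A] in
theorem mul_mem_map_of_socle (J : Ideal A) (a : A) (hma : ∀ r ∈ maximalIdeal A, r * a ∈ J)
    (x : B) (hx : x ∈ (maximalIdeal A).map (algebraMap A B)) :
    algebraMap A B a * x ∈ J.map (algebraMap A B) := by
  induction hx using Submodule.span_induction with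
  | mem x hx =>
    obtain ⟨r, hr, rfl⟩ := hx
    rw [← map_mul, mul_comm]
    exact Ideal.mem_map_of_mem _ (hma r hr)
  | zero => simp
  | add x y _ _ hx hy => rw [mul_add]; exact Ideal.add_mem _ hx hy
  | smul b x _ hx =>
    have : algebraMap A B a * (b • x) = b * (algebraMap A B a * x) := by
      rw [smul_eq_mul]; ring
    rw [this]
    exact Ideal.mul_mem_left _ _ hx

theorem map_maximalIdeal_le_nilradical :
    (maximalIdeal A).map (algebraMap A B) ≤ nilradical B := by
  rw [Ideal.map_le_iff_le_comap]
  intro r hr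
  rw [Ideal.mem_comap, mem_nilradical]
  have hnil : IsNilpotent (maximalIdeal A) := by
    rw [← IsLocalRing.jacobson_eq_maximalIdeal (⊥ : Ideal A) bot_ne_top]
    exact IsArtinianRing.isNilpotent_jacobson_bot
  obtain ⟨n, hn⟩ := hnil
  have : r ^ n = 0 := by
    have := Ideal.pow_mem_pow hr n
    rw [hn] at this
    exact this
  exact ⟨n, by rw [← map_pow, this, map_zero]⟩

end Base

section HeightOne

variable {A : Type u} [CommRing A] [IsLocalRing A] [IsArtinianRing A]
variable {B : Type u} [CommRing B] [Algebra A B]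

/-- At a prime `p` where `B_p` is flat over `A` with reduced fibre, an element `t` outside all
minimal primes is a nonzerodivisor on `B_p / J B_p` for every ideal `J ≤ 𝔪`. -/
theorem height_one_lemma (p : Ideal B) [p.IsPrime]
    (hflat : Module.Flat A (Localization.AtPrime p)) (hred : IsReduced (EGA4.FibLocRing A B p))
    (t : B) (ht : ∀ q ∈ minimalPrimes B, t ∉ q) :
    ∀ J : Ideal A, J ≤ maximalIdeal A → ∀ b : B, t * b ∈ J.map (algebraMap A B) →
      ∃ s, s ∉ p ∧ s * b ∈ J.map (algebraMap A B) := by
  intro J
  induction J using WellFoundedGT.induction with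
  | ind J ih =>
    intro hJ b hb
    by_cases hJm : J = maximalIdeal A
    · rw [hJm] at hb ⊢
      have h1 : b ∈ nilradical B :=
        mem_nilradical_of_mul_mem ht (map_maximalIdeal_le_nilradical hb)
      exact exists_mul_mem_of_isReduced_fibLocRing p hred b h1
    · have hlt : J < maximalIdeal A := lt_of_le_of_ne hJ hJm
      obtain ⟨a, ham, haJ, hma⟩ := exists_socle J hlt
      have hJJ' : J < J ⊔ Ideal.span {a} := by
        refine lt_of_le_of_ne le_sup_left ?_
        intro h
        apply haJ
        rw [h]
        exact Ideal.mem_sup_right (Ideal.mem_span_singleton_self a)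
      have hJ'm : J ⊔ Ideal.span {a} ≤ maximalIdeal A :=
        sup_le hJ ((Ideal.span_singleton_le_iff_mem _).mpr ham)
      have hb' : t * b ∈ (J ⊔ Ideal.span {a}).map (algebraMap A B) :=
        Ideal.map_mono le_sup_left hb
      obtain ⟨s, hsp, hs⟩ := ih (J ⊔ Ideal.span {a}) hJJ' hJ'm b hb'
      rw [map_sup_span] at hs
      obtain ⟨j, hj, x, hx, e⟩ := Submodule.mem_sup.mp hs
      obtain ⟨c, rfl⟩ := Ideal.mem_span_singleton'.mp hx
      have h1 : algebraMap A B a * (t * c) ∈ J.map (algebraMap A B) := by
        have : algebraMap A B a * (t * c) = s * (t * b) - t * j := by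
          linear_combination t * e
        rw [this]
        exact sub_mem (Ideal.mul_mem_left _ _ hb) (Ideal.mul_mem_left _ _ hj)
      obtain ⟨s', hs'p, hs'⟩ := exists_mul_mem_of_flat p hflat J a haJ (t * c) h1
      have h2 : s' * c ∈ nilradical B := by
        apply mem_nilradical_of_mul_mem ht
        have : t * (s' * c) = s' * (t * c) := by ring
        rw [this]
        exact map_maximalIdeal_le_nilradical hs'
      obtain ⟨s'', hs''p, hs''⟩ := exists_mul_mem_of_isReduced_fibLocRing p hred _ h2
      refine ⟨s'' * s' * s, ?_, ?_⟩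
      · intro hmem
        rcases (‹p.IsPrime›.mem_or_mem hmem) with h | h
        · rcases (‹p.IsPrime›.mem_or_mem h) with h | h
          · exact hs''p h
          · exact hs'p h
        · exact hsp h
      · have : s'' * s' * s * b = s'' * s' * j + algebraMap A B a * (s'' * (s' * c)) := by
          linear_combination (-(s'' * s')) * e
        rw [this]
        exact add_mem (Ideal.mul_mem_left _ _ hj) (mul_mem_map_of_socle J a hma _ hs'')

end HeightOne

end Groth.Agent.Lib.Helper49.Kollar
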