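import Mathlib

/-!
# Kollár's flatness criterion: the tensor step
`J ⊗ B → B` injective and `(J B : a) ⊆ 𝔪 B`, `𝔪 a ⊆ J` imply `(J + (a)) ⊗ B → B` injective.
-/

set_option autoImplicit false
universe u

namespace Groth.Agent.Lib.Helper49.Kollar

open TensorProduct

section Tensor

variable {A : Type u} [CommRing A] {B : Type u} [CommRing B] [Algebra A B]

theorem lid_rTensor_subtype_mem_map (J : Ideal A) (z : ↥J ⊗[A] B) :
    TensorProduct.lid A B (LinearMap.rTensor B (Submodule.subtype J) z) ∈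
      J.map (algebraMap A B) := by
  induction z using TensorProduct.induction_on with
  | zero => simp
  | tmul j b =>
    simp only [LinearMap.rTensor_tmul, Submodule.subtype_apply, TensorProduct.lid_tmul]
    rw [Algebra.smul_def]
    exact Ideal.mul_mem_right _ _ (Ideal.mem_map_of_mem _ j.2)
  | add x y hx hy =>
    rw [map_add, map_add]
    exact Ideal.add_mem _ hx hy

theorem rTensor_injective_sup_span (𝔪 J : Ideal A) (a : A) (hma : ∀ r ∈ 𝔪, r * a ∈ J)
    (hT : Function.Injective (LinearMap.rTensor B (Submodule.subtype J)))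
    (hcol : ∀ c : B, algebraMap A B a * c ∈ J.map (algebraMap A B) → c ∈ 𝔪.map (algebraMap A B)) :
    Function.Injective (LinearMap.rTensor B (Submodule.subtype (J ⊔ Ideal.span {a}))) := by
  set J' : Ideal A := J ⊔ Ideal.span {a} with hJ'
  let ι : ↥J →ₗ[A] ↥J' := Submodule.inclusion le_sup_left
  let a' : ↥J' := ⟨a, Ideal.mem_sup_right (Ideal.mem_span_singleton_self a)⟩
  have hcomp : (Submodule.subtype J').comp ι = Submodule.subtype J := by
    ext x; rfl
  have hcomp' : ∀ z' : ↥J ⊗[A] B, LinearMap.rTensor B (Submodule.subtype J')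
      (LinearMap.rTensor B ι z') = LinearMap.rTensor B (Submodule.subtype J) z' := by
    intro z'
    rw [← LinearMap.comp_apply, ← LinearMap.rTensor_comp, hcomp]
  -- Claim 1
  have claim1 : ∀ z : ↥J' ⊗[A] B, ∃ (z' : ↥J ⊗[A] B) (b : B),
      z = LinearMap.rTensor B ι z' + a' ⊗ₜ[A] b := by
    intro z
    induction z using TensorProduct.induction_on with
    | zero => exact ⟨0, 0, by simp⟩
    | tmul x b =>
      obtain ⟨j, hj, y, hy, e⟩ := Submodule.mem_sup.mp x.2
      obtain ⟨r, rfl⟩ := Ideal.mem_span_singleton'.mp hy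
      refine ⟨(⟨j, hj⟩ : ↥J) ⊗ₜ[A] b, r • b, ?_⟩
      have hx : x = ι ⟨j, hj⟩ + r • a' := by
        apply Subtype.ext
        simp only [Submodule.coe_add, Submodule.coe_smul, smul_eq_mul]
        exact e.symm
      rw [hx, TensorProduct.add_tmul, LinearMap.rTensor_tmul, TensorProduct.smul_tmul]
    | add z₁ z₂ h₁ h₂ =>
      obtain ⟨z₁', b₁, e₁⟩ := h₁
      obtain ⟨z₂', b₂, e₂⟩ := h₂
      refine ⟨z₁' + z₂', b₁ + b₂, ?_⟩
      rw [e₁, e₂, map_add, TensorProduct.tmul_add]
      abel
  -- Claim 3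
  have claim3 : ∀ b : B, b ∈ 𝔪.map (algebraMap A B) →
      a' ⊗ₜ[A] b ∈ LinearMap.range (LinearMap.rTensor B ι) := by
    intro b hb
    have hb' : b ∈ 𝔪 • (⊤ : Submodule A B) := by
      rw [Ideal.smul_top_eq_map]; exact hb
    clear hb
    induction hb' using Submodule.smul_induction_on' with
    | smul r hr n _ =>
      refine ⟨(⟨r * a, hma r hr⟩ : ↥J) ⊗ₜ[A] n, ?_⟩
      rw [LinearMap.rTensor_tmul, ← TensorProduct.smul_tmul]
      congr 1
    | add x _ y _ hx hy =>
      rw [TensorProduct.tmul_add]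
      exact Submodule.add_mem _ hx hy
  -- main
  rw [injective_iff_map_eq_zero]
  intro z hz
  obtain ⟨z', b, rfl⟩ := claim1 z
  have h1 : TensorProduct.lid A B (LinearMap.rTensor B (Submodule.subtype J')
      (LinearMap.rTensor B ι z' + a' ⊗ₜ[A] b)) = 0 := by rw [hz, map_zero]
  rw [map_add, map_add, hcomp', LinearMap.rTensor_tmul, TensorProduct.lid_tmul] at h1
  have h2 : algebraMap A B a * b ∈ J.map (algebraMap A B) := by
    have h3 := lid_rTensor_subtype_mem_map J z'
    have h4 : algebraMap A B a * b =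
        - TensorProduct.lid A B (LinearMap.rTensor B (Submodule.subtype J) z') := by
      rw [eq_neg_iff_add_eq_zero, add_comm, ← Algebra.smul_def]
      exact h1
    rw [h4]
    exact Ideal.neg_mem_iff _ |>.mpr h3
  obtain ⟨z'', hz''⟩ := claim3 b (hcol b h2)
  rw [← hz'', ← map_add] at hz ⊢
  rw [hcomp'] at hz
  rw [hT (hz.trans (map_zero _).symm), map_zero]

end Tensor

end Groth.Agent.Lib.Helper49.Kollar
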