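import Mathlib
import Groth.Agent.Lib.Helper49.Kollar3
import Groth.Agent.Lib.Helper49.Kollar4
import Groth.Agent.Lib.Helper54.LocalFlat2

/-!
# Kollár's flatness criterion: assembly (with `(S₁)`, `(S₂)` in elementwise form)
-/

set_option autoImplicit false
universe u

namespace Groth.Agent.Lib.Helper49.Kollar

open IsLocalRing TensorProduct

section Main

variable {A : Type u} [CommRing A] [IsLocalRing A] [IsArtinianRing A]
variable {B : Type u} [CommRing B] [Algebra A B] [IsNoetherianRing B]

/-- The step, for ideals of `A`. -/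
theorem step_main
    (hcodim : ∀ (q : Ideal B) [q.IsPrime], q.height ≤ 1 →
      Module.Flat A (Localization.AtPrime q) ∧ IsReduced (EGA4.FibLocRing A B q))
    (hS2 : ∀ (p : Ideal B) [p.IsPrime], 2 ≤ p.height → ∀ t ∈ p,
      (∀ q ∈ minimalPrimes B, t ∉ q) →
      ∃ u ∈ p, ∀ c y, u * c - t * y ∈ nilradical B → ∃ e, c - t * e ∈ nilradical B)
    (J : Ideal A) (hJ : J ≤ maximalIdeal A) (a : A) (ham : a ∈ maximalIdeal A) (haJ : a ∉ J)
    (hma : ∀ r ∈ maximalIdeal A, r * a ∈ J) (hS : S1 (J.map (algebraMap A B))) :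
    (∀ c : B, algebraMap A B a * c ∈ J.map (algebraMap A B) ↔ c ∈ nilradical B) ∧
      S1 ((J ⊔ Ideal.span {a}).map (algebraMap A B)) := by
  have h𝔐N : (maximalIdeal A).map (algebraMap A B) ≤ nilradical B :=
    map_maximalIdeal_le_nilradical
  have hN : ∀ (q : Ideal B) [q.IsPrime], q.height ≤ 1 → ∀ b ∈ nilradical B,
      ∃ s, s ∉ q ∧ s * b ∈ (maximalIdeal A).map (algebraMap A B) := by
    intro q _ hht b hb
    exact exists_mul_mem_of_isReduced_fibLocRing q (hcodim q hht).2 b hb
  have hαP := mul_mem_map_of_socle (B := B) J a hma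
  have hFS : ∀ (q : Ideal B) [q.IsPrime], q.height ≤ 1 → ∀ c,
      algebraMap A B a * c ∈ J.map (algebraMap A B) →
      ∃ s, s ∉ q ∧ s * c ∈ (maximalIdeal A).map (algebraMap A B) := by
    intro q _ hht c hc
    exact exists_mul_mem_of_flat q (hcodim q hht).1 J a haJ c hc
  refine ⟨colon_eq_nilradical _ _ _ h𝔐N hN hαP hFS hS, ?_⟩
  rw [map_sup_span]
  apply S1_sup_span _ _ _ h𝔐N hN hαP hFS hS _ hS2
  intro p _ hht t ht b hb
  have hJ'm : J ⊔ Ideal.span {a} ≤ maximalIdeal A :=
    sup_le hJ ((Ideal.span_singleton_le_iff_mem _).mpr ham)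
  have := height_one_lemma p (hcodim p hht).1 (hcodim p hht).2 t ht (J ⊔ Ideal.span {a}) hJ'm b
  rw [map_sup_span] at this
  exact this hb

variable (hcodim : ∀ (q : Ideal B) [q.IsPrime], q.height ≤ 1 →
      Module.Flat A (Localization.AtPrime q) ∧ IsReduced (EGA4.FibLocRing A B q))
    (hS2 : ∀ (p : Ideal B) [p.IsPrime], 2 ≤ p.height → ∀ t ∈ p,
      (∀ q ∈ minimalPrimes B, t ∉ q) →
      ∃ u ∈ p, ∀ c y, u * c - t * y ∈ nilradical B → ∃ e, c - t * e ∈ nilradical B)
    (hS0 : S1 (⊥ : Ideal B))

include hcodim hS2 hS0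

theorem S1_map_maximalIdeal : S1 ((maximalIdeal A).map (algebraMap A B)) := by
  have key : ∀ J : Ideal A, J ≤ maximalIdeal A → S1 (J.map (algebraMap A B)) →
      S1 ((maximalIdeal A).map (algebraMap A B)) := by
    intro J
    induction J using WellFoundedGT.induction with
    | ind J ih =>
      intro hJ hS
      by_cases hJm : J = maximalIdeal A
      · rwa [hJm] at hS
      · obtain ⟨a, ham, haJ, hma⟩ := exists_socle J (lt_of_le_of_ne hJ hJm)
        have hJJ' : J < J ⊔ Ideal.span {a} := by
          refine lt_of_le_of_ne le_sup_left ?_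
          intro h
          apply haJ
          rw [h]
          exact Ideal.mem_sup_right (Ideal.mem_span_singleton_self a)
        have hJ'm : J ⊔ Ideal.span {a} ≤ maximalIdeal A :=
          sup_le hJ ((Ideal.span_singleton_le_iff_mem _).mpr ham)
        exact ih _ hJJ' hJ'm (step_main hcodim hS2 J hJ a ham haJ hma hS).2
  apply key ⊥ bot_le
  rw [Ideal.map_bot]
  exact hS0

/-- **S14071 core**: the nilradical of `B` is `𝔪 B`. -/
theorem nilradical_eq_map_maximalIdeal :
    nilradical B = (maximalIdeal A).map (algebraMap A B) := by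
  apply le_antisymm _ map_maximalIdeal_le_nilradical
  intro b hb
  by_contra hbm
  obtain ⟨p, hp, hle⟩ := exists_isAssP_of_not_mem _ b hbm
  have hpmin := S1_map_maximalIdeal hcodim hS2 hS0 p hp
  have hprime : p.IsPrime := hp.1
  have hht := height_le_one_of_mem_minimalPrimes hpmin
  obtain ⟨s, hsp, hs⟩ := exists_mul_mem_of_isReduced_fibLocRing p (hcodim p hht).2 b hb
  exact hsp (hle s hs)

/-- **S14072 core**: `𝔪 ⊗ B → B` is injective. -/
theorem rTensor_maximalIdeal_injective :
    Function.Injective (LinearMap.rTensor B (Submodule.subtype (maximalIdeal A))) := by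
  have hNm := nilradical_eq_map_maximalIdeal hcodim hS2 hS0
  have key : ∀ J : Ideal A, J ≤ maximalIdeal A → S1 (J.map (algebraMap A B)) →
      Function.Injective (LinearMap.rTensor B (Submodule.subtype J)) →
      Function.Injective (LinearMap.rTensor B (Submodule.subtype (maximalIdeal A))) := by
    intro J
    induction J using WellFoundedGT.induction with
    | ind J ih =>
      intro hJ hS hT
      by_cases hJm : J = maximalIdeal A
      · rwa [hJm] at hT
      · obtain ⟨a, ham, haJ, hma⟩ := exists_socle J (lt_of_le_of_ne hJ hJm)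
        have hJJ' : J < J ⊔ Ideal.span {a} := by
          refine lt_of_le_of_ne le_sup_left ?_
          intro h
          apply haJ
          rw [h]
          exact Ideal.mem_sup_right (Ideal.mem_span_singleton_self a)
        have hJ'm : J ⊔ Ideal.span {a} ≤ maximalIdeal A :=
          sup_le hJ ((Ideal.span_singleton_le_iff_mem _).mpr ham)
        have hstep := step_main hcodim hS2 J hJ a ham haJ hma hS
        refine ih _ hJJ' hJ'm hstep.2 ?_
        apply rTensor_injective_sup_span (maximalIdeal A) J a hma hT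
        intro c hc
        rw [← hNm]
        exact (hstep.1 c).mp hc
  apply key ⊥ bot_le
  · rw [Ideal.map_bot]; exact hS0
  · intro x y _
    have : Subsingleton (↥(⊥ : Ideal A) ⊗[A] B) := by
      have : Subsingleton (↥(⊥ : Ideal A)) := by
        constructor
        intro a b
        apply Subtype.ext
        rw [(Submodule.mem_bot A).mp a.2, (Submodule.mem_bot A).mp b.2]
      infer_instance
    exact Subsingleton.elim _ _

/-- **S14072 core**: `B` is flat over `A`. -/
theorem flat_of_kollar : Module.Flat A B := by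
  have hnil : IsNilpotent (maximalIdeal A) := by
    rw [← IsLocalRing.jacobson_eq_maximalIdeal (⊥ : Ideal A) bot_ne_top]
    exact IsArtinianRing.isNilpotent_jacobson_bot
  have hfield : IsField (A ⧸ maximalIdeal A) :=
    (Ideal.Quotient.maximal_ideal_iff_isField_quotient _).mp (maximalIdeal.isMaximal A)
  let _ : Field (A ⧸ maximalIdeal A) := hfield.toField
  have hflat : Module.Flat (A ⧸ maximalIdeal A) ((A ⧸ maximalIdeal A) ⊗[A] B) := inferInstance
  exact Groth.Agent.Lib.Helper54.LocalFlat.flat_of_isNilpotent (maximalIdeal A) B hnil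
    (rTensor_maximalIdeal_injective hcodim hS2 hS0)

end Main

end Groth.Agent.Lib.Helper49.Kollar
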