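import Mathlib
import Groth.Agent.Lib.Helper49.Kollar5
import Groth.Agent.Lib.Helper49.DepthLoc
import Groth.Agent.Lib.Helper49.Serre2
import Groth.Agent.Lib.Helper29.Depth
import Groth.Agent.S2085

/-!
# Kollár's flatness criterion: from `(S₁)`, `(S₂)` (Prelude form) to the elementwise forms
-/

set_option autoImplicit false
universe u

namespace Groth.Agent.Lib.Helper49.Kollar

open IsLocalRing Groth.Agent.Lib.Helper49.Serre

section S1

variable {B : Type u} [CommRing B] [IsNoetherianRing B]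

theorem S1_bot_of_hasSk_one (hS1 : LocCoh.HasSk 1 B B) : S1 (⊥ : Ideal B) := by
  rintro p ⟨hprime, b, hb⟩
  have hass : p ∈ associatedPrimes B B := by
    rw [AssociatedPrimes.mem_iff, isAssociatedPrime_iff]
    refine ⟨hprime, b, ?_⟩
    ext s
    rw [Submodule.mem_colon_singleton, hb s]
    rfl
  have := (Groth.Agent.S2085.result (R := B) (M := B)).mpr hS1 p hass
  rw [annihilator_self] at this
  exact this

end S1

section Height

variable {B C : Type u} [CommRing B] [CommRing C] (g : B →+* C) (hg : Function.Surjective g)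
  (hker : RingHom.ker g ≤ nilradical B)

include hg hker

/-- For a surjection with nilpotent kernel heights of primes do not drop. -/
theorem height_comap_le_of_surjective_of_ker_le_nilradical (P : Ideal C) [P.IsPrime] :
    (P.comap g).height ≤ P.height := by
  have hkerle : ∀ Q : Ideal B, Q.IsPrime → RingHom.ker g ≤ Q := fun Q hQ =>
    hker.trans (nilradical_le_prime Q)
  let f : PrimeSpectrum B → PrimeSpectrum C := fun Q =>
    ⟨Q.asIdeal.map g, Ideal.map_isPrime_of_surjective hg (hkerle Q.asIdeal Q.2)⟩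
  have hcm : ∀ Q : PrimeSpectrum B, (Q.asIdeal.map g).comap g = Q.asIdeal := by
    intro Q
    rw [Ideal.comap_map_of_surjective g hg, ← RingHom.ker_eq_comap_bot]
    exact sup_eq_left.mpr (hkerle Q.asIdeal Q.2)
  have hf : StrictMono f := by
    intro Q₁ Q₂ h
    refine lt_of_le_of_ne ?_ ?_
    · exact Ideal.map_mono (show Q₁.asIdeal ≤ Q₂.asIdeal from h.le)
    · intro heq
      have h1 : (f Q₁).asIdeal = (f Q₂).asIdeal := congrArg PrimeSpectrum.asIdeal heq
      have h2 : Q₁.asIdeal = Q₂.asIdeal := by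
        rw [← hcm Q₁, ← hcm Q₂]
        exact congrArg (Ideal.comap g) h1
      exact h.ne (PrimeSpectrum.ext h2)
  have hP : f ⟨P.comap g, inferInstance⟩ = ⟨P, inferInstance⟩ := by
    apply PrimeSpectrum.ext
    exact Ideal.map_comap_of_surjective g hg P
  have h1 := Order.height_le_height_apply_of_strictMono f hf ⟨P.comap g, inferInstance⟩
  rw [hP] at h1
  rw [← PrimeSpectrum.height_eq_orderHeight, ← PrimeSpectrum.height_eq_orderHeight] at h1
  exact h1

end Height

section S2

variable {B : Type u} [CommRing B] [IsNoetherianRing B]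

open Pointwise in
theorem hS2_of_hasSk_two (hS2 : LocCoh.HasSk 2 (B ⧸ nilradical B) (B ⧸ nilradical B))
    (p : Ideal B) [p.IsPrime] (hp : 2 ≤ p.height) (t : B) (htp : t ∈ p)
    (ht : ∀ q ∈ minimalPrimes B, t ∉ q) :
    ∃ u ∈ p, ∀ c y, u * c - t * y ∈ nilradical B → ∃ e, c - t * e ∈ nilradical B := by
  set g : B →+* (B ⧸ nilradical B) := Ideal.Quotient.mk (nilradical B) with hgdef
  have hg : Function.Surjective g := Ideal.Quotient.mk_surjective
  have hker : RingHom.ker g ≤ nilradical B := by rw [hgdef, Ideal.mk_ker]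
  set I : Ideal (B ⧸ nilradical B) := p.map g with hI
  have hNp : nilradical B ≤ p := nilradical_le_prime p
  have hIcomap : I.comap g = p := by
    rw [hI, Ideal.comap_map_of_surjective g hg, ← RingHom.ker_eq_comap_bot, hgdef, Ideal.mk_ker]
    exact sup_eq_left.mpr hNp
  have hzero : ∀ b : B, g b = 0 ↔ b ∈ nilradical B := fun b => Ideal.Quotient.eq_zero_iff_mem
  have hreg : IsSMulRegular (B ⧸ nilradical B) (g t) := by
    intro x y hxy
    obtain ⟨x, rfl⟩ := hg x
    obtain ⟨y, rfl⟩ := hg y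
    have h1 : t * (x - y) ∈ nilradical B := by
      rw [← hzero, map_mul, map_sub, mul_sub]
      exact sub_eq_zero.mpr hxy
    have h2 := mem_nilradical_of_mul_mem ht h1
    rw [← sub_eq_zero, ← map_sub]
    exact (hzero _).mpr h2
  have hdepth : ((2 : ℕ) : ℕ∞) ≤ LocCoh.idealDepth I (B ⧸ nilradical B) := by
    apply le_idealDepth_of_hasSk 2 (B ⧸ nilradical B) I hS2
    intro P hIP _
    rw [supportDim_localizedModule_self]
    have h1 : p ≤ P.asIdeal.comap g := by
      rw [← hIcomap]; exact Ideal.comap_mono hIP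
    have h2 := height_comap_le_of_surjective_of_ker_le_nilradical g hg hker P.asIdeal
    have h3 : (2 : ℕ∞) ≤ P.asIdeal.height := hp.trans ((Ideal.height_mono h1).trans h2)
    have h4 : ((2 : ℕ∞) : WithBot ℕ∞) ≤ ((P.asIdeal.height : ℕ∞) : WithBot ℕ∞) :=
      WithBot.coe_le_coe.mpr h3
    exact h4
  have hItop : I • (⊤ : Submodule (B ⧸ nilradical B) (B ⧸ nilradical B)) ≠ ⊤ := by
    rw [smul_eq_mul, Ideal.mul_top]
    intro h
    have : p = ⊤ := by rw [← hIcomap, h, Ideal.comap_top]
    exact ‹p.IsPrime›.ne_top this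
  have hgt : g t ∈ I := Ideal.mem_map_of_mem g htp
  have h1 := Groth.Agent.Lib.Helper29.DepthLib.idealDepth_quotSMulTop_add_one I
    (B ⧸ nilradical B) hItop hgt hreg
  have h2 : ((1 : ℕ) : ℕ∞) ≤ LocCoh.idealDepth I (QuotSMulTop (g t) (B ⧸ nilradical B)) := by
    rw [← h1] at hdepth
    have h2' : (1 : ℕ∞) + 1 ≤ LocCoh.idealDepth I (QuotSMulTop (g t) (B ⧸ nilradical B)) + 1 := by
      rw [one_add_one_eq_two]; exact_mod_cast hdepth
    exact_mod_cast (ENat.add_le_add_iff_right ENat.one_ne_top).mp h2'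
  have h3 := (le_idealDepth_iff 1 (QuotSMulTop (g t) (B ⧸ nilradical B)) I).mp h2
  obtain ⟨ū, hūI, hūreg⟩ := exists_isSMulRegular_of_forall_depth_pos
    (QuotSMulTop (g t) (B ⧸ nilradical B)) I (by
      intro P hP hIP
      exact_mod_cast h3 P hIP)
  obtain ⟨u, hup, rfl⟩ := (Ideal.mem_map_iff_of_surjective g hg).mp hūI
  refine ⟨u, hup, ?_⟩
  intro c y hcy
  have h4 : g u * g c = g t * g y := by
    rw [← sub_eq_zero, ← map_mul, ← map_mul, ← map_sub]
    exact (hzero _).mpr hcy
  have h5 : (g u) • (Submodule.Quotient.mk (g c) : QuotSMulTop (g t) (B ⧸ nilradical B)) = 0 := by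
    rw [← Submodule.Quotient.mk_smul, Submodule.Quotient.mk_eq_zero, smul_eq_mul, h4]
    exact Submodule.smul_mem_pointwise_smul _ _ _ Submodule.mem_top
  have h6 : (Submodule.Quotient.mk (g c) : QuotSMulTop (g t) (B ⧸ nilradical B)) = 0 :=
    hūreg (by
      show g u • (Submodule.Quotient.mk (g c) : QuotSMulTop (g t) (B ⧸ nilradical B)) = g u • 0
      rw [h5, smul_zero])
  rw [Submodule.Quotient.mk_eq_zero] at h6
  obtain ⟨ē, -, he⟩ := (Submodule.mem_smul_pointwise_iff_exists _ _ _).mp h6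
  obtain ⟨e, rfl⟩ := hg ē
  refine ⟨e, ?_⟩
  rw [← hzero, map_sub, map_mul, sub_eq_zero]
  exact he.symm

end S2

end Groth.Agent.Lib.Helper49.Kollar
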