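import Mathlib

/-!
# Transfer of "unramified at a prime" along base change and localization (helper49)
-/

set_option autoImplicit false
universe u

open TensorProduct

namespace Groth.Agent.Lib.Helper49.QFUnramLoc

/-- Support of a base change of a finite module: `Q ∈ Supp (C ⊗ N) ↔ Q ∩ S ∈ Supp N`. -/
theorem mem_support_baseChange_iff {S C N : Type*} [CommRing S] [CommRing C] [Algebra S C]
    [AddCommGroup N] [Module S N] [Module.Finite S N] (Q : Ideal C) [Q.IsPrime] :
    (⟨Q, inferInstance⟩ : PrimeSpectrum C) ∈ Module.support C (C ⊗[S] N) ↔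
      (⟨Q.under S, inferInstance⟩ : PrimeSpectrum S) ∈ Module.support S N := by
  rw [Module.mem_support_iff_nontrivial_residueField_tensorProduct,
    Module.mem_support_iff_nontrivial_residueField_tensorProduct]
  set q := Q.under S with hq
  let φ : q.ResidueField →+* Q.ResidueField :=
    Ideal.ResidueField.map q Q (algebraMap S C) rfl
  letI : Algebra q.ResidueField Q.ResidueField := φ.toAlgebra
  haveI : IsScalarTower S q.ResidueField Q.ResidueField := by
    refine IsScalarTower.of_algebraMap_eq fun x => ?_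
    have := Ideal.ResidueField.map_algebraMap q Q (algebraMap S C) rfl x
    rw [RingHom.algebraMap_toAlgebra, this, ← IsScalarTower.algebraMap_apply]
  let e1 : Q.ResidueField ⊗[C] (C ⊗[S] N) ≃ₗ[Q.ResidueField] Q.ResidueField ⊗[S] N :=
    TensorProduct.AlgebraTensorModule.cancelBaseChange S C Q.ResidueField Q.ResidueField N
  let e2 : Q.ResidueField ⊗[q.ResidueField] (q.ResidueField ⊗[S] N) ≃ₗ[Q.ResidueField]
      Q.ResidueField ⊗[S] N :=
    TensorProduct.AlgebraTensorModule.cancelBaseChange S q.ResidueField Q.ResidueField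
      Q.ResidueField N
  show Nontrivial (Q.ResidueField ⊗[C] (C ⊗[S] N)) ↔ Nontrivial (q.ResidueField ⊗[S] N)
  rw [e1.nontrivial_congr, ← e2.nontrivial_congr,
    Module.FaithfullyFlat.nontrivial_tensorProduct_iff_right]

/-- Unramifiedness at a prime only depends on the support of the module of differentials; if
`Ω[B/R₂] ≅ B ⊗[A] Ω[A/R₁]` then `B` is unramified at `Q` iff `A` is unramified at `Q ∩ A`. -/
theorem isUnramifiedAt_iff_of_equiv {R₁ R₂ A B : Type*} [CommRing R₁] [CommRing R₂] [CommRing A]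
    [CommRing B] [Algebra R₁ A] [Algebra R₂ B] [Algebra A B] [Algebra.EssFiniteType R₁ A]
    (e : B ⊗[A] Ω[A⁄R₁] ≃ₗ[B] Ω[B⁄R₂]) (Q : Ideal B) [Q.IsPrime] :
    Algebra.IsUnramifiedAt R₂ Q ↔ Algebra.IsUnramifiedAt R₁ (Q.under A) := by
  have h1 : Algebra.IsUnramifiedAt R₂ Q ↔
      (⟨Q, inferInstance⟩ : PrimeSpectrum B) ∈ Algebra.unramifiedLocus R₂ B := Iff.rfl
  have h2 : Algebra.IsUnramifiedAt R₁ (Q.under A) ↔
      (⟨Q.under A, inferInstance⟩ : PrimeSpectrum A) ∈ Algebra.unramifiedLocus R₁ A := Iff.rfl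
  rw [h1, h2, Algebra.unramifiedLocus_eq_compl_support, Algebra.unramifiedLocus_eq_compl_support,
    Set.mem_compl_iff, Set.mem_compl_iff, ← e.support_eq, mem_support_baseChange_iff]

attribute [local instance] Algebra.TensorProduct.rightAlgebra in
/-- base change: `R' ⊗[R] S` is unramified over `R'` at `Q` iff `S` is unramified over `R` at
`Q ∩ S`. -/
theorem isUnramifiedAt_baseChange_iff {R R' S : Type*} [CommRing R] [CommRing R'] [CommRing S]
    [Algebra R R'] [Algebra R S] [Algebra.EssFiniteType R S] (Q : Ideal (R' ⊗[R] S)) [Q.IsPrime] :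
    Algebra.IsUnramifiedAt R' Q ↔
      Algebra.IsUnramifiedAt R (Q.comap Algebra.TensorProduct.includeRight.toRingHom) :=
  isUnramifiedAt_iff_of_equiv
    (KaehlerDifferential.tensorKaehlerEquiv R R' S (R' ⊗[R] S)) Q

/-- localization of the top ring (and passage to a formally unramified extension of the base,
e.g. a localization): `A' = W⁻¹A` is unramified over `R₀'` at `𝔮` iff `A` is unramified over `R₀`
at `𝔮 ∩ A`. -/
theorem isUnramifiedAt_localization_iff {R₀ R₀' A A' : Type*} [CommRing R₀] [CommRing R₀']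
    [CommRing A] [CommRing A'] [Algebra R₀ R₀'] [Algebra R₀ A] [Algebra R₀' A'] [Algebra A A']
    [Algebra R₀ A'] [IsScalarTower R₀ R₀' A'] [IsScalarTower R₀ A A']
    [Algebra.FormallyUnramified R₀ R₀'] (W : Submonoid A) [IsLocalization W A']
    (𝔮 : Ideal A') [𝔮.IsPrime] :
    Algebra.IsUnramifiedAt R₀' 𝔮 ↔ Algebra.IsUnramifiedAt R₀ (𝔮.under A) := by
  haveI t1 : IsScalarTower R₀ R₀' (Localization.AtPrime 𝔮) := by
    refine IsScalarTower.of_algebraMap_eq fun x => ?_
    rw [IsScalarTower.algebraMap_apply R₀ A' (Localization.AtPrime 𝔮),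
      IsScalarTower.algebraMap_apply R₀' A' (Localization.AtPrime 𝔮),
      ← IsScalarTower.algebraMap_apply R₀ R₀' A']
  haveI t2 : IsScalarTower R₀ A (Localization.AtPrime 𝔮) := by
    refine IsScalarTower.of_algebraMap_eq fun x => ?_
    rw [IsScalarTower.algebraMap_apply R₀ A' (Localization.AtPrime 𝔮),
      IsScalarTower.algebraMap_apply A A' (Localization.AtPrime 𝔮),
      ← IsScalarTower.algebraMap_apply R₀ A A']
  haveI : IsLocalization.AtPrime (Localization.AtPrime 𝔮) (𝔮.under A) :=
    IsLocalization.isLocalization_isLocalization_atPrime_isLocalization W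
      (Localization.AtPrime 𝔮) 𝔮
  let e : Localization.AtPrime (𝔮.under A) ≃ₐ[A] Localization.AtPrime 𝔮 :=
    IsLocalization.algEquiv (𝔮.under A).primeCompl _ _
  let e' : Localization.AtPrime (𝔮.under A) ≃ₐ[R₀] Localization.AtPrime 𝔮 :=
    e.restrictScalars R₀
  constructor
  · intro h
    haveI : Algebra.FormallyUnramified R₀' (Localization.AtPrime 𝔮) := h
    haveI : Algebra.FormallyUnramified R₀ (Localization.AtPrime 𝔮) :=
      Algebra.FormallyUnramified.comp R₀ R₀' _
    exact Algebra.FormallyUnramified.of_equiv e'.symm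
  · intro h
    haveI : Algebra.FormallyUnramified R₀ (Localization.AtPrime (𝔮.under A)) := h
    haveI : Algebra.FormallyUnramified R₀ (Localization.AtPrime 𝔮) :=
      Algebra.FormallyUnramified.of_equiv e'
    exact Algebra.FormallyUnramified.of_restrictScalars R₀ R₀' _

end Groth.Agent.Lib.Helper49.QFUnramLoc
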