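import Mathlib
import Groth.Agent.Lib.Helper45.DiscEtale
import Groth.Agent.Lib.Helper49.QFUnramLoc

/-!
# Discriminant and ramified primes of a finite free algebra (helper49)

If the discriminant of a finite free `L`-algebra `M` lies in a prime `P₁` of `L`, then `M` is
ramified over `L` at some prime lying exactly over `P₁`.
-/

set_option autoImplicit false
universe u

open TensorProduct

namespace Groth.Agent.Lib.Helper49.QFDisc

open Groth.Agent.Lib.Helper49.QFUnramLoc

theorem exists_ramified_of_discr_mem {L M : Type*} [CommRing L] [CommRing M] [Algebra L M]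
    {ι : Type*} [Fintype ι] [DecidableEq ι] (b : Module.Basis ι L M)
    (P₁ : Ideal L) [P₁.IsPrime] (hd : Algebra.discr L b ∈ P₁) :
    ∃ 𝔔 : Ideal M, ∃ _ : 𝔔.IsPrime, 𝔔.under L = P₁ ∧ ¬ Algebra.IsUnramifiedAt L 𝔔 := by
  classical
  let L₁ := Localization.AtPrime P₁
  let W := Algebra.algebraMapSubmonoid M P₁.primeCompl
  let M₁ := Localization W
  let b₁ : Module.Basis ι L₁ M₁ := b.localizationLocalization L₁ P₁.primeCompl M₁
  have hdisc : Algebra.discr L₁ b₁ = algebraMap L L₁ (Algebra.discr L b) :=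
    Algebra.discr_localizationLocalization L P₁.primeCompl M₁ b
  have hnu : ¬ IsUnit (Algebra.discr L₁ b₁) := by
    rw [hdisc]
    intro hu
    have : algebraMap L L₁ (Algebra.discr L b) ∈ IsLocalRing.maximalIdeal L₁ := by
      rw [IsLocalization.AtPrime.to_map_mem_maximal_iff L₁ P₁]
      exact hd
    exact this hu
  haveI : Module.Finite L₁ M₁ := Module.Finite.of_basis b₁
  haveI : Module.Free L₁ M₁ := Module.Free.of_basis b₁
  have hnet : ¬ Algebra.Etale L₁ M₁ := fun h =>
    hnu ((Groth.Agent.Lib.Helper45.DiscEtale.etale_iff_isUnit_discr b₁).mp h)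
  have hnunr : ¬ Algebra.FormallyUnramified L₁ M₁ := by
    intro h
    haveI : Module.FinitePresentation L₁ M₁ := Module.finitePresentation_of_projective _ _
    haveI : Algebra.FinitePresentation L₁ M₁ := Algebra.FinitePresentation.of_finitePresentation _ _
    exact hnet Algebra.Etale.of_formallyUnramified_of_flat
  rw [Algebra.formallyUnramified_iff_forall] at hnunr
  push Not at hnunr
  obtain ⟨𝔔₀, h𝔔₀⟩ := hnunr
  -- go up to a maximal ideal
  obtain ⟨𝔪, h𝔪max, h𝔪le⟩ := Ideal.exists_le_maximal 𝔔₀.asIdeal 𝔔₀.2.ne_top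
  haveI : 𝔪.IsPrime := h𝔪max.isPrime
  have h𝔪ram : ¬ Algebra.IsUnramifiedAt L₁ 𝔪 := by
    intro h
    have h0 : (⟨𝔪, inferInstance⟩ : PrimeSpectrum M₁) ∈ Algebra.unramifiedLocus L₁ M₁ := h
    have h1 : 𝔔₀ ∉ Algebra.unramifiedLocus L₁ M₁ := h𝔔₀
    rw [Algebra.unramifiedLocus_eq_compl_support] at h0 h1
    simp only [Set.mem_compl_iff, not_not] at h0 h1
    exact h0 (Module.mem_support_mono (p := 𝔔₀) (q := ⟨𝔪, inferInstance⟩) h𝔪le h1)
  haveI : Algebra.IsIntegral L₁ M₁ := Algebra.IsIntegral.of_finite L₁ M₁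
  have h𝔪under : 𝔪.under L₁ = IsLocalRing.maximalIdeal L₁ := by
    have : (𝔪.under L₁).IsMaximal := Ideal.isMaximal_comap_of_isIntegral_of_isMaximal 𝔪
    exact IsLocalRing.eq_maximalIdeal this
  refine ⟨𝔪.under M, inferInstance, ?_, ?_⟩
  · have h1 : (𝔪.under M).under L = (𝔪.under L₁).under L := by
      simp only [Ideal.under, Ideal.comap_comap]
      congr 1
      rw [← IsScalarTower.algebraMap_eq, ← IsScalarTower.algebraMap_eq]
    rw [h1, h𝔪under]
    exact IsLocalization.AtPrime.under_maximalIdeal L₁ P₁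
  · intro h
    exact h𝔪ram ((isUnramifiedAt_localization_iff (R₀ := L) (R₀' := L₁) (A := M) (A' := M₁)
      W 𝔪).mpr h)

end Groth.Agent.Lib.Helper49.QFDisc
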