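import Mathlib

/-!
# Height lemmas used for purity of the ramification locus of flat quasi-finite maps (helper49)

* `exists_height_one_mem`: in a Noetherian ring, an element of a prime of height `≥ 1` lies in a
  prime of height exactly one contained in it.
* `height_eq_height_under`: for a going-down algebra which is quasi-finite at `q`, `ht q = ht (q ∩ R)`.
-/

set_option autoImplicit false
universe u

namespace Groth.Agent.Lib.Helper49.QFHeight

/-- In a Noetherian ring, if `d ∈ Q` with `Q` a prime of height `≥ 1`, there is a prime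
`Q₁ ≤ Q` of height exactly one containing `d`. -/
theorem exists_height_one_mem {L : Type*} [CommRing L] [IsNoetherianRing L] :
    ∀ (n : ℕ) (Q : Ideal L) [Q.IsPrime], Q.height = n → 1 ≤ n → ∀ d ∈ Q,
      ∃ Q₁ : Ideal L, Q₁.IsPrime ∧ Q₁ ≤ Q ∧ Q₁.height = 1 ∧ d ∈ Q₁ := by
  intro n
  induction n using Nat.strong_induction_on with
  | _ n ih =>
  intro Q hQ hn h1 d hd
  by_cases hn1 : n = 1
  · subst hn1
    exact ⟨Q, hQ, le_rfl, by simpa using hn, hd⟩
  have hn2 : 2 ≤ n := by omega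
  -- a chain p0 < p1 < Q
  have hnot1 : ¬ Q.height ≤ (1 : ℕ) := by
    rw [hn]; intro h
    have : (n : ℕ∞) ≤ 1 := by exact_mod_cast h
    have : n ≤ 1 := by exact_mod_cast this
    omega
  rw [Ideal.height_le_iff] at hnot1
  push Not at hnot1
  obtain ⟨p1, hp1, hp1Q, hp1h⟩ := hnot1
  have hp1h' : 1 ≤ p1.height := by
    have : ((1 : ℕ) : ℕ∞) ≤ p1.height := hp1h
    simpa using this
  have hnot0 : ¬ p1.height ≤ (0 : ℕ) := by
    intro h
    have : (1 : ℕ∞) ≤ 0 := hp1h'.trans (by simpa using h)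
    simp at this
  rw [Ideal.height_le_iff] at hnot0
  push Not at hnot0
  obtain ⟨p0, hp0, hp0p1, -⟩ := hnot0
  -- heights of smaller primes are smaller
  have hlt : ∀ (Q' : Ideal L) [Q'.IsPrime], Q' < Q → ∃ m : ℕ, Q'.height = m ∧ m < n := by
    intro Q' _ hQ'
    have h1' := Ideal.height_add_one_le_of_lt_of_isPrime hQ'
    rw [hn] at h1'
    have hfin : Q'.height ≠ ⊤ := by
      intro htop
      rw [htop] at h1'
      simp at h1'
    obtain ⟨m, hm⟩ := ENat.ne_top_iff_exists.mp hfin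
    refine ⟨m, hm.symm, ?_⟩
    rw [← hm] at h1'
    have : ((m + 1 : ℕ) : ℕ∞) ≤ n := by exact_mod_cast h1'
    have : m + 1 ≤ n := by exact_mod_cast this
    omega
  by_cases hdp1 : d ∈ p1
  · obtain ⟨m, hm, hmn⟩ := hlt p1 hp1Q
    have hm1 : 1 ≤ m := by
      rw [hm] at hp1h'
      exact_mod_cast hp1h'
    obtain ⟨Q₁, hQ₁, hQ₁le, hQ₁h, hdQ₁⟩ := ih m hmn p1 hm hm1 d hdp1
    exact ⟨Q₁, hQ₁, hQ₁le.trans hp1Q.le, hQ₁h, hdQ₁⟩
  · have hdp0 : d ∉ p0 := fun h => hdp1 (hp0p1.le h)
    have hIQ : p0 ⊔ Ideal.span {d} ≤ Q := by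
      refine sup_le (hp0p1.le.trans hp1Q.le) ?_
      rw [Ideal.span_singleton_le_iff_mem]; exact hd
    obtain ⟨Q', hQ'min, hQ'Q⟩ := Ideal.exists_minimalPrimes_le hIQ
    haveI hQ'p : Q'.IsPrime := hQ'min.1.1
    have hp0Q' : p0 ≤ Q' := le_sup_left.trans hQ'min.1.2
    have hdQ' : d ∈ Q' := hQ'min.1.2 (Ideal.mem_sup_right (Ideal.subset_span rfl))
    have hkrull := Ideal.map_height_le_one_of_mem_minimalPrimes hQ'min
    -- Q' ≠ Q
    have hne : Q' ≠ Q := by
      intro heq
      rw [heq] at hkrull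
      -- in L/p0 : ⊥ < p1/p0 < Q/p0
      have hsurj : Function.Surjective (Ideal.Quotient.mk p0) := Ideal.Quotient.mk_surjective
      have hker1 : RingHom.ker (Ideal.Quotient.mk p0) ≤ p1 := by
        rw [Ideal.mk_ker]; exact hp0p1.le
      have hkerQ : RingHom.ker (Ideal.Quotient.mk p0) ≤ Q := hker1.trans hp1Q.le
      haveI : (p1.map (Ideal.Quotient.mk p0)).IsPrime :=
        Ideal.map_isPrime_of_surjective hsurj hker1
      haveI : (Q.map (Ideal.Quotient.mk p0)).IsPrime :=
        Ideal.map_isPrime_of_surjective hsurj hkerQ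
      have hlt1 : p1.map (Ideal.Quotient.mk p0) < Q.map (Ideal.Quotient.mk p0) := by
        refine lt_of_le_of_ne (Ideal.map_mono hp1Q.le) ?_
        intro he
        have := congrArg (Ideal.comap (Ideal.Quotient.mk p0)) he
        rw [Ideal.comap_map_of_surjective _ hsurj, Ideal.comap_map_of_surjective _ hsurj,
          ← RingHom.ker_eq_comap_bot, sup_eq_left.mpr hker1, sup_eq_left.mpr hkerQ] at this
        exact hp1Q.ne this
      have hlt0 : (⊥ : Ideal (L ⧸ p0)) < p1.map (Ideal.Quotient.mk p0) := by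
        rw [bot_lt_iff_ne_bot]
        intro he
        have := congrArg (Ideal.comap (Ideal.Quotient.mk p0)) he
        rw [Ideal.comap_map_of_surjective _ hsurj, ← RingHom.ker_eq_comap_bot,
          sup_eq_left.mpr hker1, Ideal.mk_ker] at this
        exact hp0p1.ne this.symm
      haveI : (⊥ : Ideal (L ⧸ p0)).IsPrime := Ideal.isPrime_bot
      have h1 := Ideal.height_add_one_le_of_lt_of_isPrime hlt0
      have h2 := Ideal.height_add_one_le_of_lt_of_isPrime hlt1
      have h3 : (1 : ℕ∞) + 1 ≤ 1 := by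
        calc (1 : ℕ∞) + 1 ≤ (p1.map (Ideal.Quotient.mk p0)).height + 1 := by
              gcongr
              exact le_trans (by simp) h1
          _ ≤ _ := h2
          _ ≤ 1 := hkrull
      norm_num at h3
    have hQ'ltQ : Q' < Q := lt_of_le_of_ne hQ'Q hne
    obtain ⟨m, hm, hmn⟩ := hlt Q' hQ'ltQ
    have hp0ltQ' : p0 < Q' := lt_of_le_of_ne hp0Q' (fun h => hdp0 (h ▸ hdQ'))
    have hm1 : 1 ≤ m := by
      have := Ideal.height_add_one_le_of_lt_of_isPrime hp0ltQ'
      rw [hm] at this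
      have h' : (1 : ℕ∞) ≤ m := le_trans (by simp) this
      exact_mod_cast h'
    obtain ⟨Q₁, hQ₁, hQ₁le, hQ₁h, hdQ₁⟩ := ih m hmn Q' hm hm1 d hdQ'
    exact ⟨Q₁, hQ₁, hQ₁le.trans hQ'Q, hQ₁h, hdQ₁⟩

/-- convenient form -/
theorem exists_height_one_mem' {L : Type*} [CommRing L] [IsNoetherianRing L]
    (Q : Ideal L) [Q.IsPrime] (h1 : 1 ≤ Q.height) (d : L) (hd : d ∈ Q) :
    ∃ Q₁ : Ideal L, Q₁.IsPrime ∧ Q₁ ≤ Q ∧ Q₁.height = 1 ∧ d ∈ Q₁ := by
  have hfin : Q.height ≠ ⊤ := Ideal.height_ne_top_of_isPrime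
  obtain ⟨n, hn⟩ := ENat.ne_top_iff_exists.mp hfin
  refine exists_height_one_mem n Q hn.symm ?_ d hd
  rw [← hn] at h1
  exact_mod_cast h1

/-- For a going-down algebra which is quasi-finite at `q`, `ht q = ht (q ∩ R)`. -/
theorem height_eq_height_under {R S : Type*} [CommRing R] [CommRing S] [Algebra R S]
    [IsNoetherianRing R] [IsNoetherianRing S] [Algebra.HasGoingDown R S] (q : Ideal S) [q.IsPrime]
    [Algebra.QuasiFiniteAt R q] : q.height = (q.under R).height := by
  haveI : q.LiesOver (q.under R) := ⟨rfl⟩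
  rw [Ideal.height_eq_height_add_of_liesOver_of_hasGoingDown (q.under R) q]
  suffices h : (q.map (Ideal.Quotient.mk ((q.under R).map (algebraMap R S)))).height = 0 by
    rw [h, add_zero]
  set I := (q.under R).map (algebraMap R S) with hI
  have hIq : I ≤ q := Ideal.map_le_iff_le_comap.mpr le_rfl
  have hsurj : Function.Surjective (Ideal.Quotient.mk I) := Ideal.Quotient.mk_surjective
  have hker : RingHom.ker (Ideal.Quotient.mk I) ≤ q := by rw [Ideal.mk_ker]; exact hIq
  haveI : (q.map (Ideal.Quotient.mk I)).IsPrime := Ideal.map_isPrime_of_surjective hsurj hker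
  rw [Ideal.height_eq_zero_iff]
  refine ⟨⟨inferInstance, bot_le⟩, ?_⟩
  rintro J ⟨hJ, -⟩ hJq
  -- J ≤ q/I prime ⇒ comap J ≤ q lying over the same prime, hence equal
  haveI : (J.comap (Ideal.Quotient.mk I)).IsPrime := hJ.comap _
  have hle : J.comap (Ideal.Quotient.mk I) ≤ q := by
    have := Ideal.comap_mono (f := Ideal.Quotient.mk I) hJq
    rwa [Ideal.comap_map_of_surjective _ hsurj, ← RingHom.ker_eq_comap_bot,
      sup_eq_left.mpr hker] at this
  have hIJ : I ≤ J.comap (Ideal.Quotient.mk I) := by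
    intro x hx
    rw [Ideal.mem_comap, Ideal.Quotient.eq_zero_iff_mem.mpr hx]
    exact J.zero_mem
  have hunder : (J.comap (Ideal.Quotient.mk I)).under R = q.under R := by
    apply le_antisymm
    · exact Ideal.comap_mono hle
    · intro r hr
      exact hIJ (Ideal.mem_map_of_mem _ hr)
  have heq := Algebra.QuasiFiniteAt.eq_of_le_of_under_eq (R := R) hle hunder
  rw [← heq, Ideal.map_comap_of_surjective _ hsurj]

end Groth.Agent.Lib.Helper49.QFHeight
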