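import Mathlib
import Groth.Agent.Lib.Helper49.QFHeight
import Groth.Agent.Lib.Helper49.QFUnramLoc
import Groth.Agent.Lib.Helper49.QFDisc

/-!
# Purity of the ramification locus for flat quasi-finite algebras (helper49)

Let `R → S` be a flat finite type map of Noetherian rings, quasi-finite at a prime `q` of height
`≥ 1`.  If `S` is unramified over `R` at every height one prime contained in `q`, then it is
unramified at `q`.
-/

set_option autoImplicit false
universe u

open TensorProduct

namespace Groth.Agent.Lib.Helper49.QFCore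

open Groth.Agent.Lib.Helper49.QFHeight Groth.Agent.Lib.Helper49.QFUnramLoc
  Groth.Agent.Lib.Helper49.QFDisc

attribute [local instance] Algebra.TensorProduct.rightAlgebra

theorem isUnramifiedAt_congr {R S : Type*} [CommRing R] [CommRing S] [Algebra R S]
    {I J : Ideal S} [I.IsPrime] [J.IsPrime] (h : I = J) :
    Algebra.IsUnramifiedAt R I ↔ Algebra.IsUnramifiedAt R J := by
  subst h; rfl

set_option maxHeartbeats 1600000 in
theorem isUnramifiedAt_of_codim_one {R S : Type u} [CommRing R] [CommRing S] [IsNoetherianRing R]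
    [Algebra R S] [Algebra.FiniteType R S] [Module.Flat R S] (q : Ideal S) [q.IsPrime]
    [Algebra.QuasiFiniteAt R q] (h1 : 1 ≤ q.height)
    (hunr : ∀ (q' : Ideal S) [q'.IsPrime], q' ≤ q → q'.height = 1 → Algebra.IsUnramifiedAt R q') :
    Algebra.IsUnramifiedAt R q := by
  classical
  haveI : IsNoetherianRing S := Algebra.FiniteType.isNoetherianRing R S
  set p := q.under R with hp
  haveI : q.LiesOver p := ⟨rfl⟩
  obtain ⟨R', _, _, _, P, _, _, e, he, P', _, _, hP'q, heP', hres, hfin, huniq⟩ :=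
    Algebra.exists_etale_isIdempotentElem_forall_liesOver_eq p q
  haveI : IsNoetherianRing R' := Algebra.FiniteType.isNoetherianRing R R'
  -- heights
  have hqh : q.height = p.height := height_eq_height_under q
  have hPp : P.under R = p := (Ideal.LiesOver.over (P := P) (p := p)).symm
  haveI : Algebra.QuasiFiniteAt R P := inferInstance
  have hPh : P.height = p.height := by rw [height_eq_height_under (R := R) P, hPp]
  have hP1 : 1 ≤ P.height := by rw [hPh, ← hqh]; exact h1
  -- the finite flat algebra T and its localization M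
  let T := Localization.Away e
  let L := Localization.AtPrime P
  let W := Algebra.algebraMapSubmonoid T P.primeCompl
  let M := Localization W
  haveI : Module.Finite R' T := hfin
  haveI : Module.Flat R' T := inferInstance
  haveI : Module.Finite L M := inferInstance
  haveI : Module.Flat L M := (Module.flat_iff_of_isLocalization L P.primeCompl M).mpr inferInstance
  haveI : Module.Free L M := Module.free_of_flat_of_isLocalRing
  let b := Module.Free.chooseBasis L M
  set d := Algebra.discr L b with hd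
  -- primes of `M` and `T` coming from primes of `C = R' ⊗ S` not containing `e`
  have key : ∀ (Q' : Ideal (R' ⊗[R] S)) [Q'.IsPrime], e ∉ Q' → Q'.under R' ≤ P →
      ∃ (𝔱 : Ideal T) (_ : 𝔱.IsPrime) (𝔪 : Ideal M) (_ : 𝔪.IsPrime),
        𝔱.under (R' ⊗[R] S) = Q' ∧ 𝔪.under T = 𝔱 := by
    intro Q' hQ' heQ' hQ'P
    have hdisj : Disjoint (Submonoid.powers e : Set (R' ⊗[R] S)) (Q' : Set (R' ⊗[R] S)) := by
      rwa [Ideal.disjoint_powers_iff_notMem_of_isPrime]
    have h𝔱p : (Q'.map (algebraMap (R' ⊗[R] S) T)).IsPrime :=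
      IsLocalization.isPrime_of_isPrime_disjoint (Submonoid.powers e) T Q' hQ' hdisj
    have h𝔱c : (Q'.map (algebraMap (R' ⊗[R] S) T)).comap (algebraMap (R' ⊗[R] S) T) = Q' :=
      IsLocalization.under_map_of_isPrime_disjoint (Submonoid.powers e) T hQ' hdisj
    set 𝔱 := Q'.map (algebraMap (R' ⊗[R] S) T) with h𝔱
    have h𝔱R' : 𝔱.under R' = Q'.under R' := by
      have : 𝔱.under R' = (𝔱.under (R' ⊗[R] S)).under R' := by
        simp only [Ideal.under, Ideal.comap_comap]
        rw [← IsScalarTower.algebraMap_eq]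
      rw [this]
      show (𝔱.comap (algebraMap (R' ⊗[R] S) T)).under R' = _
      rw [h𝔱c]
    have hdisj2 : Disjoint (W : Set T) (𝔱 : Set T) := by
      rw [Set.disjoint_left]
      rintro x ⟨r, hr, rfl⟩ hx
      have : r ∈ 𝔱.under R' := hx
      rw [h𝔱R'] at this
      exact hr (hQ'P this)
    have h𝔪p : (𝔱.map (algebraMap T M)).IsPrime :=
      IsLocalization.isPrime_of_isPrime_disjoint W M 𝔱 h𝔱p hdisj2
    have h𝔪c : (𝔱.map (algebraMap T M)).comap (algebraMap T M) = 𝔱 :=
      IsLocalization.under_map_of_isPrime_disjoint W M h𝔱p hdisj2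
    exact ⟨𝔱, h𝔱p, 𝔱.map (algebraMap T M), h𝔪p, h𝔱c, h𝔪c⟩
  -- transfer of unramifiedness from `M` down to `S`
  have transfer : ∀ (𝔪 : Ideal M) [𝔪.IsPrime],
      Algebra.IsUnramifiedAt L 𝔪 ↔
        Algebra.IsUnramifiedAt R (((𝔪.under T).under (R' ⊗[R] S)).under S) := by
    intro 𝔪 h𝔪
    rw [isUnramifiedAt_localization_iff (R₀ := R') (R₀' := L) (A := T) (A' := M) W 𝔪,
      isUnramifiedAt_localization_iff (R₀ := R') (R₀' := R') (A := R' ⊗[R] S) (A' := T)
        (Submonoid.powers e) (𝔪.under T),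
      isUnramifiedAt_baseChange_iff]
    rfl
  have hP'P : P'.under R' = P := (Ideal.LiesOver.over (P := P') (p := P)).symm
  have hP'S : P'.under S = q := hP'q
  by_cases hdu : IsUnit d
  · -- étale case
    haveI : Algebra.Etale L M :=
      (Groth.Agent.Lib.Helper45.DiscEtale.etale_iff_isUnit_discr b).mpr hdu
    obtain ⟨𝔱, h𝔱p, 𝔪, h𝔪p, h𝔱c, h𝔪c⟩ := key P' heP' hP'P.le
    have hun : Algebra.IsUnramifiedAt L 𝔪 :=
      (Algebra.formallyUnramified_iff_forall (R := L) (A := M)).mp inferInstance ⟨𝔪, h𝔪p⟩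
    have hthis := (transfer 𝔪).mp hun
    have heq : ((𝔪.under T).under (R' ⊗[R] S)).under S = q := by rw [h𝔪c, h𝔱c, hP'S]
    exact (isUnramifiedAt_congr heq).mp hthis
  · exfalso
    have hdm : d ∈ IsLocalRing.maximalIdeal L := hdu
    have hmh : 1 ≤ (IsLocalRing.maximalIdeal L).height := by
      have := IsLocalization.height_under P.primeCompl (IsLocalRing.maximalIdeal L)
      rw [IsLocalization.AtPrime.under_maximalIdeal L P] at this
      rw [← this]; exact hP1
    obtain ⟨P₁, hP₁p, hP₁le, hP₁h, hdP₁⟩ :=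
      exists_height_one_mem' (IsLocalRing.maximalIdeal L) hmh d hdm
    obtain ⟨𝔔, h𝔔p, h𝔔u, h𝔔ram⟩ := exists_ramified_of_discr_mem b P₁ hdP₁
    rw [transfer 𝔔] at h𝔔ram
    set 𝔱 := 𝔔.under T with h𝔱
    set Q₁' := 𝔱.under (R' ⊗[R] S) with hQ₁'
    set q₁ := Q₁'.under S with hq₁
    set P₁' := P₁.under R' with hP₁'
    -- heights and containments
    have hP₁'h : P₁'.height = 1 := by
      rw [hP₁', IsLocalization.height_under P.primeCompl P₁, hP₁h]
    have hP₁'P : P₁' ≤ P := by
      have := Ideal.comap_mono (f := algebraMap R' L) hP₁le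
      rwa [show Ideal.comap (algebraMap R' L) (IsLocalRing.maximalIdeal L) = P from
        IsLocalization.AtPrime.under_maximalIdeal L P] at this
    have h𝔱R' : 𝔱.under R' = P₁' := by
      rw [hP₁', ← h𝔔u]
      simp only [h𝔱, Ideal.under, Ideal.comap_comap]
      rw [← IsScalarTower.algebraMap_eq, ← IsScalarTower.algebraMap_eq]
    have hQ₁'R' : Q₁'.under R' = P₁' := by
      rw [← h𝔱R']
      simp only [hQ₁', Ideal.under, Ideal.comap_comap]
      rw [← IsScalarTower.algebraMap_eq]
    have hq₁R : q₁.under R = P₁'.under R := by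
      rw [← hQ₁'R']
      simp only [hq₁, Ideal.under, Ideal.comap_comap]
      rw [← IsScalarTower.algebraMap_eq, ← IsScalarTower.algebraMap_eq]
    -- going up in `T` over `R'`
    haveI : Algebra.IsIntegral R' T := Algebra.IsIntegral.of_finite R' T
    obtain ⟨𝔱', h𝔱le, h𝔱'p, h𝔱'P⟩ :=
      Ideal.exists_ideal_over_prime_of_isIntegral_of_isPrime P 𝔱 (by
        show 𝔱.under R' ≤ P
        rw [h𝔱R']; exact hP₁'P)
    have heP'' : e ∉ 𝔱'.under (R' ⊗[R] S) := by
      intro hmem
      have hu : IsUnit (algebraMap (R' ⊗[R] S) T e) :=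
        IsLocalization.map_units T (⟨e, Submonoid.mem_powers e⟩ : Submonoid.powers e)
      exact h𝔱'p.ne_top (Ideal.eq_top_of_isUnit_mem _ hmem hu)
    have hP''P : (𝔱'.under (R' ⊗[R] S)).LiesOver P := by
      refine ⟨?_⟩
      rw [← h𝔱'P]
      simp only [Ideal.under, Ideal.comap_comap]
      rw [← IsScalarTower.algebraMap_eq]
    have hP''eq : 𝔱'.under (R' ⊗[R] S) = P' := huniq _ inferInstance hP''P heP''
    have hQ₁'P' : Q₁' ≤ P' := by
      rw [← hP''eq]
      exact Ideal.comap_mono h𝔱le
    have hq₁q : q₁ ≤ q := by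
      rw [← hP'S]
      exact Ideal.comap_mono hQ₁'P'
    haveI : Algebra.QuasiFiniteAt R q₁ := Algebra.QuasiFiniteAt.of_le hq₁q
    haveI : Algebra.QuasiFiniteAt R P₁' := inferInstance
    have hq₁h : q₁.height = 1 := by
      rw [height_eq_height_under (R := R) q₁, hq₁R, ← height_eq_height_under (R := R) P₁', hP₁'h]
    exact h𝔔ram (hunr q₁ hq₁q hq₁h)

end Groth.Agent.Lib.Helper49.QFCore
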