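import Mathlib

/-!
# From an étale localization of an affine chart to an étale open neighbourhood (helper49)
(adapted from the end of `Helper35.EtaleLocalScheme.exists_etale_nhd_of_stalkMap`)
-/

set_option autoImplicit false
universe u

open AlgebraicGeometry CategoryTheory

namespace Groth.Agent.Lib.Helper49.QFSch

set_option backward.defeqAttrib.useBackward true in
set_option backward.isDefEq.respectTransparency false in
theorem exists_etale_nhd {X Y : Scheme.{u}} (f : X ⟶ Y) {x : X} (V : Y.Opens)
    (hV : IsAffineOpen V) (U : X.Opens) (hU : IsAffineOpen U) (hUV : U ≤ f ⁻¹ᵁ V) (hxU : x ∈ U)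
    (r : Γ(X, U)) (hrx : r ∉ (hU.primeIdealOf ⟨x, hxU⟩).asIdeal)
    (hr : ((algebraMap Γ(X, U) (Localization.Away r)).comp (f.appLE V U hUV).hom).Etale) :
    ∃ U' : X.Opens, x ∈ U' ∧ Etale (U'.ι ≫ f) := by
  have hle : X.basicOpen r ≤ f ⁻¹ᵁ V := (X.basicOpen_le r).trans hUV
  refine ⟨X.basicOpen r, ?_, ?_⟩
  · rwa [← PrimeSpectrum.mem_basicOpen, IsAffineOpen.primeIdealOf,
      ← hU.fromSpec_preimage_basicOpen, Scheme.Hom.mem_preimage, ← Scheme.Hom.comp_apply,
      IsAffineOpen.isoSpec_hom, IsAffineOpen.toSpecΓ_fromSpec] at hrx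
  · have H : (f.appLE V (X.basicOpen r) hle).hom.Etale := by
      have := hU.isLocalization_basicOpen r
      convert!
        RingHom.Etale.respectsIso.1 _
          (IsLocalization.algEquiv (.powers r) _ Γ(X, X.basicOpen r)).toRingEquiv hr
      ext a
      dsimp
      simp only [IsLocalization.map_eq]
      simp only [RingHom.algebraMap_toAlgebra, RingHomCompTriple.comp_apply,
        ← ConcreteCategory.comp_apply, Scheme.Hom.appLE_map]
    have : IsAffine V := hV
    have : IsAffine (X.basicOpen r) := hU.basicOpen r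
    have : Etale (f.resLE V (X.basicOpen r) hle) := by
      rw [HasRingHomProperty.iff_of_isAffine (P := @Etale)]
      exact (RingHom.Etale.respectsIso.arrow_mk_iso_iff (arrowResLEAppIso f V _ hle)).mpr H
    rw [← Scheme.Hom.resLE_comp_ι f hle]
    infer_instance

end Groth.Agent.Lib.Helper49.QFSch
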