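import Groth.Agent.Lib.Helper49.DepthLoc
import Groth.Agent.Lib.Helper49.Serre3
import Groth.Agent.Lib.Helper93.ReflexiveDepth
import Groth.Agent.S6880
import Mathlib.LinearAlgebra.FreeModule.PID
import Mathlib.LinearAlgebra.Dual.Lemmas

/-!
# Reflexive modules over Noetherian domains via local depth (helper49)

Namespace `Groth.Agent.Lib.Helper49.Serre`.

* `isReflexive_iff_forall_localization` (S6879)
* `isReflexive_iff_torsionFree_and_hasSk_two` (S2054)
-/

set_option autoImplicit false
universe u

open IsLocalRing Pointwise

namespace Groth.Agent.Lib.Helper49.Serre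

open Groth.Agent.Lib.Helper29 Groth.Agent.Lib.Helper29.DepthLib Groth.Agent.Lib.Helper29.CMLib
open Groth.Agent.Lib.Helper93.Reflexive Groth.Agent.Lib.Helper93.ReflexiveDepth

section

variable (R : Type u) [CommRing R] [IsDomain R] [IsNoetherianRing R] (M : Type u)
  [AddCommGroup M] [Module R M] [Module.Finite R M]

omit [IsNoetherianRing R] in
/-- Duals over a domain are torsion-free. -/
theorem isSMulRegular_dual (N : Type u) [AddCommGroup N] [Module R N] {x : R} (hx : x ≠ 0) :
    IsSMulRegular (Module.Dual R N) x := by
  intro f g hfg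
  ext n
  have := LinearMap.congr_fun hfg n
  simp only [LinearMap.smul_apply, smul_eq_mul] at this
  exact mul_left_cancel₀ hx this

/-- **S6879** (⇐): local criterion for reflexivity. -/
theorem isReflexive_of_forall_localization
    (h : ∀ (p : Ideal R) [p.IsPrime],
      Module.IsReflexive (Localization.AtPrime p) (LocalizedModule p.primeCompl M) ∨
        2 ≤ LocCoh.depth (Localization.AtPrime p) (LocalizedModule p.primeCompl M)) :
    Module.IsReflexive R M := by
  have hfp : Module.FinitePresentation R M := Module.finitePresentation_of_finite R M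
  have hfp' : Module.FinitePresentation R (Module.Dual R M) :=
    Module.finitePresentation_of_finite R _
  -- injectivity of the evaluation map
  have hinj : Function.Injective (Module.Dual.eval R M) := by
    rw [injective_iff_map_eq_zero]
    intro k hk
    by_contra hk0
    obtain ⟨P, hP, hle⟩ := exists_le_isAssociatedPrime_of_isNoetherianRing R k hk0
    have : P.IsPrime := hP.isPrime
    have hd0 := (depth_localizedModule_eq_zero_iff M P).mpr hP
    rcases h P with hrefl | hd2
    · obtain ⟨t, ht, htk⟩ := exists_smul_eq_zero_of_eval_eq_zero M P.primeCompl k hk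
      exact ht (hle (by rw [Submodule.mem_colon_singleton, Submodule.mem_bot]; exact htk))
    · rw [hd0] at hd2
      simp at hd2
  refine ⟨⟨hinj, ?_⟩⟩
  -- surjectivity
  intro c
  by_contra hc
  have hc' : (LinearMap.range (Module.Dual.eval R M)).mkQ c ≠ 0 := by
    rwa [Ne, Submodule.mkQ_apply, Submodule.Quotient.mk_eq_zero]
  obtain ⟨P, hP, -⟩ := exists_le_isAssociatedPrime_of_isNoetherianRing R _ hc'
  have hPprime : P.IsPrime := hP.isPrime
  obtain ⟨-, y, hy⟩ := (isAssociatedPrime_iff).mp hP
  obtain ⟨c', rfl⟩ := Submodule.mkQ_surjective _ y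
  have hmem : ∀ r : R, r ∈ P ↔ r • c' ∈ LinearMap.range (Module.Dual.eval R M) := by
    intro r
    rw [hy, Submodule.mem_colon_singleton, Submodule.mem_bot, ← map_smul, Submodule.mkQ_apply,
      Submodule.Quotient.mk_eq_zero]
  -- `M_P` is not reflexive
  have hnot : ¬ Module.IsReflexive (Localization.AtPrime P) (LocalizedModule P.primeCompl M) := by
    intro hrefl
    obtain ⟨t, ht, htc⟩ := exists_smul_mem_range_eval M P.primeCompl c'
    exact ht ((hmem t).mpr htc)
  have hd2 : 2 ≤ LocCoh.depth (Localization.AtPrime P) (LocalizedModule P.primeCompl M) :=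
    (h P).resolve_left hnot
  -- `P ≠ ⊥`
  have hPbot : P ≠ ⊥ := by
    rintro rfl
    apply hnot
    have hfield : IsField (Localization.AtPrime (⊥ : Ideal R)) := by
      rw [IsLocalRing.isField_iff_maximalIdeal_eq, ← Localization.AtPrime.map_eq_maximalIdeal,
        Ideal.map_bot]
    let _ := hfield.toField
    infer_instance
  obtain ⟨x, hxP, hx0⟩ : ∃ x ∈ P, x ≠ (0 : R) := by
    by_contra! hcon
    exact hPbot (eq_bot_iff.mpr fun x hx => by rw [Ideal.mem_bot]; exact hcon x hx)
  have hxreg' : IsSMulRegular (Module.Dual R (Module.Dual R M)) x := isSMulRegular_dual R _ hx0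
  have hxreg : IsSMulRegular M x := by
    intro m₁ m₂ hm
    apply hinj
    apply hxreg'
    change x • _ = x • _
    rw [← map_smul, ← map_smul]
    exact congrArg _ hm
  obtain ⟨m₀, hm₀⟩ := (hmem x).mp hxP
  -- `P` is associated to `M/xM` through the class of `m₀`
  have hass : P ∈ associatedPrimes R (QuotSMulTop x M) := by
    rw [AssociatedPrimes.mem_iff, isAssociatedPrime_iff]
    refine ⟨hPprime, Submodule.Quotient.mk m₀, ?_⟩
    ext r
    rw [Submodule.mem_colon_singleton, Submodule.mem_bot, ← Submodule.Quotient.mk_smul,
      Submodule.Quotient.mk_eq_zero, Submodule.mem_smul_pointwise_iff_exists, hmem]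
    constructor
    · rintro ⟨m, hm⟩
      refine ⟨m, Submodule.mem_top, ?_⟩
      apply hinj
      rw [map_smul, map_smul, hm₀, hm, smul_comm]
    · rintro ⟨m, -, hm⟩
      refine ⟨m, ?_⟩
      apply hxreg'
      change x • _ = x • _
      rw [← map_smul, hm, map_smul, hm₀, smul_comm]
  have hd0 := (depth_localizedModule_eq_zero_iff (QuotSMulTop x M) P).mpr hass
  have hadd := depth_localizedModule_quotSMulTop_add_one' M P hxP hxreg
  rw [hd0, zero_add] at hadd
  rw [← hadd] at hd2
  norm_num at hd2

/-- **S6879**. -/
theorem isReflexive_iff_forall_localization :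
    Module.IsReflexive R M ↔ ∀ (p : Ideal R) [p.IsPrime],
      Module.IsReflexive (Localization.AtPrime p) (LocalizedModule p.primeCompl M) ∨
        2 ≤ LocCoh.depth (Localization.AtPrime p) (LocalizedModule p.primeCompl M) :=
  ⟨fun _ p _ => Or.inl (isReflexive_localizedModule M p), isReflexive_of_forall_localization R M⟩

end

section Normal

/-- A normal Noetherian local domain of dimension `≤ 1` is a PID. -/
theorem isPrincipalIdealRing_of_isIntegrallyClosed_of_dim_le_one (A : Type u) [CommRing A]
    [IsNoetherianRing A] [IsLocalRing A] [IsDomain A] [IsIntegrallyClosed A]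
    (h : ringKrullDim A ≤ 1) : IsPrincipalIdealRing A := by
  have hk : Ring.KrullDimLE 1 A := Ring.krullDimLE_iff.mpr (by simpa using h)
  have htfae : (IsIntegrallyClosed A ∧
      ∀ P : Ideal A, P ≠ ⊥ → P.IsPrime → P = maximalIdeal A) ↔ IsPrincipalIdealRing A :=
    (tfae_of_isNoetherianRing_of_isLocalRing_of_isDomain A).out 3 0
  refine htfae.mp ⟨inferInstance, fun P hP hPp => ?_⟩
  have := Ring.krullDimLE_one_iff_of_noZeroDivisors.mp hk P hP hPp
  exact IsLocalRing.eq_maximalIdeal this

/-- A nonzero finite torsion-free module over a domain has full support dimension. -/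
theorem supportDim_eq_ringKrullDim_of_isTorsionFree (A : Type u) [CommRing A] [IsDomain A]
    (N : Type u) [AddCommGroup N] [Module A N] [Module.Finite A N] [Module.IsTorsionFree A N]
    [Nontrivial N] : Module.supportDim A N = ringKrullDim A := by
  have hann : Module.annihilator A N = ⊥ := by
    rw [eq_bot_iff]
    intro r hr
    rw [Ideal.mem_bot]
    by_contra hr0
    obtain ⟨n, hn⟩ := exists_ne (0 : N)
    have := Module.mem_annihilator.mp hr n
    exact hn ((smul_eq_zero_iff_right hr0).mp this)
  rw [Module.supportDim_eq_ringKrullDim_quotient_annihilator, hann]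
  exact (RingEquiv.ringKrullDim (RingEquiv.quotientBot A))

variable (R : Type u) [CommRing R] [IsDomain R] [IsNoetherianRing R] [IsIntegrallyClosed R]
  (M : Type u) [AddCommGroup M] [Module R M] [Module.Finite R M]

/-- **S2054**: over a Noetherian normal domain, reflexive ⇔ torsion-free and `(S_2)`. -/
theorem isReflexive_iff_torsionFree_and_hasSk_two :
    Module.IsReflexive R M ↔ NoZeroSMulDivisors R M ∧ LocCoh.HasSk 2 R M := by
  constructor
  · intro h
    refine ⟨⟨fun {c x} hcx => smul_eq_zero.mp hcx⟩, ?_⟩
    exact (Groth.Agent.S6880.result R M).2 (hasSk_two_of_isIntegrallyClosed R)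
  · rintro ⟨hTF, hS2⟩
    apply isReflexive_of_forall_localization
    intro p hp
    have hic : IsIntegrallyClosed (Localization.AtPrime p) :=
      isIntegrallyClosed_of_isLocalization _ p.primeCompl p.primeCompl_le_nonZeroDivisors
    by_cases hht : p.height ≤ 1
    · left
      have hdim : ringKrullDim (Localization.AtPrime p) ≤ 1 := by
        rw [IsLocalization.AtPrime.ringKrullDim_eq_height p]
        exact_mod_cast hht
      have := isPrincipalIdealRing_of_isIntegrallyClosed_of_dim_le_one _ hdim
      have : Module.Free (Localization.AtPrime p) (LocalizedModule p.primeCompl M) :=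
        Module.free_of_finite_type_torsion_free'
      infer_instance
    · right
      rcases subsingleton_or_nontrivial (LocalizedModule p.primeCompl M) with hM | hM
      · rw [depth_eq_top_of_subsingleton]; exact le_top
      · have h2 := hS2 p
        rw [supportDim_eq_ringKrullDim_of_isTorsionFree,
          IsLocalization.AtPrime.ringKrullDim_eq_height p] at h2
        have h3 : (2 : ℕ∞) ≤ p.height := by
          have := lt_of_not_ge hht
          have h4 := Order.add_one_le_of_lt this
          simpa [one_add_one_eq_two] using h4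
        have h5 : ((2 : ℕ) : WithBot ℕ∞) ≤ ((p.height : ℕ∞) : WithBot ℕ∞) := by
          have h6 : ((2 : ℕ∞) : WithBot ℕ∞) ≤ ((p.height : ℕ∞) : WithBot ℕ∞) :=
            WithBot.coe_le_coe.mpr h3
          exact h6
        rw [min_eq_left h5] at h2
        have h7 : ((2 : ℕ∞) : WithBot ℕ∞) ≤ ((LocCoh.depth (Localization.AtPrime p)
            (LocalizedModule p.primeCompl M) : ℕ∞) : WithBot ℕ∞) := h2
        exact WithBot.coe_le_coe.mp h7

end Normal

end Groth.Agent.Lib.Helper49.Serre
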