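import Mathlib
import Groth.Prelude.Def_CAlg
import Groth.Prelude.Def_EGA4b
import Groth.Prelude.Def_Found
import Groth.Agent.Lib.Helper49.GeomNormalExt
import Groth.Agent.Lib.Helper49.SmoothHom
import Groth.Agent.Lib.Helper96.RegularHom
import Groth.Agent.S0564

/-!
# Separable field extensions preserve regularity and normality (helper49)

* `isRegularRing_of_isArtinianRing_of_isReduced`
* `isRegularHom_of_isGeometricallyReduced` : `k → K` is a regular homomorphism for a geometrically
  reduced (separable) field extension `K/k`.
* `isRegularRing_tensor_of_isGeometricallyReduced` : `A ⊗_k K` is regular for `A` regular.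
* `hasRk_localization_iff`
* `normal_at_of_separable` : `(S ⊗_k K)_{q'}` is a normal domain if `S_q` is (EGA IV 6.7.4 type).
-/

set_option autoImplicit false
set_option linter.unusedSectionVars false
set_option linter.overlappingInstances false
set_option linter.style.haveILetI false
universe u

open IsLocalRing TensorProduct

namespace Groth.Agent.Lib.Helper49.SepNormal

open Groth.Agent.Lib.Helper49.FibreSk Groth.Agent.Lib.Helper49.CMFibre
  Groth.Agent.Lib.Helper49.GeomNormalExt

section Artinian

/-- A reduced Artinian ring is regular. -/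
theorem isRegularRing_of_isArtinianRing_of_isReduced (R : Type u) [CommRing R] [IsArtinianRing R]
    [IsReduced R] : IsRegularRing R := by
  haveI : IsNoetherianRing R := inferInstance
  rw [isRegularRing_iff]
  intro P hP
  haveI : IsArtinianRing (Localization.AtPrime P) := inferInstance
  haveI : IsReduced (Localization.AtPrime P) := inferInstance
  apply Groth.Agent.Lib.Helper49.Serre.isRegularLocalRing_of_maximalIdeal_eq_bot
  rw [← IsLocalRing.jacobson_eq_maximalIdeal (⊥ : Ideal (Localization.AtPrime P)) bot_ne_top,
    IsArtinianRing.jacobson_eq_radical, ← Ideal.zero_eq_bot, ← nilradical, nilradical_eq_zero]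

end Artinian

section RegHom

variable (k K : Type u) [Field k] [Field K] [Algebra k K] [Algebra.IsGeometricallyReduced k K]

/-- A geometrically reduced field extension is a regular homomorphism. -/
theorem isRegularHom_of_isGeometricallyReduced : CAlg.IsRegularHom k K := by
  refine ⟨inferInstance, fun p hp => ?_⟩
  haveI hN : IsNoetherianRing (p.Fiber K) := Groth.Agent.Lib.Helper96.isNoetherianRing_fiber k K p
  refine ⟨hN, fun L _ _ hfin => ?_⟩
  haveI := hfin
  letI : Algebra k L := ((algebraMap p.ResidueField L).comp (algebraMap k p.ResidueField)).toAlgebra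
  haveI : IsScalarTower k p.ResidueField L := IsScalarTower.of_algebraMap_eq fun _ => rfl
  haveI : Module.Finite k p.ResidueField :=
    Module.Finite.of_surjective p.algEquivResidueFieldOfField.toLinearMap
      p.algEquivResidueFieldOfField.surjective
  haveI : Module.Finite k L := Module.Finite.trans p.ResidueField L
  haveI : IsReduced (L ⊗[k] K) := inferInstance
  haveI : Module.Finite K (K ⊗[k] L) := inferInstance
  haveI : IsArtinianRing (K ⊗[k] L) := IsArtinianRing.of_finite K _
  haveI : IsArtinianRing (L ⊗[k] K) :=
    (Algebra.TensorProduct.comm k K L).toRingEquiv.isArtinianRing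
  haveI := isRegularRing_of_isArtinianRing_of_isReduced (L ⊗[k] K)
  exact Groth.Agent.Lib.Helper49.RegularHom.isRegularRing_of_ringEquiv'
    (Algebra.TensorProduct.cancelBaseChange k p.ResidueField L L K).symm.toRingEquiv inferInstance

/-- `A ⊗_k K` is regular for a regular `k`-algebra `A` and a separable extension `K/k`. -/
theorem isRegularRing_tensor_of_isGeometricallyReduced (A : Type u) [CommRing A] [Algebra k A]
    [IsRegularRing A] [IsNoetherianRing (A ⊗[k] K)] : IsRegularRing (A ⊗[k] K) := by
  have h := Groth.Agent.Lib.Helper96.isRegularHom_baseChange k K A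
    (isRegularHom_of_isGeometricallyReduced k K)
  exact Groth.Agent.Lib.Helper49.SmoothHom.isRegularRing_of_isRegularHom A (A ⊗[k] K) h

end RegHom

section RkAt

variable (R : Type u) [CommRing R] [IsNoetherianRing R]

/-- `(R_n)` for the local ring at `p`, in terms of the generizations of `p`. -/
theorem hasRk_localization_iff (n : ℕ) (p : Ideal R) [p.IsPrime] :
    LocCoh.HasRk n (Localization.AtPrime p) ↔ ∀ (p' : Ideal R) [p'.IsPrime], p' ≤ p →
      p'.height ≤ n → IsRegularLocalRing (Localization.AtPrime p') := by
  constructor
  · intro h p' hp' hle hht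
    have hdisj : Disjoint ((p.primeCompl : Submonoid R) : Set R) (p' : Set R) := by
      rw [Set.disjoint_left]
      intro x hx hx'
      exact hx (hle hx')
    have hQ : (p'.map (algebraMap R (Localization.AtPrime p))).IsPrime :=
      IsLocalization.isPrime_of_isPrime_disjoint _ _ p' inferInstance hdisj
    have hco : (p'.map (algebraMap R (Localization.AtPrime p))).under R = p' :=
      IsLocalization.under_map_of_isPrime_disjoint _ _ inferInstance hdisj
    have h1 : ((p'.map (algebraMap R (Localization.AtPrime p))).under R).height =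
        (p'.map (algebraMap R (Localization.AtPrime p))).height :=
      IsLocalization.height_under p.primeCompl (A := Localization.AtPrime p) _
    have h2 := h (p'.map (algebraMap R (Localization.AtPrime p))) (by rw [← h1, hco]; exact hht)
    exact Groth.Agent.Lib.Helper96.isRegularLocalRing_atPrime_of_comap p.primeCompl
      (Localization.AtPrime p) p' _ hco h2
  · intro h Q hQ hht
    have h1 : (Q.under R).height = Q.height :=
      IsLocalization.height_under p.primeCompl (A := Localization.AtPrime p) Q
    have hle : Q.under R ≤ p := by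
      have hm := IsLocalization.AtPrime.under_maximalIdeal (Localization.AtPrime p) p
      calc Q.under R ≤ (maximalIdeal (Localization.AtPrime p)).under R :=
            Ideal.comap_mono (le_maximalIdeal (Ideal.IsPrime.ne_top inferInstance))
        _ = p := hm
    have h2 := h (Q.under R) hle (by rw [h1]; exact hht)
    exact isRegularLocalRing_atPrime_of_comap' p.primeCompl (Localization.AtPrime p) Q h2

end RkAt

section Main

variable (k S : Type u) [Field k] [CommRing S] [Algebra k S] [IsNoetherianRing S]
  (K : Type u) [Field K] [Algebra k K] [IsNoetherianRing (S ⊗[k] K)]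
  [Algebra.IsGeometricallyReduced k K]

/-- Regularity at `Q` of `S ⊗_k K` from regularity of `S` at `Q ∩ S`, for `K/k` separable. -/
theorem isRegularLocalRing_tensor_atPrime (Q : Ideal (S ⊗[k] K)) [Q.IsPrime]
    (h : IsRegularLocalRing (Localization.AtPrime (Q.under S))) :
    IsRegularLocalRing (Localization.AtPrime Q) := by
  letI := tensorAtPrimeAlgebra k S K (Q.under S)
  haveI := isScalarTower_tensorAtPrime k S K (Q.under S)
  haveI hloc := isLocalization_tensorAtPrime k S K (Q.under S)
  haveI : IsNoetherianRing (Localization.AtPrime (Q.under S) ⊗[k] K) :=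
    IsLocalization.isNoetherianRing (Algebra.algebraMapSubmonoid (S ⊗[k] K) (Q.under S).primeCompl) _
      inferInstance
  haveI : IsNoetherianRing (Localization.AtPrime (Q.under S)) :=
    IsLocalization.isNoetherianRing (Q.under S).primeCompl _ inferInstance
  haveI : IsRegularRing (Localization.AtPrime (Q.under S)) := by
    rw [isRegularRing_iff]
    intro P hP
    exact Groth.Agent.S0564.result _ P
  have hreg2 : IsRegularRing (Localization.AtPrime (Q.under S) ⊗[k] K) :=
    isRegularRing_tensor_of_isGeometricallyReduced k K _
  have hdisj : Disjoint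
      ((Algebra.algebraMapSubmonoid (S ⊗[k] K) (Q.under S).primeCompl : Submonoid (S ⊗[k] K)) :
        Set (S ⊗[k] K)) (Q : Set (S ⊗[k] K)) := by
    rw [Set.disjoint_left]
    rintro _ ⟨a, ha, rfl⟩ hmem
    exact ha hmem
  haveI hQ' : (Q.map (algebraMap (S ⊗[k] K) (Localization.AtPrime (Q.under S) ⊗[k] K))).IsPrime :=
    IsLocalization.isPrime_of_isPrime_disjoint
      (Algebra.algebraMapSubmonoid (S ⊗[k] K) (Q.under S).primeCompl) _ Q inferInstance hdisj
  have hcomap : (Q.map (algebraMap (S ⊗[k] K) (Localization.AtPrime (Q.under S) ⊗[k] K))).comap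
      (algebraMap (S ⊗[k] K) (Localization.AtPrime (Q.under S) ⊗[k] K)) = Q :=
    IsLocalization.under_map_of_isPrime_disjoint
      (Algebra.algebraMapSubmonoid (S ⊗[k] K) (Q.under S).primeCompl) _ inferInstance hdisj
  exact Groth.Agent.Lib.Helper96.isRegularLocalRing_atPrime_of_comap
    (Algebra.algebraMapSubmonoid (S ⊗[k] K) (Q.under S).primeCompl)
    (Localization.AtPrime (Q.under S) ⊗[k] K) Q _ hcomap
    (hreg2.isRegularLocalRing_localization _)

/-- **Separable base field extension preserves normality of local rings.** -/
theorem normal_at_of_separable (hft : Algebra.FiniteType k S ∨ Algebra.EssFiniteType k K)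
    (q' : Ideal (S ⊗[k] K)) [q'.IsPrime]
    (h : IsDomain (Localization.AtPrime (q'.under S)) ∧
      IsIntegrallyClosed (Localization.AtPrime (q'.under S))) :
    IsDomain (Localization.AtPrime q') ∧ IsIntegrallyClosed (Localization.AtPrime q') := by
  obtain ⟨hd, hic⟩ := h
  haveI : Module.Flat S (S ⊗[k] K) := inferInstance
  haveI : IsNoetherianRing (Localization.AtPrime (q'.under S)) :=
    IsLocalization.isNoetherianRing (q'.under S).primeCompl _ inferInstance
  haveI : IsNoetherianRing (Localization.AtPrime q') :=
    IsLocalization.isNoetherianRing q'.primeCompl _ inferInstance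
  have hnor : EGA4.IsNormalRing (Localization.AtPrime (q'.under S)) :=
    Groth.Agent.Lib.Helper49.EtaleNormal.isNormalRing_of_isIntegrallyClosed _
  obtain ⟨hR1, hS2⟩ := (Groth.Agent.Lib.Helper49.Serre.serre_criterion _).1 hnor
  -- `(S_2)`
  have hS2at : EGA4.HasSkAt 2 S S (q'.under S) := by
    unfold EGA4.HasSkAt
    rw [Groth.Agent.Lib.Helper49.SkAt.hasSk_congr 2
      (Groth.Agent.Lib.Helper49.Serre.localizedModuleSelfEquiv (q'.under S))]
    exact hS2
  have hS2' : EGA4.HasSkAt 2 (S ⊗[k] K) (S ⊗[k] K) q' := by
    apply Groth.Agent.Lib.Helper49.SkAt.hasSkAt_of_flat (R := S) 2 q' _ hS2at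
    intro Q hQ _
    rw [(isCM_fiber_iff (S := S ⊗[k] K) (Q.under S)).1 (isCM_fiber k S K hft (Q.under S)) Q]
    exact min_le_right _ _
  have hS2'' : LocCoh.HasSk 2 (Localization.AtPrime q') (Localization.AtPrime q') := by
    unfold EGA4.HasSkAt at hS2'
    rwa [Groth.Agent.Lib.Helper49.SkAt.hasSk_congr 2
      (Groth.Agent.Lib.Helper49.Serre.localizedModuleSelfEquiv q')] at hS2'
  -- `(R_1)`
  have hR1' : LocCoh.HasRk 1 (Localization.AtPrime q') := by
    rw [hasRk_localization_iff]
    intro Q hQ hle hht
    apply isRegularLocalRing_tensor_atPrime k S K Q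
    exact (hasRk_localization_iff S 1 (q'.under S)).1 hR1 (Q.under S) (Ideal.comap_mono hle)
      ((height_under_le (R := S) Q).trans hht)
  haveI hdom : IsDomain (Localization.AtPrime q') :=
    Groth.Agent.Lib.Helper49.Serre.isDomain_of_hasRk_one_of_hasSk_two hR1' hS2''
  exact ⟨hdom, Groth.Agent.Lib.Helper49.Serre.isIntegrallyClosed_of_hasRk_one_of_hasSk_two hR1' hS2''⟩

end Main

end Groth.Agent.Lib.Helper49.SepNormal
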