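import Mathlib
import Groth.Agent.Lib.Helper49.CMFormal
import Groth.Agent.Lib.Helper49.GeomNormalExt
import Groth.Agent.Lib.Helper49.Serre5
import Groth.Agent.Lib.Helper49.NormalHom
import Groth.Agent.Lib.Helper49.HomLoc
import Groth.Agent.Lib.Helper96.ComplQuotRegular
import Groth.Agent.Lib.Helper15.FormalCat
import Groth.Agent.S2694

/-!
# Formal fibres satisfying `(S_k)` (helper49)

Port of the "field point" calculus of `CMFormal` to Serre's condition `(S_k)`:
`FPk k R S` says that `L ⊗[R] S` is Noetherian and `(S_k)` for every field `L` essentially of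
finite type over `R`.  Stability under base change, localization, composition and faithfully
flat descent; `(S_k)` formal fibres pass to local rings essentially of finite type.

Namespace `Groth.Agent.Lib.Helper49.SkFormal`.
-/

set_option autoImplicit false
set_option linter.style.haveILetI false
set_option linter.unusedSectionVars false
universe u

open TensorProduct IsLocalRing

namespace Groth.Agent.Lib.Helper49.SkFormal

/-- Noetherian and `(S_k)`. -/
def SkN (k : ℕ) (T : Type u) [CommRing T] : Prop := IsNoetherianRing T ∧ LocCoh.HasSk k T T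

theorem skN_of_ringEquiv {k : ℕ} {A B : Type u} [CommRing A] [CommRing B] (e : A ≃+* B)
    (hA : SkN k A) : SkN k B := by
  haveI := hA.1
  exact ⟨isNoetherianRing_of_ringEquiv A e, Groth.Agent.S2694.hasSk_self_of_ringEquiv e k hA.2⟩

theorem skN_of_isCM {k : ℕ} {T : Type u} [CommRing T] (h : LocCoh.IsCohenMacaulayRing T) :
    SkN k T :=
  ⟨h.toIsNoetherian, Groth.Agent.Lib.Helper49.GeomNormalExt.hasSk_of_isCM T k⟩

/-- A localization of an `(S_k)` ring is `(S_k)`. -/
theorem skN_of_isLocalization {k : ℕ} {T : Type u} [CommRing T] (M : Submonoid T)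
    (T' : Type u) [CommRing T'] [Algebra T T'] [IsLocalization M T']
    (h : SkN k T) : SkN k T' := by
  haveI : IsNoetherianRing T := h.1
  haveI : IsNoetherianRing T' := IsLocalization.isNoetherianRing M T' inferInstance
  refine ⟨inferInstance, ?_⟩
  rw [Groth.Agent.Lib.Helper49.SkLift.hasSk_self_iff']
  intro Q' hQ'
  haveI hloc2 : IsLocalization.AtPrime (Localization.AtPrime Q')
      (Q'.comap (algebraMap T T')) :=
    IsLocalization.isLocalization_isLocalization_atPrime_isLocalization M
      (Localization.AtPrime Q') Q'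
  have e : Localization.AtPrime (Q'.comap (algebraMap T T')) ≃ₐ[T] Localization.AtPrime Q' :=
    IsLocalization.algEquiv (Q'.comap (algebraMap T T')).primeCompl _ _
  have h1 := (Groth.Agent.Lib.Helper49.SkLift.hasSk_self_iff' T k).mp h.2
    (Q'.comap (algebraMap T T'))
  have hh : (Q'.comap (algebraMap T T')).height = Q'.height :=
    IsLocalization.height_under M Q'
  rw [Groth.Agent.Lib.Helper49.Serre.depth_eq_of_ringEquiv e.toRingEquiv, hh] at h1
  exact h1

/-- Ascent of `(S_k)` along flat maps with `(S_k)` fibres. -/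
theorem skN_of_flat_of_fibres {k : ℕ} {R S : Type u} [CommRing R] [CommRing S] [Algebra R S]
    [Module.Flat R S] [IsNoetherianRing S] (hR : SkN k R)
    (hfib : ∀ (p : Ideal R) [p.IsPrime], SkN k (p.Fiber S)) : SkN k S := by
  haveI := hR.1
  exact ⟨inferInstance, Groth.Agent.Lib.Helper49.FibreSk.hasSk_of_flat_of_fibres k hR.2
    (fun p _ => (hfib p).2)⟩

/-- Faithfully flat descent of `(S_k)`. -/
theorem skN_of_faithfullyFlat {k : ℕ} (R S : Type u) [CommRing R] [CommRing S] [Algebra R S]
    [Module.FaithfullyFlat R S] (hS : SkN k S) : SkN k R := by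
  haveI := hS.1
  exact ⟨Groth.Agent.Lib.Helper49.Serre.isNoetherianRing_of_faithfullyFlat R S,
    Groth.Agent.Lib.Helper49.Serre.hasSk_of_faithfullyFlat R S hS.2⟩

/-- An `(S_k)` algebra over a field stays `(S_k)` after a finitely generated field extension. -/
theorem skN_tensor_field {k : ℕ} (K F L : Type u) [Field K] [CommRing F] [Algebra K F]
    (hF : SkN k F) [Field L] [Algebra K L] [Algebra.EssFiniteType K L] :
    SkN k (L ⊗[K] F) := by
  haveI : IsNoetherianRing F := hF.1
  haveI : IsNoetherianRing (F ⊗[K] L) := Algebra.EssFiniteType.isNoetherianRing F (F ⊗[K] L)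
  have h : SkN k (F ⊗[K] L) :=
    ⟨inferInstance, Groth.Agent.Lib.Helper49.GeomNormalExt.hasSk_tensor K F k L (Or.inr inferInstance) hF.2⟩
  exact skN_of_ringEquiv (Algebra.TensorProduct.comm K F L).toRingEquiv h

/-- Field-point form of "flat with `(S_k)` fibres": `L ⊗[R] S` is Noetherian and `(S_k)` for
every field `L` essentially of finite type over `R`. -/
def FPk (k : ℕ) (R S : Type u) [CommRing R] [CommRing S] [Algebra R S] : Prop :=
  ∀ (L : Type u) [Field L] [Algebra R L], Algebra.EssFiniteType R L → SkN k (L ⊗[R] S)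

section FPBasic

variable (k : ℕ) (R S : Type u) [CommRing R] [CommRing S] [Algebra R S]

theorem fpk_of_fibres (h : ∀ (p : Ideal R) [p.IsPrime], SkN k (p.Fiber S)) :
    FPk k R S := by
  intro L _ _ hL
  letI := Groth.Agent.Lib.Helper49.AdicFibres.algebraResidueField R L
  haveI := Groth.Agent.Lib.Helper49.AdicFibres.isScalarTower_algebraResidueField R L
  haveI : Algebra.EssFiniteType (RingHom.ker (algebraMap R L)).ResidueField L :=
    Algebra.EssFiniteType.of_comp R _ L
  have h1 := skN_tensor_field (k := k) (RingHom.ker (algebraMap R L)).ResidueField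
    ((RingHom.ker (algebraMap R L)).Fiber S) L (h (RingHom.ker (algebraMap R L)))
  exact skN_of_ringEquiv (Algebra.TensorProduct.cancelBaseChange R
    (RingHom.ker (algebraMap R L)).ResidueField L L S).toRingEquiv h1

theorem fibres_of_fpk (h : FPk k R S) (p : Ideal R) [p.IsPrime] : SkN k (p.Fiber S) :=
  h p.ResidueField inferInstance

end FPBasic

/-- Base change of `FPk` along a map essentially of finite type. -/
theorem fpk_baseChange (k : ℕ) (A D C : Type u) [CommRing A] [CommRing D] [CommRing C]
    [Algebra A D] [Algebra A C] [Algebra.EssFiniteType A D] (h : FPk k A C) :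
    FPk k D (D ⊗[A] C) := by
  intro L _ _ hL
  letI : Algebra A L := ((algebraMap D L).comp (algebraMap A D)).toAlgebra
  haveI : IsScalarTower A D L := .of_algebraMap_eq' rfl
  haveI : Algebra.EssFiniteType A L := .comp A D L
  exact skN_of_ringEquiv (Algebra.TensorProduct.cancelBaseChange A D L L C).symm.toRingEquiv
    (h L inferInstance)

/-- `FPk` passes to a localization of the target. -/
theorem fpk_localization_target (k : ℕ) (R S : Type u) [CommRing R] [CommRing S] [Algebra R S]
    (M : Submonoid S) (S' : Type u) [CommRing S'] [Algebra S S'] [IsLocalization M S']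
    [Algebra R S'] [IsScalarTower R S S'] (h : FPk k R S) : FPk k R S' := by
  intro L _ _ hL
  letI alg : Algebra (L ⊗[R] S) (L ⊗[R] S') :=
    (Algebra.TensorProduct.map (AlgHom.id R L) (IsScalarTower.toAlgHom R S S')).toAlgebra
  haveI : IsScalarTower L (L ⊗[R] S) (L ⊗[R] S') :=
    .of_algebraMap_eq <| by intro; simp [RingHom.algebraMap_toAlgebra]
  haveI hlocz : IsLocalization
      (M.map (Algebra.TensorProduct.includeRight (R := R) (A := L)))
      (L ⊗[R] S') :=
    IsLocalization.tensorProduct_tensorProduct_right R L M S'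
      (by ext; simp [RingHom.algebraMap_toAlgebra])
  exact skN_of_isLocalization (M.map (Algebra.TensorProduct.includeRight (R := R) (A := L)))
    _ (h L hL)

/-- `FPk` passes to a localization of the source. -/
theorem fpk_localization_source (k : ℕ) (R : Type u) [CommRing R] (M : Submonoid R)
    (R' : Type u) [CommRing R'] [Algebra R R'] [IsLocalization M R'] (S : Type u) [CommRing S]
    [Algebra R S] [Algebra R' S] [IsScalarTower R R' S] (h : FPk k R S) : FPk k R' S := by
  intro L _ _ hL
  letI : Algebra R L := ((algebraMap R' L).comp (algebraMap R R')).toAlgebra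
  haveI : IsScalarTower R R' L := .of_algebraMap_eq' rfl
  haveI : Algebra.EssFiniteType R R' := .of_isLocalization R' M
  haveI : Algebra.EssFiniteType R L := .comp R R' L
  exact skN_of_ringEquiv (IsLocalization.algebraTensorEquiv M R' L S).symm.toRingEquiv
    (h L inferInstance)

section CompDescent

variable (k : ℕ) (R S W : Type u) [CommRing R] [CommRing S] [CommRing W] [Algebra R S]
  [Algebra S W] [Algebra R W] [IsScalarTower R S W] [IsNoetherianRing S] [IsNoetherianRing W]

/-- **Composition** of maps with `(S_k)` fibres. -/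
theorem fpk_comp [Module.Flat S W] (h1 : FPk k R S) (h2 : FPk k S W) : FPk k R W := by
  intro L _ _ hL
  haveI := hL
  haveI : IsNoetherianRing (S ⊗[R] L) := Algebra.EssFiniteType.isNoetherianRing S (S ⊗[R] L)
  have hX : SkN k (S ⊗[R] L) :=
    skN_of_ringEquiv (Algebra.TensorProduct.comm R L S).toRingEquiv (h1 L hL)
  haveI : Algebra.EssFiniteType W (W ⊗[S] (S ⊗[R] L)) := inferInstance
  haveI : IsNoetherianRing (W ⊗[S] (S ⊗[R] L)) :=
    Algebra.EssFiniteType.isNoetherianRing W _
  haveI : IsNoetherianRing ((S ⊗[R] L) ⊗[S] W) :=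
    isNoetherianRing_of_ringEquiv _ (Algebra.TensorProduct.comm S W (S ⊗[R] L)).toRingEquiv
  have hT : SkN k ((S ⊗[R] L) ⊗[S] W) := by
    apply skN_of_flat_of_fibres (R := S ⊗[R] L) hX
    intro q hq
    haveI : Algebra.EssFiniteType S q.ResidueField := .comp S (S ⊗[R] L) q.ResidueField
    have h3 := h2 q.ResidueField inferInstance
    exact skN_of_ringEquiv
      (Algebra.TensorProduct.cancelBaseChange S (S ⊗[R] L) q.ResidueField q.ResidueField W).symm.toRingEquiv
      h3
  obtain ⟨e⟩ := Groth.Agent.Lib.Helper49.CMFormal.nonempty_tensor_equiv R S W L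
  exact skN_of_ringEquiv e hT

/-- **Faithfully flat descent** of `(S_k)` fibres. -/
theorem fpk_descent [Module.FaithfullyFlat S W] (h : FPk k R W) : FPk k R S := by
  intro L _ _ hL
  haveI := hL
  haveI : IsNoetherianRing (S ⊗[R] L) := Algebra.EssFiniteType.isNoetherianRing S (S ⊗[R] L)
  obtain ⟨e⟩ := Groth.Agent.Lib.Helper49.CMFormal.nonempty_tensor_equiv R S W L
  have hT : SkN k ((S ⊗[R] L) ⊗[S] W) := skN_of_ringEquiv e.symm (h L hL)
  haveI : Module.FaithfullyFlat (S ⊗[R] L) ((S ⊗[R] L) ⊗[S] W) := inferInstance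
  have hX : SkN k (S ⊗[R] L) := skN_of_faithfullyFlat (S ⊗[R] L) ((S ⊗[R] L) ⊗[S] W) hT
  exact skN_of_ringEquiv (Algebra.TensorProduct.comm R S L).toRingEquiv hX

end CompDescent

/-- Transport of `FPk` along compatible ring isomorphisms of source and target. -/
theorem fpk_of_ringEquiv (k : ℕ) {R S R' S' : Type u} [CommRing R] [CommRing S] [CommRing R']
    [CommRing S'] [Algebra R S] [Algebra R' S'] (e : R ≃+* R') (e' : S ≃+* S')
    (h : ∀ r, e' (algebraMap R S r) = algebraMap R' S' (e r)) (hRS : FPk k R S) :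
    FPk k R' S' := by
  letI : Algebra R R' := e.toRingHom.toAlgebra
  letI : Algebra S S' := e'.toRingHom.toAlgebra
  letI : Algebra R S' := ((algebraMap R' S').comp (algebraMap R R')).toAlgebra
  haveI : IsScalarTower R R' S' := .of_algebraMap_eq' rfl
  haveI : IsScalarTower R S S' := .of_algebraMap_eq (fun r => (h r).symm)
  haveI : IsLocalization (⊥ : Submonoid R) R' := by
    refine IsLocalization.of_le_isUnit_of_bijective ?_ e.bijective
    rintro _ ⟨r, hr, rfl⟩
    have hr' : r = 1 := Submonoid.mem_bot.1 hr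
    subst hr'
    simp
  haveI : IsLocalization (⊥ : Submonoid S) S' := by
    refine IsLocalization.of_le_isUnit_of_bijective ?_ e'.bijective
    rintro _ ⟨r, hr, rfl⟩
    have hr' : r = 1 := Submonoid.mem_bot.1 hr
    subst hr'
    simp
  exact fpk_localization_source k R (⊥ : Submonoid R) R' S'
    (fpk_localization_target k R S (⊥ : Submonoid S) S' hRS)

section Transport

/-- `(S_k)` formal fibres in field-point form. -/
def HasFF (k : ℕ) (A : Type u) [CommRing A] [IsLocalRing A] : Prop := FPk k A (EGA4.Cpl A)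

theorem hasFF_iff (k : ℕ) (A : Type u) [CommRing A] [IsLocalRing A] [IsNoetherianRing A] :
    HasFF k A ↔ EGA4.HasSnFormalFibres k A := by
  haveI := Groth.Agent.Lib.Helper49.HenselFormal.isNoetherianRing_cpl A
  constructor
  · intro h p hp
    exact (fibres_of_fpk k A (EGA4.Cpl A) h p).2
  · intro h
    refine fpk_of_fibres k A (EGA4.Cpl A) (fun p hp => ⟨?_, h p⟩)
    exact Groth.Agent.Lib.Helper49.FibreSk.isNoetherianRing_fiber p

/-- `(S_k)` formal fibres only depend on the isomorphism class of the local ring. -/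
theorem hasFF_of_ringEquiv (k : ℕ) {R₁ R₂ : Type u} [CommRing R₁] [CommRing R₂]
    [IsLocalRing R₁] [IsLocalRing R₂] (e : R₁ ≃+* R₂)
    (h : HasFF k R₁) : HasFF k R₂ := by
  letI : Algebra R₁ R₂ := e.toRingHom.toAlgebra
  have hmax : ∀ r, e r ∈ IsLocalRing.maximalIdeal R₂ ↔ r ∈ IsLocalRing.maximalIdeal R₁ := by
    intro r
    rw [IsLocalRing.mem_maximalIdeal, IsLocalRing.mem_maximalIdeal, mem_nonunits_iff,
      mem_nonunits_iff]
    exact not_congr ⟨fun hu => by simpa using hu.map e.symm, fun hu => hu.map e⟩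
  have hmapideal : (IsLocalRing.maximalIdeal R₁).map (e : R₁ →+* R₂) =
      IsLocalRing.maximalIdeal R₂ := by
    apply le_antisymm
    · rw [Ideal.map_le_iff_le_comap]
      intro r hr
      exact (hmax r).2 hr
    · intro y hy
      obtain ⟨r, rfl⟩ := e.surjective y
      exact Ideal.mem_map_of_mem _ ((hmax r).1 hy)
  have hpow : ∀ n, (IsLocalRing.maximalIdeal R₁ ^ n).map (e : R₁ →+* R₂) =
      IsLocalRing.maximalIdeal R₂ ^ n := fun n => by rw [Ideal.map_pow, hmapideal]
  obtain ⟨E⟩ := Groth.Agent.Lib.Helper9.AdicComplEquiv.exists_algEquiv (R := R₁)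
    (IsLocalRing.maximalIdeal R₁) (IsLocalRing.maximalIdeal R₂) (Algebra.ofId R₁ R₂)
    (fun r hr => (hmax r).2 hr)
    (fun n a ha => by
      have ha' : e a ∈ (IsLocalRing.maximalIdeal R₁ ^ n).map (e : R₁ →+* R₂) := by
        rw [hpow]; exact ha
      obtain ⟨b, hb, hbe⟩ := (Ideal.mem_map_iff_of_surjective (e : R₁ →+* R₂) e.surjective).1 ha'
      have : b = a := e.injective hbe
      exact this ▸ hb)
    (fun n b => ⟨e.symm b, by
      have : (Algebra.ofId R₁ R₂) (e.symm b) = b := e.apply_symm_apply b
      rw [this, sub_self]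
      exact Ideal.zero_mem _⟩)
  refine fpk_of_ringEquiv k e E.toRingEquiv (fun r => ?_) h
  have h1 := E.commutes r
  rw [AdicCompletion.algebraMap_apply] at h1
  exact h1

theorem hasFF_quotient_aux (k : ℕ) (A : Type u) [CommRing A] [IsNoetherianRing A]
    [IsLocalRing A] (h : HasFF k A) (I : Ideal A)
    (J : Ideal (A ⧸ I)) (hJ : J = (maximalIdeal A).map (Ideal.Quotient.mk I)) :
    FPk k (A ⧸ I) (AdicCompletion J (A ⧸ I)) := by
  subst hJ
  obtain ⟨e, he⟩ := Groth.Agent.Lib.Helper96.exists_tensor_equiv_complQuot A (maximalIdeal A) I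
  have h1 : FPk k (A ⧸ I) ((A ⧸ I) ⊗[A] EGA4.Cpl A) :=
    fpk_baseChange k A (A ⧸ I) (EGA4.Cpl A) h
  exact fpk_of_ringEquiv k (RingEquiv.refl _) e (fun r => he r) h1

/-- `(S_k)` formal fibres pass to quotients. -/
theorem hasFF_quotient (k : ℕ) (A : Type u) [CommRing A] [IsNoetherianRing A]
    [IsLocalRing A] (h : HasFF k A) (I : Ideal A) [Nontrivial (A ⧸ I)] : HasFF k (A ⧸ I) :=
  hasFF_quotient_aux k A h I _
    (IsLocalRing.map_maximalIdeal_of_surjective (Ideal.Quotient.mk I)
      Ideal.Quotient.mk_surjective).symm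

/-- `(S_k)` formal fibres pass to quotients (surjective image form). -/
theorem hasFF_of_surjective (k : ℕ) {R S : Type u} [CommRing R] [CommRing S]
    [IsNoetherianRing R] [IsLocalRing R] [IsLocalRing S] (ρ : R →+* S)
    (hρ : Function.Surjective ρ) (h : HasFF k R) : HasFF k S := by
  let e : (R ⧸ RingHom.ker ρ) ≃+* S := RingHom.quotientKerEquivOfSurjective hρ
  haveI : Nontrivial (R ⧸ RingHom.ker ρ) := e.toEquiv.nontrivial
  exact hasFF_of_ringEquiv k e (hasFF_quotient k R h (RingHom.ker ρ))

/-- Cohen–Macaulay formal fibres are `(S_k)`. -/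
theorem hasFF_of_hasCMFormalFibres (k : ℕ) (R : Type u) [CommRing R] [IsLocalRing R]
    (h : EGA4.HasCMFormalFibres R) : HasFF k R :=
  fpk_of_fibres k R (EGA4.Cpl R) (fun p _ => skN_of_isCM (h p))

end Transport

section Core

variable (k : ℕ) (R S : Type u) [CommRing R] [CommRing S] [IsNoetherianRing R]
  [IsNoetherianRing S] [IsLocalRing R] [IsLocalRing S] [Algebra R S]
  [IsLocalHom (algebraMap R S)] [Module.Flat R S]

/-- **Descent of `(S_k)` formal fibres** along a flat local homomorphism with `(S_k)` fibres. -/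
theorem hasFF_of_flat_of_fpk (h3 : FPk k R S) (h4 : HasFF k S) : HasFF k R := by
  haveI : IsNoetherianRing (EGA4.Cpl S) :=
    Groth.Agent.Lib.Helper49.HenselFormal.isNoetherianRing_cpl _
  haveI : IsNoetherianRing (EGA4.Cpl R) :=
    Groth.Agent.Lib.Helper49.HenselFormal.isNoetherianRing_cpl _
  have h5 : FPk k R (EGA4.Cpl S) := fpk_comp k R S (EGA4.Cpl S) h3 h4
  letI algVW : Algebra (EGA4.Cpl R) (EGA4.Cpl S) :=
    (Groth.Agent.Lib.Helper96.cplMap R S).toAlgebra
  haveI : IsScalarTower R (EGA4.Cpl R) (EGA4.Cpl S) :=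
    .of_algebraMap_eq fun x => by
      rw [IsScalarTower.algebraMap_apply R S (EGA4.Cpl S)]
      exact (Groth.Agent.Lib.Helper96.cplMap_algebraMap R S x).symm
  haveI : Module.Flat (EGA4.Cpl R) (EGA4.Cpl S) :=
    RingHom.flat_algebraMap_iff.mp (Groth.Agent.Lib.Helper96.flat_cplMap R S)
  haveI : IsLocalHom (algebraMap (EGA4.Cpl R) (EGA4.Cpl S)) :=
    Groth.Agent.Lib.Helper96.isLocalHom_cplMap R S
  haveI : Module.FaithfullyFlat (EGA4.Cpl R) (EGA4.Cpl S) :=
    Module.FaithfullyFlat.of_flat_of_isLocalHom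
  exact fpk_descent k R (EGA4.Cpl R) (EGA4.Cpl S) h5

end Core

section Main2

variable (k : ℕ) (A : Type u) [CommRing A] [IsNoetherianRing A] [IsLocalRing A]

/-- **Key step**: the local rings of a polynomial ring over a Noetherian local ring with
`(S_k)` formal fibres have `(S_k)` formal fibres. -/
theorem hasFF_localization_mvPolynomial (hA : HasFF k A) (n : ℕ)
    (Q : Ideal (MvPolynomial (Fin n) A)) [Q.IsPrime] :
    HasFF k (Localization.AtPrime Q) := by
  haveI := Groth.Agent.Lib.Helper49.HenselFormal.isNoetherianRing_cpl A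
  haveI : Module.FaithfullyFlat A (EGA4.Cpl A) :=
    Groth.Agent.Lib.Helper49.HenselFormal.faithfullyFlat_cpl A
  haveI : Module.FaithfullyFlat (MvPolynomial (Fin n) A)
      (MvPolynomial (Fin n) A ⊗[A] EGA4.Cpl A) := inferInstance
  obtain ⟨Q', hQ', hlo⟩ := Ideal.exists_isPrime_liesOver_of_faithfullyFlat
    (B := MvPolynomial (Fin n) A ⊗[A] EGA4.Cpl A) Q
  haveI : IsNoetherianRing (EGA4.Cpl A ⊗[A] MvPolynomial (Fin n) A) :=
    Algebra.EssFiniteType.isNoetherianRing (EGA4.Cpl A) _
  haveI : IsNoetherianRing (MvPolynomial (Fin n) A ⊗[A] EGA4.Cpl A) :=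
    isNoetherianRing_of_ringEquiv _
      (Algebra.TensorProduct.comm A (EGA4.Cpl A) (MvPolynomial (Fin n) A)).toRingEquiv
  letI := Localization.AtPrime.algebraOfLiesOver Q Q'
  haveI hloc : IsLocalHom (algebraMap (Localization.AtPrime Q) (Localization.AtPrime Q')) := by
    rw [RingHom.algebraMap_toAlgebra]
    exact Localization.isLocalHom_localRingHom Q Q' _ Ideal.LiesOver.over
  haveI hflat : Module.Flat (Localization.AtPrime Q) (Localization.AtPrime Q') :=
    RingHom.Flat.localRingHom (f := algebraMap (MvPolynomial (Fin n) A)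
      (MvPolynomial (Fin n) A ⊗[A] EGA4.Cpl A)) (RingHom.flat_algebraMap_iff.mpr inferInstance)
      Q' Q Ideal.LiesOver.over
  have h1 : FPk k (MvPolynomial (Fin n) A) (MvPolynomial (Fin n) A ⊗[A] EGA4.Cpl A) :=
    fpk_baseChange k A (MvPolynomial (Fin n) A) (EGA4.Cpl A) hA
  have h2 : FPk k (MvPolynomial (Fin n) A) (Localization.AtPrime Q') :=
    fpk_localization_target k (MvPolynomial (Fin n) A) (MvPolynomial (Fin n) A ⊗[A] EGA4.Cpl A)
      Q'.primeCompl (Localization.AtPrime Q') h1
  have h3 : FPk k (Localization.AtPrime Q) (Localization.AtPrime Q') :=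
    fpk_localization_source k (MvPolynomial (Fin n) A) Q.primeCompl (Localization.AtPrime Q)
      (Localization.AtPrime Q') h2
  have hS : HasFF k (Localization.AtPrime Q') :=
    hasFF_of_hasCMFormalFibres k _
      (Groth.Agent.Lib.Helper49.CMFormal.hasCMFormalFibres_localization_tensor_cpl A n Q')
  exact hasFF_of_flat_of_fpk k (Localization.AtPrime Q) (Localization.AtPrime Q') h3 hS

/-- `(S_k)` formal fibres pass to Noetherian local rings essentially of finite type. -/
theorem hasFF_of_essFiniteType (hA : HasFF k A) (B : Type u) [CommRing B] [IsLocalRing B]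
    [Algebra A B] [Algebra.EssFiniteType A B] : HasFF k B := by
  obtain ⟨n, Q, hQ, ρ, hρ⟩ :=
    Groth.Agent.Lib.Helper15.FormalCat.exists_surjective_localization_mvPolynomial A B
  haveI : IsNoetherianRing (Localization.AtPrime Q) :=
    IsLocalization.isNoetherianRing Q.primeCompl _ inferInstance
  exact hasFF_of_surjective k ρ hρ (hasFF_localization_mvPolynomial k A hA n Q)

/-- **EGA IV 7.4.4 for `(S_k)`**: if the formal fibres of a Noetherian local ring `A` satisfy
`(S_k)`, so do those of every Noetherian local ring essentially of finite type over `A`. -/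
theorem hasSnFormalFibres_of_essFiniteType (hA : EGA4.HasSnFormalFibres k A) (B : Type u)
    [CommRing B] [IsLocalRing B] [IsNoetherianRing B] [Algebra A B]
    [Algebra.EssFiniteType A B] : EGA4.HasSnFormalFibres k B :=
  (hasFF_iff k B).mp (hasFF_of_essFiniteType k A ((hasFF_iff k A).mpr hA) B)

end Main2

end Groth.Agent.Lib.Helper49.SkFormal
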