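import Mathlib
import Groth.Agent.Lib.Helper49.HenselFormal

/-!
# Completion of a unibranch local domain with geometrically normal formal fibres (helper49)

For a Noetherian local domain `A` with geometrically normal formal fibres and a finite
extension `K` of its fraction field such that the integral closure of `A` in `K` is local,
`K ⊗_A Â` is a domain.  In particular (EGA IV 7.6.3, one direction) if the normalization of `A`
is local, then `Â` is a domain.

Namespace `Groth.Agent.Lib.Helper49.UnibranchCpl`.
-/

set_option autoImplicit false
set_option linter.style.haveILetI false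
universe u

open TensorProduct IsLocalRing

namespace Groth.Agent.Lib.Helper49.UnibranchCpl

open Groth.Agent.Lib.Helper49.HenselFormal

variable (A : Type u) [CommRing A] [IsNoetherianRing A] [IsLocalRing A] [IsDomain A]
  (h : EGA4.HasGeomNormalFormalFibres A)
  (K : Type u) [Field K] [Algebra A K] [Algebra (FractionRing A) K]
  [IsScalarTower A (FractionRing A) K] [FiniteDimensional (FractionRing A) K]

include h in
theorem isNormalRing_tensor_of_finite : EGA4.IsNormalRing (K ⊗[A] EGA4.Cpl A) := by
  haveI : Algebra.QuasiFinite A (FractionRing A) :=
    Groth.Agent.Lib.Helper49.HomLoc.quasiFinite_of_isLocalization A (nonZeroDivisors A)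
      (FractionRing A)
  haveI : Algebra.QuasiFinite (FractionRing A) K := inferInstance
  haveI : Algebra.QuasiFinite A K := Algebra.QuasiFinite.trans A (FractionRing A) K
  exact Groth.Agent.Lib.Helper49.AdicFibres.of_fibers_finite (fun T _ => EGA4.IsNormalRing T)
    hiso A (EGA4.Cpl A) h K inferInstance

include h in
/-- The integral closure of `A` in a finite extension `K` of its fraction field is a finite
`A`-module (`A` is Nagata). -/
theorem finite_integralClosure : Module.Finite A (integralClosure A K) := by
  have hN := isNormalRing_tensor_of_finite A h K
  haveI hNoeth := isNoetherianRing_cpl A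
  haveI := faithfullyFlat_cpl A
  have hred : IsReduced (EGA4.Cpl A ⊗[A] K) := by
    haveI := isReduced_of_isNormalRing _ hN
    exact isReduced_of_injective (Algebra.TensorProduct.comm A (EGA4.Cpl A) K).toRingHom
      (Algebra.TensorProduct.comm A (EGA4.Cpl A) K).injective
  exact Groth.Agent.Lib.Helper88.FormalFibre.finite_integralClosure_of_faithfullyFlat
    (isNagata_cpl A) hred

include h in
/-- `K ⊗_A Â` is a domain for finite extensions `K` of the fraction field in which the
integral closure of `A` is local. -/
theorem isDomain_tensor_of_finite (hloc : IsLocalRing (integralClosure A K)) :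
    IsDomain (K ⊗[A] EGA4.Cpl A) := by
  haveI hNoeth := isNoetherianRing_cpl A
  haveI := faithfullyFlat_cpl A
  haveI hfin : Module.Finite A (integralClosure A K) := finite_integralClosure A h K
  haveI : IsIntegrallyClosed (integralClosure A K) :=
    integralClosure.isIntegrallyClosedOfFiniteExtension (FractionRing A)
  haveI : IsFractionRing (integralClosure A K) K :=
    integralClosure.isFractionRing_of_finite_extension (FractionRing A) K
  haveI : IsNoetherianRing (integralClosure A K) := IsNoetherianRing.of_finite A _
  haveI : Algebra.IsIntegral A (integralClosure A K) := inferInstance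
  have hnormhom : EGA4.IsNormalHom A (EGA4.Cpl A) := ⟨inferInstance, h⟩
  haveI : Algebra.QuasiFinite A (integralClosure A K) := inferInstance
  have hT1 : EGA4.IsNormalHom (integralClosure A K) (integralClosure A K ⊗[A] EGA4.Cpl A) :=
    Groth.Agent.Lib.Helper49.NormalHom.isNormalHom_baseChange A (integralClosure A K)
      (EGA4.Cpl A) hnormhom
  haveI : IsNoetherianRing (integralClosure A K ⊗[A] EGA4.Cpl A) :=
    Groth.Agent.Lib.Helper49.NormalHom.isNoetherianRing_tensor_of_finite A
      (integralClosure A K) (EGA4.Cpl A)
  have hT2 : EGA4.IsNormalRing (integralClosure A K ⊗[A] EGA4.Cpl A) :=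
    Groth.Agent.Lib.Helper49.EtaleNormal.isNormalRing_of_isNormalHom (integralClosure A K) _
      (Groth.Agent.Lib.Helper49.EtaleNormal.isNormalRing_of_isIntegrallyClosed _) hT1
  haveI : IsLocalRing (integralClosure A K ⊗[A] EGA4.Cpl A) :=
    Groth.Agent.Lib.Helper98.Olivier.isLocalRing_tensorProduct (surjective_residueField_cpl A)
  haveI : IsDomain (integralClosure A K ⊗[A] EGA4.Cpl A) :=
    isDomain_of_isNormalRing_of_isLocalRing _ hT2
  have hinj : Function.Injective
      (algebraMap (integralClosure A K) (integralClosure A K ⊗[A] EGA4.Cpl A)) :=
    FaithfulSMul.algebraMap_injective _ _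
  exact isDomain_tensor_of_isFractionRing A (EGA4.Cpl A) (integralClosure A K) K hinj

include h in
/-- **EGA IV 7.6.3 (⇐)**: the completion of a Noetherian local domain with geometrically
normal formal fibres whose normalization is local is a domain. -/
theorem isDomain_cpl (hloc : IsLocalRing (integralClosure A (FractionRing A))) :
    IsDomain (EGA4.Cpl A) := by
  haveI := isDomain_tensor_of_finite A h (FractionRing A) hloc
  exact (includeRight_injective A (FractionRing A) (EGA4.Cpl A)
    (IsFractionRing.injective A _)).isDomain
    (Algebra.TensorProduct.includeRight : EGA4.Cpl A →ₐ[A] FractionRing A ⊗[A] EGA4.Cpl A).toRingHom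

end Groth.Agent.Lib.Helper49.UnibranchCpl
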