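import Groth.Agent.S9633
import Groth.Agent.S9830
import Mathlib.AlgebraicGeometry.Limits
import Mathlib.AlgebraicGeometry.Morphisms.QuasiSeparated
import Mathlib.AlgebraicGeometry.Morphisms.Separated
import Mathlib.Topology.KrullDimension

/-!
Zero-dimensional (T1) schemes: helper lemmas.
-/

set_option autoImplicit false
universe u

open CategoryTheory AlgebraicGeometry TopologicalSpace

namespace Groth.Agent.Lib.Helper49

theorem t1Space_of_topologicalKrullDim_le_zero {X : Type*} [TopologicalSpace X] [T0Space X]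
    (h : topologicalKrullDim X ≤ 0) : T1Space X := by
  rw [t1Space_iff_specializes_imp_eq]
  intro x y hxy
  have hmin := (Order.krullDim_nonpos_iff_forall_isMin.mp h)
    (⟨closure {x}, isIrreducible_singleton.closure, isClosed_closure⟩ : IrreducibleCloseds X)
  have hle : (⟨closure {y}, isIrreducible_singleton.closure, isClosed_closure⟩ :
      IrreducibleCloseds X) ≤ ⟨closure {x}, isIrreducible_singleton.closure, isClosed_closure⟩ := by
    change closure {y} ⊆ closure {x}
    exact closure_minimal (Set.singleton_subset_iff.mpr (specializes_iff_mem_closure.mp hxy))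
      isClosed_closure
  have hge := hmin hle
  have hyx : y ⤳ x := by
    rw [specializes_iff_mem_closure]
    exact hge (subset_closure rfl)
  exact (hxy.antisymm hyx).eq

/-- the valuative-criterion argument of S9830 only needs T1 + quasi-separated -/
theorem isSeparated_of_t1 (X : Scheme.{u}) [T1Space X] [QuasiSeparatedSpace X] :
    X.IsSeparated := by
  constructor
  have hqs : QuasiSeparated (Limits.terminal.from X) := by
    rw [quasiSeparated_iff_quasiSeparatedSpace]
    infer_instance
  apply IsSeparated.of_valuativeCriterion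
  intro S
  constructor
  rintro ⟨l₁, hl₁, hl₁'⟩ ⟨l₂, hl₂, hl₂'⟩
  apply CommSq.LiftStruct.ext
  dsimp only at *
  let η : PrimeSpectrum S.R := ⟨⊥, Ideal.isPrime_bot⟩
  obtain ⟨_, ⟨U, hU, rfl⟩, hxU, -⟩ :=
    X.isBasis_affineOpens.exists_subset_of_mem_open (Set.mem_univ (l₁ η)) isOpen_univ
  have hdom : IsDominant (Spec.map (CommRingCat.ofHom (algebraMap S.R S.K))) :=
    Groth.Agent.S9830.isDominant_spec_map_of_injective S.R S.K
      (FaithfulSMul.algebraMap_injective S.R S.K)
  have hη : l₂ η = l₁ η := by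
    obtain ⟨pt⟩ : Nonempty (Spec (.of S.K)) := inferInstance
    have hpt : (Spec.map (CommRingCat.ofHom (algebraMap S.R S.K))) pt = η := by
      apply PrimeSpectrum.ext
      change Ideal.comap (algebraMap S.R S.K) _ = ⊥
      have hbot : (pt : PrimeSpectrum S.K).asIdeal = ⊥ :=
        ((Ideal.eq_bot_or_top _).resolve_right (pt : PrimeSpectrum S.K).isPrime.ne_top)
      rw [hbot, ← RingHom.ker_eq_comap_bot,
        (RingHom.injective_iff_ker_eq_bot _).mp (FaithfulSMul.algebraMap_injective S.R S.K)]
    rw [← hpt, ← Scheme.Hom.comp_apply, ← Scheme.Hom.comp_apply, hl₁, hl₂]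
  have h1 : Set.range l₁ ⊆ Set.range (Scheme.Opens.ι U) := by
    rintro _ ⟨s, rfl⟩
    rw [Groth.Agent.S9830.const_of_t1 S.R X l₁ s, Scheme.Opens.range_ι]
    exact hxU
  have h2 : Set.range l₂ ⊆ Set.range (Scheme.Opens.ι U) := by
    rintro _ ⟨s, rfl⟩
    rw [Groth.Agent.S9830.const_of_t1 S.R X l₂ s, Scheme.Opens.range_ι]
    change l₂ η ∈ _
    rw [hη]
    exact hxU
  have haff : IsAffine (Scheme.Opens.toScheme U) := hU
  have key : IsOpenImmersion.lift (Scheme.Opens.ι U) l₁ h1 =
      IsOpenImmersion.lift (Scheme.Opens.ι U) l₂ h2 := by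
    apply ext_of_isDominant (Spec.map (CommRingCat.ofHom (algebraMap S.R S.K)))
    rw [← cancel_mono (Scheme.Opens.ι U), Category.assoc, Category.assoc,
      IsOpenImmersion.lift_fac, IsOpenImmersion.lift_fac, hl₁, hl₂]
  rw [← IsOpenImmersion.lift_fac (Scheme.Opens.ι U) l₁ h1,
    ← IsOpenImmersion.lift_fac (Scheme.Opens.ι U) l₂ h2, key]

/-- In a T1 scheme, the coordinate ring of an affine open has all primes maximal. -/
theorem isMaximal_of_isPrime_of_t1 (X : Scheme.{u}) [T1Space X] {U : X.Opens}
    (hU : IsAffineOpen U) : ∀ p : Ideal Γ(X, U), p.IsPrime → p.IsMaximal := by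
  intro p hp
  have hemb : Topology.IsEmbedding hU.fromSpec := hU.fromSpec.isOpenEmbedding.isEmbedding
  have : T1Space (PrimeSpectrum Γ(X, U)) := hemb.t1Space
  exact (PrimeSpectrum.isClosed_singleton_iff_isMaximal ⟨p, hp⟩).mp (isClosed_singleton)

/-- In a T1 scheme, a compact open subset of an affine open has open complement in it. -/
theorem isOpen_diff_of_t1 (X : Scheme.{u}) [T1Space X] {U : X.Opens} (hU : IsAffineOpen U)
    (W : Set X) (hWo : IsOpen W) (hWc : IsCompact W) (hWU : W ⊆ U) :
    IsOpen ((U : Set X) \ W) := by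
  have hoe : Topology.IsOpenEmbedding hU.fromSpec := hU.fromSpec.isOpenEmbedding
  have hrange : Set.range hU.fromSpec = (U : Set X) := hU.range_fromSpec
  have hW'c : IsCompact (hU.fromSpec ⁻¹' W) :=
    (hoe.isInducing.isCompact_preimage_iff (hrange ▸ hWU)).mpr hWc
  have hW'o : IsOpen (hU.fromSpec ⁻¹' W) := hWo.preimage hU.fromSpec.continuous
  have h64 : (∀ p : Ideal Γ(X, U), p.IsPrime → p.IsMaximal) →
      ∀ W : Set (PrimeSpectrum Γ(X, U)), IsOpen W → IsCompact W → IsClosed W :=
    ((Groth.Agent.S9633.result (R := Γ(X, U))).out 5 3).mp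
  have hclosed : IsClosed (hU.fromSpec ⁻¹' W) :=
    h64 (isMaximal_of_isPrime_of_t1 X hU) _ hW'o hW'c
  have := hoe.isOpenMap _ hclosed.isOpen_compl
  rwa [Set.image_compl_preimage, hrange] at this

/-- A subset of an affine open which is clopen in it is an affine open. -/
theorem isAffineOpen_of_isClopen_in (X : Scheme.{u}) {U : X.Opens} (hU : IsAffineOpen U)
    (C : X.Opens) (hCU : C ≤ U) (hdiff : IsOpen ((U : Set X) \ C)) : IsAffineOpen C := by
  have hrange : Set.range hU.fromSpec = (U : Set X) := hU.range_fromSpec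
  have hclopen : IsClopen (hU.fromSpec ⁻¹' (C : Set X)) := by
    refine ⟨?_, C.2.preimage hU.fromSpec.continuous⟩
    rw [← isOpen_compl_iff]
    have : (hU.fromSpec ⁻¹' (C : Set X))ᶜ = hU.fromSpec ⁻¹' ((U : Set X) \ C) := by
      ext x
      simp only [Set.mem_compl_iff, Set.mem_preimage, Set.mem_sdiff]
      constructor
      · intro h
        exact ⟨hrange ▸ Set.mem_range_self x, h⟩
      · exact fun h => h.2
    rw [this]
    exact hdiff.preimage hU.fromSpec.continuous
  obtain ⟨e, _, he⟩ := PrimeSpectrum.isClopen_iff.mp hclopen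
  have hC : C = X.basicOpen e := by
    rw [← hU.fromSpec_image_basicOpen]
    ext1
    have e1 : ((hU.fromSpec ''ᵁ PrimeSpectrum.basicOpen e : X.Opens) : Set X) =
        hU.fromSpec '' (hU.fromSpec ⁻¹' (C : Set X)) := by
      rw [he]; rfl
    rw [e1, Set.image_preimage_eq_inter_range, hrange, Set.inter_eq_left.mpr hCU]
  rw [hC]
  exact hU.basicOpen e

end Groth.Agent.Lib.Helper49
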